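import Cfsg.Agent.Lib.MinNonCA.Pairing
import Cfsg.Agent.Lib.Classical.SL2Classes
import Cfsg.Agent.Lib.Classical.SL2Involutions
import Cfsg.Agent.Lib.Classical.DicksonProper
import Mathlib.GroupTheory.Sylow
import Mathlib.FieldTheory.Finite.Basic

/-!
Central extensions of `SL₂(2ⁿ)`, `2ⁿ > 4`, have commutative Sylow 2-subgroups.
-/

set_option autoImplicit false

namespace Cfsg.Agent.MinNonCA

open Matrix SL2Classes

variable {F : Type} [Field F]

local notation "S" => Matrix.SpecialLinearGroup (Fin 2) F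

theorem upper_add (a b : F) : upper (a + b) = upper a * upper b := Subtype.ext (by
  rw [Matrix.SpecialLinearGroup.coe_mul, upper_val, upper_val, upper_val]
  ext i j
  fin_cases i <;> fin_cases j <;> simp [Matrix.mul_apply, Fin.sum_univ_two, add_comm])

/-- The diagonal element with entries `t`, `t⁻¹`. -/
def dia (t : F) (ht : t ≠ 0) : S := ⟨!![t, 0; 0, t⁻¹], by simp [Matrix.det_fin_two, ht]⟩

theorem dia_upper {t : F} (ht : t ≠ 0) (x : F) :
    dia t ht * upper x = upper (t * t * x) * dia t ht := Subtype.ext (by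
  rw [Matrix.SpecialLinearGroup.coe_mul, Matrix.SpecialLinearGroup.coe_mul, upper_val, upper_val]
  ext i j
  fin_cases i <;> fin_cases j <;> simp [dia, Matrix.mul_apply, Fin.sum_univ_two]
  field_simp)

theorem exists_good [Fintype F] (h4 : 4 < Fintype.card F) :
    ∃ s : F, s ≠ 0 ∧ 1 + s ≠ 0 ∧ s * s + s + 1 ≠ 0 := by
  classical
  by_contra hno
  push Not at hno
  have hle : (Finset.univ : Finset F) ⊆
      {0, -1} ∪ Finset.univ.filter (fun s : F => s * s + s + 1 = 0) := by
    intro s _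
    simp only [Finset.mem_union, Finset.mem_insert, Finset.mem_singleton, Finset.mem_filter,
      Finset.mem_univ, true_and]
    by_cases a0 : s = 0
    · exact Or.inl (Or.inl a0)
    by_cases a1 : 1 + s = 0
    · exact Or.inl (Or.inr (eq_neg_of_add_eq_zero_right a1))
    exact Or.inr (hno s a0 a1)
  have hroots : (Finset.univ.filter (fun s : F => s * s + s + 1 = 0)).card ≤ 2 := by
    rcases (Finset.univ.filter (fun s : F => s * s + s + 1 = 0)).eq_empty_or_nonempty with e | ⟨r, hr⟩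
    · simp [e]
    have hrr : r * r + r + 1 = 0 := (Finset.mem_filter.1 hr).2
    refine (Finset.card_le_card (show _ ⊆ ({r, -1 - r} : Finset F) from fun s hs => ?_)).trans
      Finset.card_le_two
    have hss : s * s + s + 1 = 0 := (Finset.mem_filter.1 hs).2
    have : (s - r) * (s + r + 1) = 0 := by linear_combination hss - hrr
    rcases mul_eq_zero.1 this with e | e
    · simp [sub_eq_zero.1 e]
    · simp [show s = -1 - r by linear_combination e]
  have h2 : ({0, -1} : Finset F).card ≤ 2 := Finset.card_le_two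
  have := (Finset.card_le_card hle).trans (Finset.card_union_le _ _)
  rw [Finset.card_univ] at this
  omega

theorem sylow_comm {X : Type*} [Group X] [Finite X] (F : Type) [Field F] [Fintype F] [CharP F 2]
    (h4 : 4 < Fintype.card F) (f : X →* Matrix.SpecialLinearGroup (Fin 2) F)
    (hf : Function.Surjective f) (hk : f.ker ≤ Subgroup.center X) (P : Sylow 2 X) :
    IsMulCommutative P := by
  classical
  haveI : Fact (Nat.Prime 2) := ⟨Nat.prime_two⟩
  obtain ⟨s, hs, hs1, hne⟩ := exists_good h4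
  have hsq : ∀ a : F, a ≠ 0 → ∃ t, ∃ _ : t ≠ 0, a = t * t := fun a ha => by
    obtain ⟨t, ht⟩ := FiniteField.isSquare_of_char_two (ringChar.eq F 2) a
    exact ⟨t, fun e => ha (by rw [ht, e, mul_zero]), ht⟩
  obtain ⟨t, ht, hst⟩ := hsq s hs
  obtain ⟨t', ht', hst'⟩ := hsq (1 + s) hs1
  let φ : Multiplicative F →* Matrix.SpecialLinearGroup (Fin 2) F :=
    MonoidHom.mk' (fun a => upper a.toAdd) fun a b => upper_add a.toAdd b.toAdd
  have hφ : Function.Injective φ := fun a b e => by
    have := congrFun (congrFun (congrArg Subtype.val e) 0) 1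
    simpa [φ] using this
  obtain ⟨n, -, hn⟩ := FiniteField.card F 2
  have hcard : Nat.card φ.range = 2 ^ (n : ℕ) := by
    rw [← Nat.card_congr (MonoidHom.ofInjective hφ).toEquiv,
      Nat.card_congr Multiplicative.toAdd, Nat.card_eq_fintype_card, hn]
  have hidx : ¬ 2 ∣ φ.range.index := by
    have h1 := Subgroup.card_mul_index φ.range
    have hcq : Nat.card F = 2 ^ (n : ℕ) := by rw [Nat.card_eq_fintype_card, hn]
    rw [hcard, Dickson.card_sl2_eq, hcq] at h1
    have h2 := Nat.eq_of_mul_eq_mul_left (Nat.two_pow_pos _) h1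
    rw [h2, Nat.two_dvd_ne_zero]
    have he : Even ((2 ^ (n : ℕ)) ^ 2) :=
      ((Nat.even_pow.2 ⟨even_two, n.pos.ne'⟩).pow_of_ne_zero two_ne_zero)
    have hpos : 1 ≤ (2 ^ (n : ℕ)) ^ 2 := Nat.one_le_pow _ _ (Nat.two_pow_pos _)
    obtain ⟨j, hj⟩ := he
    omega
  let U : Sylow 2 (Matrix.SpecialLinearGroup (Fin 2) F) := (IsPGroup.of_card hcard).toSylow hidx
  obtain ⟨R, hR⟩ := (P.isPGroup'.map f).exists_le_sylow
  obtain ⟨g, hg⟩ := MulAction.exists_smul_eq (Matrix.SpecialLinearGroup (Fin 2) F) R U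
  obtain ⟨γ, hγ⟩ := hf g
  have hmem : ∀ p : P, ∃ x : F, f (γ * p * γ⁻¹) = upper x := fun p => by
    have h1 : f p ∈ (R : Subgroup (Matrix.SpecialLinearGroup (Fin 2) F)) :=
      hR ⟨p, p.2, rfl⟩
    have h2 : g * f p * g⁻¹ ∈ (U : Subgroup (Matrix.SpecialLinearGroup (Fin 2) F)) := by
      rw [← hg, Sylow.coe_subgroup_smul]
      exact ⟨f p, h1, rfl⟩
    obtain ⟨x, hx⟩ : g * f p * g⁻¹ ∈ φ.range := h2
    exact ⟨x.toAdd, by rw [map_mul, map_mul, map_inv, hγ, ← hx]; rfl⟩
  refine ⟨⟨fun a b => Subtype.ext ?_⟩⟩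
  obtain ⟨x, hx⟩ := hmem a
  obtain ⟨y, hy⟩ := hmem b
  have h := commute_of_pairing f hf hk upper upper_add hs hne
    (d := dia t ht) (e := dia t' ht') (fun z => by rw [dia_upper, ← hst])
    (fun z => by rw [dia_upper, ← hst']) hx hy
  calc (a : X) * b = γ⁻¹ * ((γ * a * γ⁻¹) * (γ * b * γ⁻¹)) * γ := by group
    _ = γ⁻¹ * ((γ * b * γ⁻¹) * (γ * a * γ⁻¹)) * γ := by rw [h]
    _ = b * a := by group

end Cfsg.Agent.MinNonCA
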