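import Cfsg.Agent.Lib.MinNonCA.Defs
import Cfsg.Agent.Lib.OddChar.OddTheorem
import Cfsg.Agent.Lib.GW.InvolAction
import Cfsg.Agent.Lib.Transfer.Basic
import Mathlib.GroupTheory.Transfer
import Mathlib.GroupTheory.IsPerfect
import Mathlib.GroupTheory.Sylow

/-!
Tools for groups all of whose proper subgroups have abelian centralisers of non-central elements.
-/

set_option autoImplicit false

namespace Cfsg.Agent.MinNonCA

universe u

variable {G : Type u} [Group G]

theorem CA.subgroup (h : CA G) (H : Subgroup G) : CA H := by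
  intro x hx
  have hxG : (x : G) ∉ Subgroup.center G := fun hc => hx (Subgroup.mem_center_iff.2 fun y =>
    Subtype.ext (Subgroup.mem_center_iff.1 hc y))
  refine ⟨⟨fun a b => Subtype.ext (Subtype.ext ?_)⟩⟩
  have hm : ∀ c : Subgroup.centralizer ({x} : Set H), ((c : H) : G) ∈ Subgroup.centralizer ({(x : G)} : Set G) :=
    fun c => Subgroup.mem_centralizer_singleton_iff.2 (congrArg Subtype.val
      (Subgroup.mem_centralizer_singleton_iff.1 c.2))
  simpa using congrArg Subtype.val ((h _ hxG).is_comm.comm ⟨_, hm a⟩ ⟨_, hm b⟩)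

theorem CA.properCA (h : CA G) : ProperCA G := fun H _ => h.subgroup H

theorem CA.comm (h : CA G) {x a b : G} (hx : x ∉ Subgroup.center G) (hax : a * x = x * a)
    (hbx : b * x = x * b) : a * b = b * a :=
  congrArg Subtype.val ((h x hx).is_comm.comm ⟨a, Subgroup.mem_centralizer_singleton_iff.2 hax⟩
    ⟨b, Subgroup.mem_centralizer_singleton_iff.2 hbx⟩)

/-- A proper subgroup containing two non-commuting elements of a centraliser centralises. -/
theorem ProperCA.central (h : ProperCA G) {H : Subgroup G} (hH : H ≠ ⊤) {x a b : G} (hx : x ∈ H)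
    (ha : a ∈ H) (hb : b ∈ H) (hax : a * x = x * a) (hbx : b * x = x * b) (hab : a * b ≠ b * a) :
    ∀ g ∈ H, g * x = x * g := by
  intro g hg
  by_contra hne
  have hxc : (⟨x, hx⟩ : H) ∉ Subgroup.center H := fun hc =>
    hne (congrArg Subtype.val (Subgroup.mem_center_iff.1 hc ⟨g, hg⟩))
  exact hab (congrArg Subtype.val ((h H hH).comm hxc (a := ⟨a, ha⟩) (b := ⟨b, hb⟩)
    (Subtype.ext hax) (Subtype.ext hbx)))

/-- In a proper subgroup a centraliser of a non-central element is commutative. -/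
theorem ProperCA.comm (h : ProperCA G) {H : Subgroup G} (hH : H ≠ ⊤) {x a b g : G} (hx : x ∈ H)
    (ha : a ∈ H) (hb : b ∈ H) (hg : g ∈ H) (hgx : g * x ≠ x * g) (hax : a * x = x * a)
    (hbx : b * x = x * b) : a * b = b * a := by
  by_contra hab
  exact hgx (h.central hH hx ha hb hax hbx hab g hg)

theorem mem_C {x g : G} : g ∈ Subgroup.centralizer ({x} : Set G) ↔ g * x = x * g :=
  Subgroup.mem_centralizer_singleton_iff

theorem not_center_iff {x : G} : x ∉ Subgroup.center G ↔ ∃ g, g * x ≠ x * g := by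
  simp [Subgroup.mem_center_iff, not_forall]

theorem C_ne_top {x : G} (hx : x ∉ Subgroup.center G) :
    Subgroup.centralizer ({x} : Set G) ≠ ⊤ := fun h => hx (Subgroup.mem_center_iff.2 fun g =>
  mem_C.1 (h ▸ Subgroup.mem_top g))

/-- The elements commuting with `x` modulo the centre. -/
def modC (x : G) : Subgroup G where
  carrier := {g | g * x * g⁻¹ * x⁻¹ ∈ Subgroup.center G}
  one_mem' := by simp
  mul_mem' := by
    intro a b ha hb
    have hb' := Subgroup.mem_center_iff.1 hb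
    have e : a * b * x * (a * b)⁻¹ * x⁻¹ = b * x * b⁻¹ * x⁻¹ * (a * x * a⁻¹ * x⁻¹) := by
      calc a * b * x * (a * b)⁻¹ * x⁻¹ = a * (b * x * b⁻¹ * x⁻¹) * (x * a⁻¹ * x⁻¹) := by group
        _ = b * x * b⁻¹ * x⁻¹ * a * (x * a⁻¹ * x⁻¹) := by rw [hb' a]
        _ = _ := by group
    show a * b * x * (a * b)⁻¹ * x⁻¹ ∈ Subgroup.center G
    rw [e]
    exact mul_mem hb ha
  inv_mem' := by
    intro a ha
    have ha' := Subgroup.mem_center_iff.1 (inv_mem ha)
    have e : a⁻¹ * x * a⁻¹⁻¹ * x⁻¹ = (a * x * a⁻¹ * x⁻¹)⁻¹ := by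
      calc a⁻¹ * x * a⁻¹⁻¹ * x⁻¹ = a⁻¹ * ((a * x * a⁻¹ * x⁻¹)⁻¹ * a) := by group
        _ = _ := by rw [← ha' a]; group
    show a⁻¹ * x * a⁻¹⁻¹ * x⁻¹ ∈ Subgroup.center G
    rw [e]
    exact inv_mem ha

theorem mem_modC {x g : G} : g ∈ modC x ↔ g * x * g⁻¹ * x⁻¹ ∈ Subgroup.center G := Iff.rfl

theorem mem_modC_of_comm {x g : G} (h : g * x = x * g) : g ∈ modC x := by
  rw [mem_modC, h, mul_inv_cancel_right, mul_inv_cancel]
  exact one_mem _

/-- For a non-abelian centraliser the elements commuting modulo the centre commute. -/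
theorem ProperCA.modC_comm (h : ProperCA G) {x a b : G} (hne : modC x ≠ ⊤) (hax : a * x = x * a)
    (hbx : b * x = x * b) (hab : a * b ≠ b * a) : ∀ g ∈ modC x, g * x = x * g :=
  h.central hne (mem_modC_of_comm rfl) (mem_modC_of_comm hax) (mem_modC_of_comm hbx) hax hbx hab

theorem comm_pow_center {g x : G} (hc : g * x * g⁻¹ * x⁻¹ ∈ Subgroup.center G) :
    ∀ n : ℕ, g * x ^ n * g⁻¹ = (g * x * g⁻¹ * x⁻¹) ^ n * x ^ n := by
  intro n
  rw [← conj_pow, ← (show Commute (g * x * g⁻¹ * x⁻¹) x from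
    (Subgroup.mem_center_iff.1 hc x).symm).mul_pow, inv_mul_cancel_right]

theorem comm_conj_pow {g x : G} (hc : g * x * g⁻¹ * x⁻¹ ∈ Subgroup.center G) :
    ∀ n : ℕ, g ^ n * x * (g ^ n)⁻¹ = (g * x * g⁻¹ * x⁻¹) ^ n * x := by
  intro n
  induction n with
  | zero => simp
  | succ n ih =>
    have h1 : g * (g * x * g⁻¹ * x⁻¹) ^ n = (g * x * g⁻¹ * x⁻¹) ^ n * g :=
      Subgroup.mem_center_iff.1 (pow_mem hc n) g
    calc g ^ (n + 1) * x * (g ^ (n + 1))⁻¹ = g * (g ^ n * x * (g ^ n)⁻¹) * g⁻¹ := by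
          rw [pow_succ']; group
      _ = g * (g * x * g⁻¹ * x⁻¹) ^ n * x * g⁻¹ := by rw [ih, ← mul_assoc]
      _ = (g * x * g⁻¹ * x⁻¹) ^ n * (g * x * g⁻¹) := by rw [h1]; group
      _ = _ := by rw [pow_succ]; group

/-- Elements of coprime order commuting modulo the centre commute. -/
theorem comm_of_coprime {g x : G} (hc : g * x * g⁻¹ * x⁻¹ ∈ Subgroup.center G) {m n : ℕ}
    (hg : g ^ m = 1) (hx : x ^ n ∈ Subgroup.center G) (hmn : m.Coprime n) : g * x = x * g := by
  have h1 : (g * x * g⁻¹ * x⁻¹) ^ m = 1 := by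
    have := comm_conj_pow hc m
    rw [hg, one_mul, inv_one, mul_one] at this
    exact right_eq_mul.1 this
  have h2 : (g * x * g⁻¹ * x⁻¹) ^ n = 1 := by
    have := comm_pow_center hc n
    rw [Subgroup.mem_center_iff.1 hx g, mul_inv_cancel_right] at this
    exact right_eq_mul.1 this
  have h3 : g * x * g⁻¹ * x⁻¹ = 1 := orderOf_eq_one_iff.1 (Nat.eq_one_of_dvd_coprimes hmn
    (orderOf_dvd_of_pow_eq_one h1) (orderOf_dvd_of_pow_eq_one h2))
  rw [mul_inv_eq_one] at h3
  exact mul_inv_eq_iff_eq_mul.1 h3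

/-! ### Solvable subgroups -/

variable [Finite G]

theorem solvable_of_odd {H : Type u} [Group H] [Finite H] (h : Odd (Nat.card H)) :
    Group.IsSolvable H := OddChar.oddSolvable.{u} H h

theorem solvable_of_twoGroup {H : Type u} [Group H] [Finite H] (h : IsPGroup 2 H) :
    Group.IsSolvable H := by
  haveI : Fact (Nat.Prime 2) := ⟨Nat.prime_two⟩
  haveI := h.isNilpotent
  infer_instance

theorem solvable_ext {H : Type u} [Group H] (N : Subgroup H) [N.Normal] (h1 : Group.IsSolvable N)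
    (h2 : Group.IsSolvable (H ⧸ N)) : Group.IsSolvable H :=
  solvable_of_ker_le_range N.subtype (QuotientGroup.mk' N)
    (by rw [QuotientGroup.ker_mk', Subgroup.range_subtype])

/-- A group with a normal Sylow 2-subgroup is solvable. -/
theorem solvable_of_normal_sylow (T : Sylow 2 G) [hn : (T : Subgroup G).Normal] :
    Group.IsSolvable G := by
  haveI : Fact (Nat.Prime 2) := ⟨Nat.prime_two⟩
  refine solvable_ext (T : Subgroup G) (solvable_of_twoGroup T.isPGroup') (solvable_of_odd ?_)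
  rw [← Subgroup.index_eq_card]
  exact Nat.odd_iff.2 (Nat.two_dvd_ne_zero.1 T.not_dvd_index)

theorem sylow_normalizer_ne_top (hs : ¬ Group.IsSolvable G) (T : Sylow 2 G) :
    Subgroup.normalizer ((T : Subgroup G) : Set G) ≠ ⊤ := fun h =>
  hs (@solvable_of_normal_sylow G _ _ T (Subgroup.normalizer_eq_top_iff.1 h))

theorem sylow_ne_top (hs : ¬ Group.IsSolvable G) (T : Sylow 2 G) : (T : Subgroup G) ≠ ⊤ := fun h => by
  refine hs (@solvable_of_normal_sylow G _ _ T ?_)
  rw [h]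
  infer_instance

omit [Finite G] in
theorem subgroup_ne_top (hs : ¬ Group.IsSolvable G) {H : Subgroup G} (h : Group.IsSolvable H) :
    H ≠ ⊤ := fun e => by
  subst e
  exact hs (solvable_of_surjective (f := (Subgroup.topEquiv : (⊤ : Subgroup G) ≃* G).toMonoidHom)
    (Subgroup.topEquiv : (⊤ : Subgroup G) ≃* G).surjective)

/-- Two involutions modulo a solvable subgroup generate a solvable subgroup with it. -/
theorem solvable_closure_two {U : Subgroup G} (hU : Group.IsSolvable U) {w v : G}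
    (hwn : w ∈ Subgroup.normalizer (U : Set G)) (hvn : v ∈ Subgroup.normalizer (U : Set G))
    (hw : w * w ∈ U) (hv : v * v ∈ U) :
    Group.IsSolvable ↥(U ⊔ Subgroup.closure {w, v}) := by
  set M := U ⊔ Subgroup.closure {w, v} with hM
  have hMn : M ≤ Subgroup.normalizer (U : Set G) := sup_le Subgroup.le_normalizer
    ((Subgroup.closure_le _).2 (by rintro x (rfl | rfl) <;> assumption))
  haveI : (U.subgroupOf M).Normal :=
    (Subgroup.normal_subgroupOf_iff_le_normalizer le_sup_left).2 hMn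
  refine solvable_ext (U.subgroupOf M)
    (solvable_of_surjective (f := (Subgroup.subgroupOfEquivOfLe (le_sup_left : U ≤ M)).symm.toMonoidHom)
      (Subgroup.subgroupOfEquivOfLe (le_sup_left : U ≤ M)).symm.surjective) ?_
  have hwM : w ∈ M := Subgroup.mem_sup_right (Subgroup.subset_closure (by simp))
  have hvM : v ∈ M := Subgroup.mem_sup_right (Subgroup.subset_closure (by simp))
  let q : M →* M ⧸ U.subgroupOf M := QuotientGroup.mk' _
  set a := q ⟨w, hwM⟩ with ha
  set b := q ⟨v, hvM⟩ with hb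
  have ha2 : a * a = 1 := by
    rw [ha, ← map_mul]
    exact (QuotientGroup.eq_one_iff _).2 hw
  have hb2 : b * b = 1 := by
    rw [hb, ← map_mul]
    exact (QuotientGroup.eq_one_iff _).2 hv
  have hgen : Subgroup.closure {a, b} = ⊤ := by
    rw [eq_top_iff]
    rintro x -
    obtain ⟨⟨y, hy⟩, rfl⟩ := QuotientGroup.mk'_surjective _ x
    have hle : M ≤ ((Subgroup.closure {a, b}).comap q).map M.subtype := by
      refine sup_le (fun z hz => ?_) ((Subgroup.closure_le _).2 ?_)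
      · exact ⟨⟨z, Subgroup.mem_sup_left hz⟩, by
          show q _ ∈ Subgroup.closure {a, b}
          rw [show q ⟨z, Subgroup.mem_sup_left hz⟩ = 1 from (QuotientGroup.eq_one_iff _).2 hz]
          exact one_mem _, rfl⟩
      · rintro z (rfl | rfl)
        · exact ⟨⟨_, hwM⟩, Subgroup.subset_closure (Or.inl rfl), rfl⟩
        · exact ⟨⟨_, hvM⟩, Subgroup.subset_closure (Or.inr rfl), rfl⟩
    obtain ⟨z, hz, e⟩ := hle hy
    rwa [show z = ⟨y, hy⟩ from Subtype.ext e] at hz
  set r := a * b with hr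
  have hinv : ∀ c ∈ ({a, b} : Set (M ⧸ U.subgroupOf M)), c * r * c⁻¹ = r⁻¹ := by
    rintro c (rfl | rfl)
    · rw [hr, mul_inv_rev, inv_eq_of_mul_eq_one_right ha2, inv_eq_of_mul_eq_one_right hb2,
        ← mul_assoc, ha2, one_mul]
    · rw [hr, mul_inv_rev, inv_eq_of_mul_eq_one_right ha2, inv_eq_of_mul_eq_one_right hb2,
        mul_assoc, mul_assoc, hb2, mul_one]
  haveI : (Subgroup.zpowers r).Normal := by
    rw [← Subgroup.normalizer_eq_top_iff, eq_top_iff, ← hgen, Subgroup.closure_le]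
    intro c hc
    have hcc : c⁻¹ = c := by
      rcases hc with rfl | rfl
      · exact inv_eq_of_mul_eq_one_right ha2
      · exact inv_eq_of_mul_eq_one_right hb2
    have key : ∀ n ∈ Subgroup.zpowers r, c * n * c⁻¹ ∈ Subgroup.zpowers r := by
      rintro n ⟨i, rfl⟩
      rw [← conj_zpow, hinv c hc, inv_zpow']
      exact zpow_mem (Subgroup.mem_zpowers r) _
    refine Subgroup.mem_normalizer_iff.2 fun n => ⟨key n, fun hn => ?_⟩
    have := key _ hn
    rw [hcc] at this
    have hc2 : c * c = 1 := by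
      nth_rewrite 1 [← hcc]
      exact inv_mul_cancel c
    rwa [show c * (c * n * c) * c = c * c * n * (c * c) by group, hc2, one_mul, mul_one] at this
  refine solvable_ext (Subgroup.zpowers r) inferInstance ?_
  let q' : (M ⧸ U.subgroupOf M) →* (M ⧸ U.subgroupOf M) ⧸ Subgroup.zpowers r := QuotientGroup.mk' _
  have hqb : q' b = q' a := by
    rw [eq_comm, QuotientGroup.mk'_eq_mk']
    exact ⟨r, Subgroup.mem_zpowers r, by rw [hr, ← mul_assoc, ha2, one_mul]⟩
  have htop : ⊤ ≤ Subgroup.zpowers (q' a) := by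
    rintro y -
    obtain ⟨z, rfl⟩ := QuotientGroup.mk'_surjective _ y
    have : Subgroup.closure {a, b} ≤ (Subgroup.zpowers (q' a)).comap q' := by
      rw [Subgroup.closure_le]
      rintro c (rfl | rfl)
      · exact Subgroup.mem_zpowers _
      · show q' b ∈ Subgroup.zpowers (q' a)
        rw [hqb]
        exact Subgroup.mem_zpowers _
    exact this (hgen ▸ Subgroup.mem_top z)
  haveI : IsCyclic ((M ⧸ U.subgroupOf M) ⧸ Subgroup.zpowers r) :=
    ⟨⟨q' a, fun y => htop (Subgroup.mem_top y)⟩⟩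
  exact Group.isSolvable_of_comm IsCyclic.isMulCommutative.is_comm.comm

/-- The product with a normal subgroup of a solvable group is solvable. -/
theorem solvable_sup {N H : Subgroup G} [N.Normal] (hN : Group.IsSolvable N)
    (hH : Group.IsSolvable H) : Group.IsSolvable ↥(N ⊔ H) := by
  haveI : (N.subgroupOf (N ⊔ H)).Normal := (inferInstance : N.Normal).subgroupOf _
  refine solvable_ext (N.subgroupOf (N ⊔ H))
    (solvable_of_surjective
      (f := (Subgroup.subgroupOfEquivOfLe (le_sup_left : N ≤ N ⊔ H)).symm.toMonoidHom)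
      (Subgroup.subgroupOfEquivOfLe (le_sup_left : N ≤ N ⊔ H)).symm.surjective) ?_
  haveI := hH
  refine solvable_of_surjective (f := (QuotientGroup.mk' (N.subgroupOf (N ⊔ H))).comp
    (Subgroup.inclusion (le_sup_right : H ≤ N ⊔ H))) ?_
  intro y
  obtain ⟨⟨z, hz⟩, rfl⟩ := QuotientGroup.mk'_surjective _ y
  obtain ⟨n, hn, k, hk, rfl⟩ := Subgroup.mem_sup_of_normal_left.1 hz
  refine ⟨⟨k, hk⟩, ?_⟩
  rw [MonoidHom.comp_apply, QuotientGroup.mk'_eq_mk']
  exact ⟨⟨k⁻¹ * n * k, mul_mem (mul_mem (inv_mem (Subgroup.mem_sup_right hk))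
      (Subgroup.mem_sup_left hn)) (Subgroup.mem_sup_right hk)⟩,
    (by simpa using (inferInstance : N.Normal).conj_mem n hn k⁻¹ :
      k⁻¹ * n * k ∈ N), Subtype.ext (by show k * (k⁻¹ * n * k) = n * k; group)⟩

/-! ### Sylow subgroups and transfer -/

/-- A central element of a perfect group in a Sylow subgroup lies in its derived subgroup. -/
theorem center_mem_derived {p : ℕ} [Fact p.Prime] (hperf : commutator G = ⊤) (P : Sylow p G)
    {x : G} (hxP : x ∈ (P : Subgroup G)) (hxc : x ∈ Subgroup.center G) :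
    x ∈ ⁅(P : Subgroup G), (P : Subgroup G)⁆ := by
  let A := Abelianization (P : Subgroup G)
  let ϕ : (P : Subgroup G) →* A := Abelianization.of
  have hkey : ∀ (k : ℕ) (g₀ : G), g₀⁻¹ * x ^ k * g₀ ∈ (P : Subgroup G) → g₀⁻¹ * x ^ k * g₀ = x ^ k :=
    fun k g₀ _ => by
      rw [mul_assoc, ← Subgroup.mem_center_iff.1 (pow_mem hxc k) g₀, inv_mul_cancel_left]
  have h1 := MonoidHom.transfer_eq_pow ϕ x hkey
  have h0 : ϕ.transfer x = 1 :=
    Abelianization.commutator_subset_ker _ (hperf ▸ Subgroup.mem_top x)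
  rw [h0] at h1
  have h2 : ϕ ⟨x, hxP⟩ ^ (P : Subgroup G).index = 1 := by
    rw [← map_pow]
    exact h1.symm
  obtain ⟨k, hk⟩ := P.isPGroup' ⟨x, hxP⟩
  have h3 : ϕ ⟨x, hxP⟩ ^ p ^ k = 1 := by rw [← map_pow, hk, map_one]
  have h4 : ϕ ⟨x, hxP⟩ = 1 := orderOf_eq_one_iff.1 (Nat.eq_one_of_dvd_coprimes
    (((Fact.out : p.Prime).coprime_iff_not_dvd.2 P.not_dvd_index).pow_left k)
    (orderOf_dvd_of_pow_eq_one h3) (orderOf_dvd_of_pow_eq_one h2))
  rw [← MonoidHom.mem_ker, Abelianization.ker_of] at h4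
  rw [← Subgroup.map_subtype_commutator]
  exact ⟨⟨x, hxP⟩, h4, rfl⟩

/-- The `p`-part and the `p'`-part of an element. -/
theorem exists_p_part (p : ℕ) [Fact p.Prime] (x : G) :
    ∃ y v : G, y * v = x ∧ y ∈ Subgroup.zpowers x ∧ v ∈ Subgroup.zpowers x ∧ y * v = v * y ∧
      (∃ k : ℕ, y ^ p ^ k = 1) ∧ ∃ m : ℕ, m.Coprime p ∧ v ^ m = 1 := by
  obtain ⟨t, v, htv, ht, hv, ⟨k, hk⟩, hco⟩ := PBasic.exists_pPart_mul (p := p) x
  refine ⟨t, v, htv, ht, hv, ?_, ⟨k, hk ▸ pow_orderOf_eq_one t⟩, _, hco, pow_orderOf_eq_one v⟩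
  obtain ⟨i, rfl⟩ := ht
  obtain ⟨j, rfl⟩ := hv
  exact ((Commute.refl x).zpow_zpow i j).eq

/-- An automorphism of order two inverting and fixing. -/
theorem eq_one_of_fixed_inverted {A : Subgroup G} (ho : Odd (Nat.card A)) {y : G} (hy : y ∈ A)
    (h : y * y = 1) : y = 1 := by
  have h1 : orderOf y ∣ 2 := orderOf_dvd_of_pow_eq_one (by rw [pow_two, h])
  have h2 : orderOf y ∣ Nat.card A := Subgroup.orderOf_dvd_natCard A hy
  exact orderOf_eq_one_iff.1
    (Nat.eq_one_of_dvd_coprimes (Nat.coprime_two_left.2 ho) h1 h2)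

/-- If the fixed points of two involutions of a four-group are fixed by the third, so is everything. -/
theorem fixed_of_axes {Z A : Subgroup G} [Z.Normal] (hdisj : A ⊓ Z = ⊥) (ho : Odd (Nat.card A))
    {a b : G} (ha : a * a ∈ Z) (hb : b * b ∈ Z) (hab : a * b * a⁻¹ * b⁻¹ ∈ Z)
    (hna : ∀ y ∈ A, a * y * a⁻¹ ∈ A) (hnb : ∀ y ∈ A, b * y * b⁻¹ ∈ A)
    (h1 : ∀ y ∈ A, a * y = y * a → (a * b) * y = y * (a * b))
    (h2 : ∀ y ∈ A, b * y = y * b → (a * b) * y = y * (a * b)) :
    ∀ y ∈ A, (a * b) * y = y * (a * b) := by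
  let π : G →* G ⧸ Z := QuotientGroup.mk' Z
  have hπ1 : ∀ g, π g = 1 ↔ g ∈ Z := fun g => QuotientGroup.eq_one_iff g
  have hinj : ∀ y ∈ A, π y = 1 → y = 1 := fun y hy e =>
    Subgroup.mem_bot.1 (hdisj ▸ Subgroup.mem_inf.2 ⟨hy, (hπ1 y).1 e⟩)
  have hinv : ∀ g, g * g ∈ Z → (π g)⁻¹ = π g := fun g hg =>
    inv_eq_of_mul_eq_one_right (by rw [← map_mul]; exact (hπ1 _).2 hg)
  have hF : DGroup.Four (π a) (π b) (π (a * b)) := by
    refine ⟨by rw [← map_mul]; exact (hπ1 _).2 ha, by rw [← map_mul]; exact (hπ1 _).2 hb, ?_,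
      (map_mul π a b).symm⟩
    have h0 : π (a * b * a⁻¹ * b⁻¹) = 1 := (hπ1 _).2 hab
    rw [map_mul, map_mul, map_mul, map_inv, map_inv, mul_inv_eq_one, mul_inv_eq_iff_eq_mul] at h0
    exact h0
  have hcomm : ∀ g, (∀ y ∈ A, g * y * g⁻¹ ∈ A) → ∀ y ∈ A, π g * π y = π y * π g →
      g * y = y * g := by
    intro g hg y hy e
    rw [← map_mul, ← map_mul] at e
    have h3 : π (g * y * g⁻¹ * y⁻¹) = 1 := by
      rw [map_mul, map_mul π (g * y), e, ← map_mul, ← map_mul]
      rw [show y * g * g⁻¹ * y⁻¹ = 1 by group, map_one]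
    have h4 := hinj _ (mul_mem (hg y hy) (inv_mem hy)) h3
    rwa [mul_inv_eq_one, mul_inv_eq_iff_eq_mul] at h4
  have hYo : Odd (Nat.card (A.map π)) := ho.of_dvd_nat (Subgroup.card_map_dvd _ _)
  intro y hy
  refine hcomm (a * b) ?_ y hy ?_
  · intro z hz
    rw [show a * b * z * (a * b)⁻¹ = a * (b * z * b⁻¹) * a⁻¹ by group]
    exact hna _ (hnb z hz)
  by_contra hne
  obtain ⟨c, hc, hc1, hcw, hfix⟩ := GW.exists_axis hF hYo (Y := A.map π)
    (fun x hx => by
      obtain ⟨x, hx', rfl⟩ := hx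
      refine ⟨a * x * a⁻¹, hna x hx', ?_⟩
      rw [map_mul, map_mul, map_inv, hinv a ha])
    (fun x hx => by
      obtain ⟨x, hx', rfl⟩ := hx
      refine ⟨b * x * b⁻¹, hnb x hx', ?_⟩
      rw [map_mul, map_mul, map_inv, hinv b hb])
    (Subgroup.mem_map_of_mem π hy) hne
  obtain ⟨c, hcA, rfl⟩ := hc
  have hw : π (a * b) * π c = π c * π (a * b) := by
    rcases hfix with e | e
    · have e' : π a * π c = π c * π a := by
        nth_rewrite 2 [← e]
        rw [mul_assoc (π a * π c), hF.uu, mul_one]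
      rw [← map_mul π (a * b), h1 c hcA (hcomm a hna c hcA e'), map_mul]
    · have e' : π b * π c = π c * π b := by
        nth_rewrite 2 [← e]
        rw [mul_assoc (π b * π c), hF.vv, mul_one]
      rw [← map_mul π (a * b), h2 c hcA (hcomm b hnb c hcA e'), map_mul]
  rw [hw, mul_assoc, hF.ww, mul_one] at hcw
  refine hc1 (eq_one_of_fixed_inverted (G := G ⧸ Z) hYo (Subgroup.mem_map_of_mem π hcA) ?_)
  nth_rewrite 2 [hcw]
  exact mul_inv_cancel _

end Cfsg.Agent.MinNonCA
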