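import Cfsg.Agent.Lib.MinNonCA.Isolated
import Mathlib.GroupTheory.Transfer
import Mathlib.GroupTheory.SpecificGroups.ZGroup

/-!
The solvable residual, transfer criteria for solvability and the centraliser of the residual.
-/

set_option autoImplicit false

namespace Cfsg.Agent.MinNonCA

universe u

variable {G : Type u} [Group G] [Finite G]

theorem solvable_of_injective {A : Type u} {B : Type u} [Group A] [Group B] (f : A →* B)
    (hf : Function.Injective f) (h : Group.IsSolvable B) : Group.IsSolvable A :=
  Group.isSolvable_of_isSolvable_injective hf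

/-- Burnside: `N(P) = C(P)` forces solvability. -/
theorem solvable_of_burnside (P : Sylow 2 G)
    (hP : Subgroup.normalizer ((P : Subgroup G) : Set G) ≤
      Subgroup.centralizer ((P : Subgroup G) : Set G)) : Group.IsSolvable G := by
  haveI : Fact (Nat.Prime 2) := ⟨Nat.prime_two⟩
  let f : G →* (P : Subgroup G) := MonoidHom.transferSylow P hP
  have ho : Odd (Nat.card f.ker) := Nat.odd_iff.2 (Nat.two_dvd_ne_zero.1
    (MonoidHom.not_dvd_card_ker_transferSylow P hP))
  exact solvable_ext f.ker (solvable_of_odd ho) (solvable_of_injective (QuotientGroup.kerLift f)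
    (QuotientGroup.kerLift_injective f) (solvable_of_twoGroup P.isPGroup'))

theorem solvable_of_cyclic (P : Sylow 2 G) (hc : IsCyclic (P : Subgroup G)) :
    Group.IsSolvable G := by
  haveI : Fact (Nat.Prime 2) := ⟨Nat.prime_two⟩
  by_cases h2 : 2 ∣ Nat.card G
  · exact solvable_of_burnside P (hc.normalizer_le_centralizer ((Nat.minFac_eq_two_iff _).2 h2))
  · exact solvable_of_odd (Nat.odd_iff.2 (Nat.two_dvd_ne_zero.1 h2))

theorem solvable_of_dvd_six {H : Type u} [Group H] [Finite H] (h : Nat.card H ∣ 6) :
    Group.IsSolvable H := by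
  haveI : IsZGroup H := IsZGroup.of_squarefree
    ((by decide +kernel : Squarefree 6).squarefree_of_dvd h)
  infer_instance

omit [Finite G] in
theorem solvable_center : Group.IsSolvable (Subgroup.center G) :=
  Group.isSolvable_of_comm fun a b => Subtype.ext (Subgroup.mem_center_iff.1 b.2 a)

theorem quot_center_nonsolvable (hs : ¬ Group.IsSolvable G) :
    ¬ Group.IsSolvable (G ⧸ Subgroup.center G) :=
  fun h => hs (solvable_ext _ solvable_center h)

/-- The solvable residual. -/
structure IsRes (D : Subgroup G) : Prop where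
  normal : D.Normal
  perfect : ⁅D, D⁆ = D
  quot : ∀ (M : Subgroup G) [M.Normal], Group.IsSolvable (G ⧸ M) → D ≤ M
  solv : ∀ (M : Subgroup G) [M.Normal], D ≤ M → Group.IsSolvable (G ⧸ M)
  nonsolv : ¬ Group.IsSolvable D

theorem commutator_eq_top_of_perfect {D : Subgroup G} (h : ⁅D, D⁆ = D) : commutator D = ⊤ := by
  apply Subgroup.map_injective D.subtype_injective
  rw [commutator_def, Subgroup.map_commutator, ← MonoidHom.range_eq_map, Subgroup.range_subtype, h]

theorem exists_res (hs : ¬ Group.IsSolvable G) : ∃ D : Subgroup G, IsRes D := by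
  obtain ⟨n, hn⟩ : ∃ n, derivedSeries G (n + 1) = derivedSeries G n := by
    by_contra h
    push Not at h
    have hstr : ∀ n, Nat.card (derivedSeries G n) + n ≤ Nat.card G := by
      intro n
      induction n with
      | zero => rw [add_zero]; exact Subgroup.card_le_card_group _
      | succ n ih =>
        have : Nat.card (derivedSeries G (n + 1)) < Nat.card (derivedSeries G n) :=
          lt_of_not_ge fun hle => h n (Subgroup.eq_of_le_of_card_ge
            (derivedSeries_antitone G (Nat.le_succ n)) hle)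
        omega
    have := hstr (Nat.card G + 1)
    omega
  have hperf : ⁅derivedSeries G n, derivedSeries G n⁆ = derivedSeries G n := by
    rwa [derivedSeries_succ] at hn
  have hsolv : ∀ (M : Subgroup G) [M.Normal], derivedSeries G n ≤ M →
      Group.IsSolvable (G ⧸ M) := fun M _ hM =>
    (Group.isSolvable_def _).2 ⟨n, by
      rw [← map_derivedSeries_eq (QuotientGroup.mk'_surjective M), Subgroup.map_eq_bot_iff,
        QuotientGroup.ker_mk']
      exact hM⟩
  refine ⟨derivedSeries G n, inferInstance, hperf, ?_, hsolv, ?_⟩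
  · intro M _ hM
    obtain ⟨m, hm⟩ := (Group.isSolvable_def _).1 hM
    rw [← map_derivedSeries_eq (QuotientGroup.mk'_surjective M), Subgroup.map_eq_bot_iff,
      QuotientGroup.ker_mk'] at hm
    rcases le_total n m with h | h
    · refine le_trans (le_of_eq ?_) hm
      clear hm
      induction h with
      | refl => rfl
      | step _ ih => rw [derivedSeries_succ, ← ih, hperf]
    · exact (derivedSeries_antitone G h).trans hm
  · intro h
    exact hs (solvable_ext _ h (hsolv _ le_rfl))

theorem IsRes.comm_top {D : Subgroup G} (hD : IsRes D) : commutator D = ⊤ :=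
  commutator_eq_top_of_perfect hD.perfect

theorem IsRes.top_perfect {D : Subgroup G} (hD : IsRes D) (h : D = ⊤) : commutator G = ⊤ := by
  have := hD.perfect
  rwa [h, ← commutator_def] at this

/-- Grün's lemma. -/
theorem mem_center_of_perfect (hperf : commutator G = ⊤) {x : G}
    (h : ∀ g : G, g ∈ modC x) : x ∈ Subgroup.center G := by
  let f : G →* Subgroup.center G := MonoidHom.mk'
    (fun g => ⟨g * x * g⁻¹ * x⁻¹, h g⟩) fun a b => Subtype.ext (by
      show a * b * x * (a * b)⁻¹ * x⁻¹ = a * x * a⁻¹ * x⁻¹ * (b * x * b⁻¹ * x⁻¹)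
      have hb := Subgroup.mem_center_iff.1 (h b)
      calc a * b * x * (a * b)⁻¹ * x⁻¹ = a * (b * x * b⁻¹ * x⁻¹) * (x * a⁻¹ * x⁻¹) := by group
        _ = b * x * b⁻¹ * x⁻¹ * a * (x * a⁻¹ * x⁻¹) := by rw [hb a]
        _ = b * x * b⁻¹ * x⁻¹ * (a * x * a⁻¹ * x⁻¹) := by group
        _ = _ := (hb _).symm)
  letI : CommGroup (Subgroup.center G) :=
    { (inferInstance : Group (Subgroup.center G)) with
      mul_comm := fun a b => Subtype.ext (Subgroup.mem_center_iff.1 b.2 a) }
  refine Subgroup.mem_center_iff.2 fun g => ?_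
  have h0 : f g = 1 := by
    rw [← MonoidHom.mem_ker]
    exact Abelianization.commutator_subset_ker f (hperf ▸ Subgroup.mem_top g)
  have h1 : g * x * g⁻¹ * x⁻¹ = 1 := congrArg Subtype.val h0
  rw [mul_inv_eq_one] at h1
  exact mul_inv_eq_iff_eq_mul.1 h1

theorem sylow_inf_normal (T : Sylow 2 G) (D : Subgroup G) [D.Normal] :
    ∃ S : Sylow 2 D, (S : Subgroup D) = (T : Subgroup G).subgroupOf D := by
  haveI : Fact (Nat.Prime 2) := ⟨Nat.prime_two⟩
  have hi : (T : Subgroup G).relIndex D ∣ (T : Subgroup G).index := by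
    rw [PBasic.relIndex_eq_relIndex_sup (T : Subgroup G) D]
    exact Dvd.intro _ (Subgroup.relIndex_mul_index le_sup_right)
  refine ⟨IsPGroup.toSylow (P := (T : Subgroup G).subgroupOf D) ?_
    (fun h => T.not_dvd_index ((show 2 ∣ (T : Subgroup G).relIndex D from h).trans hi)), rfl⟩
  exact T.isPGroup'.comap_of_injective D.subtype D.subtype_injective

/-- In the case of a non-abelian Sylow 2-subgroup of the residual, or a perfect group, the
centraliser of the residual is central. -/
theorem res_centralizer_le (hs : ¬ Group.IsSolvable G) (hp : ProperCA G) {D : Subgroup G}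
    (hD : IsRes D) (T : Sylow 2 G)
    (h : D = ⊤ ∨ ∃ a ∈ (T : Subgroup G) ⊓ D, ∃ b ∈ (T : Subgroup G) ⊓ D, a * b ≠ b * a) :
    Subgroup.centralizer (D : Set G) ≤ Subgroup.center G := by
  haveI := hD.normal
  haveI : Fact (Nat.Prime 2) := ⟨Nat.prime_two⟩
  intro k hk
  rw [Subgroup.mem_centralizer_iff] at hk
  rcases h with rfl | ⟨a, ha, b, hb, hab⟩
  · exact Subgroup.mem_center_iff.2 fun g => hk g trivial
  obtain ⟨S, hS⟩ := sylow_inf_normal T D
  set R := (S : Subgroup D).map D.subtype with hR
  have hRe : R = (T : Subgroup G) ⊓ D := by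
    rw [hR, hS, Subgroup.subgroupOf_map_subtype]
  have hne : Subgroup.normalizer (R : Set G) ≠ ⊤ := fun e => by
    haveI : R.Normal := Subgroup.normalizer_eq_top_iff.1 e
    haveI : (S : Subgroup D).Normal := by
      rw [hS, ← Subgroup.inf_subgroupOf_right, ← hRe]
      exact Subgroup.Normal.subgroupOf inferInstance D
    exact hD.nonsolv (solvable_of_normal_sylow S)
  have hkn : k ∈ Subgroup.normalizer (R : Set G) := mem_normalizer_of_comm fun s hs' =>
    (hk s (by rw [hRe] at hs'; exact hs'.2)).symm
  have hRn : R ≤ Subgroup.normalizer (R : Set G) := Subgroup.le_normalizer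
  have h1 := hp.central hne hkn (hRn (hRe ▸ ha)) (hRn (hRe ▸ hb)) (hk a ha.2) (hk b hb.2) hab
  have htop : D ⊔ Subgroup.normalizer (R : Set G) = ⊤ := by
    rw [sup_comm]; exact Sylow.normalizer_sup_eq_top S
  refine Subgroup.mem_center_iff.2 fun g => ?_
  have hle : D ⊔ Subgroup.normalizer (R : Set G) ≤ Subgroup.centralizer ({k} : Set G) :=
    sup_le (fun d hd => mem_C.2 (hk d hd)) (fun n hn => mem_C.2 (h1 n hn))
  exact mem_C.1 (hle (htop ▸ Subgroup.mem_top g))

end Cfsg.Agent.MinNonCA
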