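import Cfsg.Agent.Lib.Classical.PSL2Involutions
import Cfsg.Agent.Lib.Classical.DicksonProper

/-!
The centraliser of an involution of `PSL₂`, odd characteristic: its torus part is commutative and
everything else squares to one.
-/

set_option autoImplicit false
set_option linter.unusedSectionVars false

namespace Cfsg.Agent.MinNonCA

open Matrix SL2Inv PSL2Inv

variable {F : Type} [Field F]

local notation "S" => Matrix.SpecialLinearGroup (Fin 2) F
local notation "P" => Matrix.ProjectiveSpecialLinearGroup (Fin 2) F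

/-- The entries of an element commuting with `w`. -/
def Tor (g : S) : Prop := g.1 1 1 = g.1 0 0 ∧ g.1 0 1 = -g.1 1 0

theorem tor_comm {g h : S} (hg : Tor g) (hh : Tor h) : g * h = h * g := by
  apply Subtype.ext
  rw [Matrix.SpecialLinearGroup.coe_mul, Matrix.SpecialLinearGroup.coe_mul]
  ext i j
  fin_cases i <;> fin_cases j <;>
    simp [Matrix.mul_apply, Fin.sum_univ_two, hg.1, hg.2, hh.1, hh.2] <;> ring

theorem tor_det {g : S} (hg : Tor g) : g.1 0 0 * g.1 0 0 + g.1 1 0 * g.1 1 0 = 1 := by
  have := g.2
  rw [Matrix.det_fin_two, hg.1, hg.2] at this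
  linear_combination this

theorem comm_w_cases (h2 : (2 : F) ≠ 0) {g : S} (h : pr g * pr w = pr w * pr g) :
    Tor g ∨ (g.1.trace = 0 ∧ pr g ≠ pr w) := by
  rw [← map_mul, ← map_mul, pr_eq_iff] at h
  rcases h with h | h
  · left
    have e := congrArg Subtype.val h
    rw [Matrix.SpecialLinearGroup.coe_mul, Matrix.SpecialLinearGroup.coe_mul] at e
    have e0 := congrFun (congrFun e 0) 0
    have e1 := congrFun (congrFun e 1) 0
    simp [w, Matrix.mul_apply, Fin.sum_univ_two] at e0 e1
    refine ⟨?_, ?_⟩
    · first | linear_combination e1 | linear_combination -e1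
    · first | linear_combination e0 | linear_combination -e0
  · right
    have hanti : g.1.trace = 0 := by
      have e := congrArg Subtype.val h
      rw [Matrix.SpecialLinearGroup.coe_mul, Matrix.SpecialLinearGroup.coe_mul,
        Matrix.SpecialLinearGroup.coe_mul, coe_negOne] at e
      have e1 := congrFun (congrFun e 1) 0
      simp [w, Matrix.mul_apply, Fin.sum_univ_two] at e1
      rw [Matrix.trace_fin_two]
      first | linear_combination e1 | linear_combination -e1
    refine ⟨hanti, fun he => ?_⟩
    rcases pr_eq_iff.1 he.symm with e | e <;> rw [e] at h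
    · rw [← mul_assoc] at h
      exact negOne_ne_one h2 (mul_eq_right.1 (by rw [mul_assoc] at h; exact h.symm))
    · have h' : (negOne : S) * ((w : S) * w) = 1 * ((w : S) * w) := by
        rw [one_mul]
        have hl : w * (negOne * w) = negOne * ((w : S) * w) := by
          rw [← mul_assoc, ← negOne_comm, mul_assoc]
        have hr : negOne * ((negOne * w) * w) = (w : S) * w := by
          rw [mul_assoc, ← mul_assoc, negOne_mul_self, one_mul]
        rw [hl, hr] at h
        first | exact h | exact h.symm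
      exact negOne_ne_one h2 (mul_right_cancel h')

/-- Two elements centralising an involution commute, unless one of them is another involution. -/
theorem comm_or_invol [Finite F] (h2 : (2 : F) ≠ 0) {x y z : P} (hx : x * x = 1) (hx1 : x ≠ 1)
    (hy : y * x = x * y) (hz : z * x = x * z) (hyz : y * z ≠ z * y) :
    ∃ s, (s = y ∨ s = z) ∧ s * s = 1 ∧ s ≠ 1 ∧ s ≠ x := by
  obtain ⟨c, hc⟩ := isConj_iff.1 (isConj_pr_w h2 hx hx1)
  have hcj : ∀ a : P, a * x = x * a → c⁻¹ * a * c * pr w = pr w * (c⁻¹ * a * c) := fun a ha => by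
    have hw : (pr w : P) = c⁻¹ * x * c := by rw [← hc]; group
    rw [hw, show c⁻¹ * a * c * (c⁻¹ * x * c) = c⁻¹ * (a * x) * c by group, ha]
    group
  obtain ⟨g, hg⟩ := pr_surjective (c⁻¹ * y * c)
  obtain ⟨h, hh⟩ := pr_surjective (c⁻¹ * z * c)
  have key : ∀ (a : P) (m : S), pr m = c⁻¹ * a * c → a * x = x * a →
      Tor m ∨ (a * a = 1 ∧ a ≠ 1 ∧ a ≠ x) := by
    intro a m hm ha
    rcases comm_w_cases h2 (g := m) (by rw [hm]; exact hcj a ha) with ht | ⟨ht, htw⟩
    · exact Or.inl ht
    have ha' : a = c * pr m * c⁻¹ := by rw [hm]; group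
    refine Or.inr ⟨?_, ?_, ?_⟩
    · rw [ha', show c * pr m * c⁻¹ * (c * pr m * c⁻¹) = c * (pr m * pr m) * c⁻¹ by group,
        pr_mul_self ht]
      group
    · rw [ha', Ne, conj_eq_one_iff]
      exact pr_ne_one h2 ht
    · intro e
      refine htw ?_
      rw [hm, e, ← hc]; group
  rcases key y g hg hy with hg' | hs
  · rcases key z h hh hz with hh' | hs
    · refine absurd ?_ hyz
      have e := congrArg (fun v => c * pr v * c⁻¹) (tor_comm hg' hh')
      simp only [map_mul, hg, hh] at e
      calc y * z = c * (c⁻¹ * y * c * (c⁻¹ * z * c)) * c⁻¹ := by group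
        _ = c * (c⁻¹ * z * c * (c⁻¹ * y * c)) * c⁻¹ := e
        _ = z * y := by group
    · exact ⟨z, Or.inr rfl, hs⟩
  · exact ⟨y, Or.inl rfl, hs⟩

/-- If `a² + b² = 1` forces `ab = 0`, centralisers of involutions have exponent two. -/
theorem sq_one [Finite F] (h2 : (2 : F) ≠ 0) (hab : ∀ a b : F, a * a + b * b = 1 → a = 0 ∨ b = 0)
    {x y : P} (hx : x * x = 1) (hx1 : x ≠ 1) (hy : y * x = x * y) : y * y = 1 := by
  obtain ⟨c, hc⟩ := isConj_iff.1 (isConj_pr_w h2 hx hx1)
  obtain ⟨g, hg⟩ := pr_surjective (c⁻¹ * y * c)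
  have hgw : pr g * pr w = pr w * pr g := by
    have hw : (pr w : P) = c⁻¹ * x * c := by rw [← hc]; group
    rw [hg, hw, show c⁻¹ * y * c * (c⁻¹ * x * c) = c⁻¹ * (y * x) * c by group, hy]
    group
  have hgg : pr g * pr g = 1 := by
    rcases comm_w_cases h2 hgw with ht | ⟨ht, -⟩
    swap
    · exact pr_mul_self ht
    rcases hab _ _ (tor_det ht) with h0 | h0
    · refine pr_mul_self ?_
      rw [Matrix.trace_fin_two, ht.1, h0, add_zero]
    · rw [← map_mul, pr_eq_one_iff]
      refine Or.inl (Subtype.ext ?_)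
      have hd := tor_det ht
      rw [h0, mul_zero, add_zero] at hd
      rw [Matrix.SpecialLinearGroup.coe_mul, Matrix.SpecialLinearGroup.coe_one]
      ext i j
      fin_cases i <;> fin_cases j <;>
        simp [Matrix.mul_apply, Fin.sum_univ_two, ht.1, ht.2, h0, hd]
  calc y * y = c * ((c⁻¹ * y * c) * (c⁻¹ * y * c)) * c⁻¹ := by group
    _ = 1 := by rw [← hg, hgg]; group

/-- For `q ≥ 7` some involution has a non-commutative centraliser. -/
theorem exists_bad [Fintype F] (h2 : (2 : F) ≠ 0) (h7 : 7 ≤ Fintype.card F) :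
    ∃ x y z : P, x * x = 1 ∧ x ≠ 1 ∧ y * x = x * y ∧ z * x = x * z ∧ y * z ≠ z * y := by
  classical
  obtain ⟨m, h0, h1, h1', hi⟩ : ∃ m : F, m ≠ 0 ∧ m ≠ 1 ∧ m ≠ -1 ∧ m * m ≠ -1 := by
    by_contra hno
    push Not at hno
    have hle : (Finset.univ : Finset F) ⊆ {0, 1, -1} ∪ Finset.univ.filter (fun m : F => m * m = -1) := by
      intro m _
      simp only [Finset.mem_union, Finset.mem_insert, Finset.mem_singleton, Finset.mem_filter,
        Finset.mem_univ, true_and]
      by_cases a0 : m = 0
      · exact Or.inl (Or.inl a0)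
      by_cases a1 : m = 1
      · exact Or.inl (Or.inr (Or.inl a1))
      by_cases a2 : m = -1
      · exact Or.inl (Or.inr (Or.inr a2))
      exact Or.inr (hno m a0 a1 a2)
    have hroots : (Finset.univ.filter (fun m : F => m * m = -1)).card ≤ 2 := by
      rcases (Finset.univ.filter (fun m : F => m * m = -1)).eq_empty_or_nonempty with e | ⟨i, hmi⟩
      · simp [e]
      have hii : i * i = -1 := (Finset.mem_filter.1 hmi).2
      refine (Finset.card_le_card (show _ ⊆ ({i, -i} : Finset F) from fun m hm => ?_)).trans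
        Finset.card_le_two
      have hmm : m * m = -1 := (Finset.mem_filter.1 hm).2
      have : (m - i) * (m + i) = 0 := by linear_combination hmm - hii
      rcases mul_eq_zero.1 this with e | e
      · simp [sub_eq_zero.1 e]
      · simp [eq_neg_of_add_eq_zero_left e]
    have h3 : ({0, 1, -1} : Finset F).card ≤ 3 := Finset.card_le_three
    have := (Finset.card_le_card hle).trans (Finset.card_union_le _ _)
    rw [Finset.card_univ] at this
    omega
  have hd : 1 + m * m ≠ 0 := fun e => hi (by linear_combination e)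
  set a : F := (1 - m * m) / (1 + m * m) with hadef
  set b : F := 2 * m / (1 + m * m) with hbdef
  have hdet : a * a + b * b = 1 := by
    rw [hadef, hbdef, div_mul_div_comm, div_mul_div_comm, ← add_div,
      div_eq_one_iff_eq (mul_ne_zero hd hd)]
    ring
  have ha : a ≠ 0 := by
    rw [hadef, div_ne_zero_iff]
    refine ⟨fun e => ?_, hd⟩
    have : (m - 1) * (m + 1) = 0 := by linear_combination -e
    rcases mul_eq_zero.1 this with e | e
    · exact h1 (sub_eq_zero.1 e)
    · exact h1' (eq_neg_of_add_eq_zero_left e)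
  have hb : b ≠ 0 := by
    rw [hbdef, div_ne_zero_iff]
    exact ⟨mul_ne_zero h2 h0, hd⟩
  let g : S := ⟨!![a, -b; b, a], by simp [Matrix.det_fin_two]; linear_combination hdet⟩
  obtain ⟨j, hj⟩ := exists_anti (F := F) h2
  have hgt : Tor g := by refine ⟨?_, ?_⟩ <;> simp [g]
  have hwt : Tor (w : S) := by refine ⟨?_, ?_⟩ <;> simp [w]
  refine ⟨pr w, pr g, pr j, pr_mul_self trace_w, pr_ne_one h2 trace_w,
    by rw [← map_mul, ← map_mul, tor_comm hgt hwt],
    by rw [← map_mul, ← map_mul, hj.2, map_mul, pr_negOne, one_mul], ?_⟩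
  intro he
  rw [← map_mul, ← map_mul, pr_eq_iff] at he
  obtain ⟨j11, j01⟩ := hj.entries
  have hjdet := j.2
  rw [Matrix.det_fin_two, j11, j01] at hjdet
  rcases he with e | e
  · have e' := congrArg Subtype.val e
    rw [Matrix.SpecialLinearGroup.coe_mul, Matrix.SpecialLinearGroup.coe_mul] at e'
    have e00 := congrFun (congrFun e' 0) 0
    have e10 := congrFun (congrFun e' 1) 0
    simp [g, Matrix.mul_apply, Fin.sum_univ_two, Matrix.vecMul, dotProduct, j11, j01] at e00 e10
    have k1 : j.1 1 0 * b = 0 := by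
      refine (mul_eq_zero.1 (show (2 : F) * _ = 0 from ?_)).resolve_left h2
      first | linear_combination e00 | linear_combination -e00
    have k2 : j.1 0 0 * b = 0 := by
      refine (mul_eq_zero.1 (show (2 : F) * _ = 0 from ?_)).resolve_left h2
      first | linear_combination e10 | linear_combination -e10
    rw [(mul_eq_zero.1 k1).resolve_right hb, (mul_eq_zero.1 k2).resolve_right hb] at hjdet
    simp at hjdet
  · have e' := congrArg Subtype.val e
    rw [Matrix.SpecialLinearGroup.coe_mul, Matrix.SpecialLinearGroup.coe_mul,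
      Matrix.SpecialLinearGroup.coe_mul, coe_negOne] at e'
    have e00 := congrFun (congrFun e' 0) 0
    have e10 := congrFun (congrFun e' 1) 0
    simp [g, Matrix.mul_apply, Fin.sum_univ_two, Matrix.vecMul, dotProduct, j11, j01] at e00 e10
    have k1 : j.1 0 0 * a = 0 := by
      refine (mul_eq_zero.1 (show (2 : F) * _ = 0 from ?_)).resolve_left h2
      first | linear_combination e00 | linear_combination -e00
    have k2 : j.1 1 0 * a = 0 := by
      refine (mul_eq_zero.1 (show (2 : F) * _ = 0 from ?_)).resolve_left h2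
      first | linear_combination e10 | linear_combination -e10
    rw [(mul_eq_zero.1 k1).resolve_right ha, (mul_eq_zero.1 k2).resolve_right ha] at hjdet
    simp at hjdet

end Cfsg.Agent.MinNonCA
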