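import Cfsg.Agent.Lib.MinNonCA.Converse
import Cfsg.Agent.Lib.Classical.PSL2Subfield
import Cfsg.Agent.Lib.Classical.DicksonProper
import Mathlib.FieldTheory.Finite.GaloisField

/-!
The conditions on `q` forced on a minimal `PSL₂(q)` without abelian centralisers.
-/

set_option autoImplicit false

namespace Cfsg.Agent.MinNonCA

open Matrix

theorem not_ca_psl (K : Type) [Field K] [Fintype K] (hodd : Odd (Fintype.card K))
    (h7 : 7 ≤ Fintype.card K) : ¬ CA (Matrix.ProjectiveSpecialLinearGroup (Fin 2) K) := by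
  intro hP
  obtain ⟨x, y, z, hx, hx1, hy, hz, hyz⟩ := exists_bad (two_ne_zero_of_odd hodd) h7
  haveI : IsSimpleGroup (Matrix.ProjectiveSpecialLinearGroup (Fin 2) K) :=
    Matrix.ProjectiveSpecialLinearGroup.rank_two_simple (by rw [Nat.card_eq_fintype_card]; omega)
  have hxc : x ∉ Subgroup.center _ := by
    intro hc
    rcases IsSimpleGroup.eq_bot_or_eq_top_of_normal (Subgroup.center
      (Matrix.ProjectiveSpecialLinearGroup (Fin 2) K)) inferInstance with hb | ht
    · exact hx1 (by rwa [hb, Subgroup.mem_bot] at hc)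
    · exact hyz (Subgroup.mem_center_iff.1 (ht ▸ Subgroup.mem_top z) y)
  haveI := hP x hxc
  exact hyz (congrArg Subtype.val (mul_comm'
    (⟨y, Subgroup.mem_centralizer_singleton_iff.2 hy⟩ : Subgroup.centralizer ({x} : Set _))
    ⟨z, Subgroup.mem_centralizer_singleton_iff.2 hz⟩))

theorem ca_five (F : Type) [Field F] [Fintype F] (h5 : Fintype.card F = 5) :
    CA (Matrix.ProjectiveSpecialLinearGroup (Fin 2) F) := by
  have h2 : (2 : F) ≠ 0 := two_ne_zero_of_odd (by rw [h5]; decide)
  have h0 := FiniteField.cast_card_eq_zero F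
  rw [h5] at h0
  simp only [Nat.cast_ofNat] at h0
  have hab : ∀ a b : F, a * a + b * b = 1 → a = 0 ∨ b = 0 := by
    intro a b hab
    by_contra hne
    push Not at hne
    have hA := FiniteField.pow_card_sub_one_eq_one a hne.1
    have hB := FiniteField.pow_card_sub_one_eq_one b hne.2
    rw [h5] at hA hB
    simp only [Nat.reduceSub] at hA hB
    have h32 : 2 * (a * a) = 1 := by linear_combination -hB + hA + (1 - a * a + b * b) * hab
    exact one_ne_zero (show (1 : F) = 0 by
      linear_combination 2 * ((2 * (a * a) + 1) * h32 - 4 * hA) - h0)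
  refine ca_of_inv (fun x y z hx hy hz => comm_of_sq_ne (by omega) hx hy hz)
    fun x y z _ hx hx1 hy hz => ?_
  exact comm_of_sq_one (sq_one h2 hab hx hx1 hy) (sq_one h2 hab hx hx1 hz)
    (sq_one h2 hab hx hx1 (by rw [mul_assoc, hz, ← mul_assoc, hy, mul_assoc]))

theorem cond_of {F : Type} [Field F] [Fintype F] (hodd : Odd (Fintype.card F))
    (h3 : 3 < Fintype.card F)
    (h8 : ¬ 8 ∣ Nat.card (Matrix.ProjectiveSpecialLinearGroup (Fin 2) F))
    (hnc : ¬ CA (Matrix.ProjectiveSpecialLinearGroup (Fin 2) F))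
    (hp : ProperCA (Matrix.ProjectiveSpecialLinearGroup (Fin 2) F)) : Cond F := by
  have hodd' := Nat.odd_iff.1 hodd
  have hP := Dickson.gcd_mul_card_psl (K := F)
  rw [Nat.card_eq_fintype_card, Nat.gcd_eq_left (show 2 ∣ Fintype.card F - 1 by omega)] at hP
  have h16 : ¬ 16 ∣ Fintype.card F ^ 2 - 1 := by
    rintro ⟨k, hk⟩
    refine h8 ⟨Fintype.card F * k, ?_⟩
    rw [hk] at hP
    linarith
  have h5 : Fintype.card F ≠ 5 := fun h => hnc (ca_five F h)
  obtain ⟨p, hcp⟩ := CharP.exists F
  obtain ⟨n, hpp, hn⟩ := FiniteField.card F p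
  haveI := Fact.mk hpp
  by_cases hn1 : (n : ℕ) = 1
  · rw [hn1, pow_one] at hn
    exact Or.inl ⟨hn ▸ hpp, by omega, h16⟩
  have hp2 : p ≠ 2 := by
    rintro rfl
    have : 2 ∣ Fintype.card F := hn ▸ dvd_pow_self 2 n.pos.ne'
    omega
  obtain ⟨l, hl, ⟨k, hlk⟩⟩ := Nat.exists_prime_and_dvd hn1
  have hk0 : k ≠ 0 := by
    rintro rfl
    have := n.pos
    omega
  have hq : Fintype.card F = (p ^ k) ^ l := by rw [hn, hlk, mul_comm, pow_mul]
  have hl2 : l ≠ 2 := by
    rintro rfl
    have hodd2 : Odd (p ^ k) := (hpp.odd_of_ne_two hp2).pow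
    obtain ⟨j, hj⟩ := hodd2
    obtain ⟨i, hi⟩ := Nat.even_mul_succ_self j
    apply h16
    rw [hq, hj, show (2 * j + 1) ^ 2 = 8 * i + 1 by linarith]
    exact ⟨4 * i * i + i, by
      rw [Nat.sub_eq_iff_eq_add (Nat.one_le_pow _ _ (by omega))]; ring⟩
  have hsmall : p ^ k < 7 := by
    by_contra h7
    rw [not_lt] at h7
    let K := GaloisField p k
    haveI : Fintype K := Fintype.ofFinite K
    have hK : Fintype.card K = p ^ k := by
      rw [← Nat.card_eq_fintype_card, GaloisField.card p k hk0]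
    have hKF : Nat.card K ^ l = Nat.card F := by
      rw [Nat.card_eq_fintype_card, Nat.card_eq_fintype_card, hK, hq]
    obtain ⟨f⟩ := PSL2Field.exists_ringHom hKF
    obtain ⟨φ, hφ⟩ := PSL2Field.exists_psl_hom f
    have hlt : p ^ k < Fintype.card F := by
      rw [hq]
      calc p ^ k = (p ^ k) ^ 1 := (pow_one _).symm
        _ < (p ^ k) ^ l := Nat.pow_lt_pow_right (by omega) hl.one_lt
    have hrange : φ.range ≠ ⊤ := by
      intro ht
      have hc : Nat.card (Matrix.ProjectiveSpecialLinearGroup (Fin 2) K) =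
          Nat.card (Matrix.ProjectiveSpecialLinearGroup (Fin 2) F) := by
        rw [Nat.card_congr (MonoidHom.ofInjective hφ).toEquiv, ht, Subgroup.card_top]
      have hoddK : (p ^ k) % 2 = 1 := Nat.odd_iff.1 (hpp.odd_of_ne_two hp2).pow
      have hPK := Dickson.gcd_mul_card_psl (K := K)
      rw [Nat.card_eq_fintype_card (α := K), hK,
        Nat.gcd_eq_left (show 2 ∣ p ^ k - 1 by omega)] at hPK
      rw [hc, hP] at hPK
      have := Nat.mul_lt_mul'' hlt
        (Nat.sub_lt_sub_right (Nat.one_le_pow _ _ (by omega)) (Nat.pow_lt_pow_left hlt two_ne_zero))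
      omega
    refine not_ca_psl K ?_ (by omega) ?_
    · rw [hK]; exact (hpp.odd_of_ne_two hp2).pow
    · exact CA.of_injective (MonoidHom.ofInjective hφ).toMonoidHom (MulEquiv.injective _)
        (hp φ.range hrange)
  have hp3 : 3 ≤ p := by have := hpp.two_le; omega
  have hk1 : k = 1 := by
    by_contra hk1
    have : p ^ 2 ≤ p ^ k := Nat.pow_le_pow_right hpp.pos (by omega)
    have := Nat.pow_le_pow_left hp3 2
    omega
  subst hk1
  rw [pow_one] at hsmall hq
  refine Or.inr ⟨l, hl, hl2, ?_⟩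
  interval_cases p
  · exact Or.inl hq
  · exact absurd hpp (by norm_num)
  · exact Or.inr hq
  · exact absurd hpp (by norm_num)

end Cfsg.Agent.MinNonCA
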