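import Cfsg.Agent.Lib.MinNonCA.Defs
import Cfsg.Agent.Lib.MinNonCA.Centraliser
import Cfsg.Agent.Lib.Classical.FourGroup
import Cfsg.Agent.Lib.GW.SectionFacts
import Cfsg.Agent.S5892
import Mathlib.LinearAlgebra.Projectivization.PSL.PSL2
import Mathlib.GroupTheory.SpecificGroups.Dihedral

/-!
The groups `PSL₂(q)` under the conditions on `q` are minimal without abelian centralisers.
-/

set_option autoImplicit false
set_option linter.unusedSectionVars false

open scoped MatrixGroups

namespace Cfsg.Agent.MinNonCA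

open Matrix

theorem CA.of_injective {H M : Type*} [Group H] [Group M] (f : H →* M) (hf : Function.Injective f)
    (hM : CA M) : CA H := by
  intro x hx
  have hfx : f x ∉ Subgroup.center M := fun h => hx (Subgroup.mem_center_iff.2 fun y => hf (by
    rw [map_mul, map_mul]; exact Subgroup.mem_center_iff.1 h (f y)))
  haveI := hM _ hfx
  have key : ∀ a : Subgroup.centralizer ({x} : Set H), f a ∈ Subgroup.centralizer ({f x} : Set M) := by
    intro a
    rw [Subgroup.mem_centralizer_singleton_iff, ← map_mul, ← map_mul,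
      Subgroup.mem_centralizer_singleton_iff.1 a.2]
  refine ⟨⟨fun a b => Subtype.ext (hf ?_)⟩⟩
  have := congrArg Subtype.val (mul_comm' (⟨f a, key a⟩ : Subgroup.centralizer ({f x} : Set M))
    ⟨f b, key b⟩)
  simpa using this

theorem ca_dihedral (k : ℕ) : CA (DihedralGroup k) := by
  intro x hx
  refine ⟨⟨fun a b => Subtype.ext ?_⟩⟩
  obtain ⟨a, ha⟩ := a
  obtain ⟨b, hb⟩ := b
  rw [Subgroup.mem_centralizer_singleton_iff] at ha hb
  show a * b = b * a
  rcases x with i | i
  · have hi : i + i ≠ 0 := fun h => hx (Subgroup.mem_center_iff.2 fun y => by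
      rcases y with j | j
      · simp [add_comm]
      · simp only [DihedralGroup.sr_mul_r, DihedralGroup.r_mul_sr, DihedralGroup.sr.injEq]
        linear_combination h)
    rcases a with j | j
    · rcases b with l | l
      · simp [add_comm]
      · simp only [DihedralGroup.sr_mul_r, DihedralGroup.r_mul_sr, DihedralGroup.sr.injEq] at hb
        exact absurd (by linear_combination hb) hi
    · simp only [DihedralGroup.sr_mul_r, DihedralGroup.r_mul_sr, DihedralGroup.sr.injEq] at ha
      exact absurd (by linear_combination ha) hi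
  · rcases a with j | j <;> rcases b with l | l <;>
      simp only [DihedralGroup.r_mul_r, DihedralGroup.r_mul_sr, DihedralGroup.sr_mul_r,
        DihedralGroup.sr_mul_sr, DihedralGroup.r.injEq, DihedralGroup.sr.injEq] at ha hb ⊢
    · ring
    · linear_combination ha
    · linear_combination -hb
    · linear_combination ha - hb

/-- It is enough that non-central involutions have abelian centralisers. -/
theorem ca_of_inv {M : Type*} [Group M]
    (hc : ∀ x y z : M, x * x ≠ 1 → y * x = x * y → z * x = x * z → y * z = z * y)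
    (hi : ∀ x y z : M, x ∉ Subgroup.center M → x * x = 1 → x ≠ 1 → y * x = x * y →
      z * x = x * z → y * z = z * y) : CA M := by
  intro x hx
  refine ⟨⟨fun a b => Subtype.ext ?_⟩⟩
  have ha := Subgroup.mem_centralizer_singleton_iff.1 a.2
  have hb := Subgroup.mem_centralizer_singleton_iff.1 b.2
  show (a : M) * b = b * a
  by_cases h2 : x * x = 1
  · exact hi x _ _ hx h2 (fun e => hx (e ▸ Subgroup.one_mem _)) ha hb
  · exact hc x _ _ h2 ha hb

theorem comm_of_sq_one {N : Type*} [Group N] {y z : N} (hy : y * y = 1) (hz : z * z = 1)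
    (hyz : y * z * (y * z) = 1) : y * z = z * y := by
  rw [eq_inv_of_mul_eq_one_left hyz, _root_.mul_inv_rev, inv_eq_of_mul_eq_one_right hy,
    inv_eq_of_mul_eq_one_right hz]

theorem two_ne_zero_of_odd {K : Type*} [Field K] [Fintype K] (hodd : Odd (Fintype.card K)) :
    (2 : K) ≠ 0 := by
  intro h
  obtain ⟨k, hk⟩ := hodd
  have h0 := FiniteField.cast_card_eq_zero K
  rw [hk] at h0
  push_cast at h0
  rw [h, zero_mul, zero_add] at h0
  exact one_ne_zero h0

theorem alt5_sq : ∀ x : alternatingGroup (Fin 5), x * x = 1 → x ≠ 1 →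
    ∀ y : alternatingGroup (Fin 5), y * x = x * y → y * y = 1 := by
  decide +kernel

theorem alt4_sq : ∀ x : alternatingGroup (Fin 4), x * x = 1 → x ≠ 1 →
    ∀ y : alternatingGroup (Fin 4), y * x = x * y → y * y = 1 := by
  decide +kernel

variable {F : Type} [Field F] [Fintype F]

local notation "P" => Matrix.ProjectiveSpecialLinearGroup (Fin 2) F

theorem cond_facts (h : Cond F) :
    Odd (Fintype.card F) ∧ 7 ≤ Fintype.card F ∧
      (Fintype.card F % 8 = 3 ∨ Fintype.card F % 8 = 5) ∧
      (∀ k r : ℕ, r.Prime → Fintype.card F = k ^ r → k = 3 ∨ k = 5) := by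
  rcases h with ⟨hp, h5, h16⟩ | ⟨p, hp, hp2, hq⟩
  · have hodd : Odd (Fintype.card F) := hp.odd_of_ne_two (by omega)
    have hmod := Nat.odd_iff.1 hodd
    refine ⟨hodd, by omega, ?_, fun k r hr e => ?_⟩
    · rw [Nat.dvd_iff_mod_eq_zero] at h16
      by_contra hne
      apply h16
      obtain ⟨j, hj⟩ : ∃ j, Fintype.card F = 8 * j + 1 ∨ Fintype.card F = 8 * j + 7 :=
        ⟨Fintype.card F / 8, by omega⟩
      rcases hj with hj | hj <;> rw [hj]
      · rw [show (8 * j + 1) ^ 2 - 1 = 16 * (4 * j * j + j) from by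
          rw [Nat.sub_eq_iff_eq_add (Nat.one_le_pow _ _ (by omega))]; ring, Nat.mul_mod_right]
      · rw [show (8 * j + 7) ^ 2 - 1 = 16 * (4 * j * j + 7 * j + 3) from by
          rw [Nat.sub_eq_iff_eq_add (Nat.one_le_pow _ _ (by omega))]; ring, Nat.mul_mod_right]
    · rw [e] at hp
      exact absurd hp.eq_one_of_pow hr.one_lt.ne'
  · obtain ⟨j, hj⟩ := hp.odd_of_ne_two hp2
    have hp3 : 3 ≤ p := by have := hp.two_le; omega
    obtain ⟨b, hb, hbq, hb8⟩ : ∃ b, (b = 3 ∨ b = 5) ∧ Fintype.card F = b ^ p ∧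
        Fintype.card F % 8 = b := by
      rcases hq with hq | hq
      · refine ⟨3, Or.inl rfl, hq, ?_⟩
        rw [hq, hj, pow_succ, pow_mul, Nat.mul_mod, Nat.pow_mod]; norm_num
      · refine ⟨5, Or.inr rfl, hq, ?_⟩
        rw [hq, hj, pow_succ, pow_mul, Nat.mul_mod, Nat.pow_mod]; norm_num
    have hbp : b.Prime := by rcases hb with rfl | rfl <;> norm_num
    refine ⟨by rw [hbq]; exact Odd.pow (by rcases hb with rfl | rfl <;> decide),
      ?_, by rcases hb with rfl | rfl <;> omega, fun k r hr e => ?_⟩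
    · rw [hbq]
      calc 7 ≤ 3 ^ 3 := by norm_num
        _ ≤ b ^ 3 := Nat.pow_le_pow_left (by omega) 3
        _ ≤ b ^ p := Nat.pow_le_pow_right (by omega) hp3
    · rw [hbq] at e
      obtain ⟨i, -, rfl⟩ := (Nat.dvd_prime_pow hbp).1 (e.symm ▸ dvd_pow_self k hr.ne_zero)
      rw [← pow_mul] at e
      have hir := Nat.pow_right_injective hbp.two_le e
      rcases (Nat.dvd_prime hp).1 ⟨i, by rw [hir, mul_comm]⟩ with h1 | h1
      · exact absurd h1 hr.one_lt.ne'
      · have : i = 1 := by
          subst h1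
          exact Nat.eq_of_mul_eq_mul_right hr.pos (by rw [one_mul]; exact hir.symm)
        rw [this, pow_one]; exact hb

theorem not_square (h8 : Fintype.card F % 8 = 3 ∨ Fintype.card F % 8 = 5) (k : ℕ) :
    Fintype.card F ≠ k ^ 2 := by
  intro e
  have : k ^ 2 % 8 = (k % 8) ^ 2 % 8 := Nat.pow_mod k 2 8
  have hk : k % 8 < 8 := Nat.mod_lt _ (by norm_num)
  interval_cases hk8 : k % 8 <;> omega

/-- Centralisers of elements of order above two are abelian. -/
theorem comm_of_sq_ne (h3 : 3 < Fintype.card F) {x y z : P} (hx : x * x ≠ 1)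
    (hy : y * x = x * y) (hz : z * x = x * z) : y * z = z * y := by
  haveI : IsSimpleGroup P :=
    Matrix.ProjectiveSpecialLinearGroup.rank_two_simple (by rw [Nat.card_eq_fintype_card]; omega)
  by_cases hc : IsMulCommutative P
  · exact mul_comm' y z
  have hι := GW.conj_injective hc
  have hmem : ∀ g : P, MulAut.conj g ∈ Cfsg.inndiagPSL 2 F := fun g =>
    (GW.mem_inndiag_iff_fld _).2 (GW.fldHom_inn ⟨g, rfl⟩)
  refine hι ?_
  rw [map_mul, map_mul]
  refine GW.inndiag_centraliser_comm (hmem x) (fun e => hx (hι (by rw [map_mul, e, map_one])))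
    (hmem y) (hmem z) ?_ ?_
  · rw [← map_mul, ← map_mul, hy]
  · rw [← map_mul, ← map_mul, hz]

theorem ca_coatom (h : Cond F) (M : Subgroup P) (hM : IsCoatom M) : CA M := by
  obtain ⟨hodd, h7, h8, hpow⟩ := cond_facts h
  have h2 := two_ne_zero_of_odd hodd
  have hc : ∀ x y z : M, x * x ≠ 1 → y * x = x * y → z * x = x * z → y * z = z * y := by
    intro x y z hx hy hz
    exact Subtype.ext (comm_of_sq_ne (by omega) (fun e => hx (Subtype.ext e))
      (congrArg Subtype.val hy) (congrArg Subtype.val hz))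
  have of_sq : ∀ {N : Type} [Group N], (M ≃* N) →
      (∀ x : N, x * x = 1 → x ≠ 1 → ∀ y : N, y * x = x * y → y * y = 1) → CA M := by
    intro N _ e hN
    refine ca_of_inv hc fun x y z _ hx hx1 hy hz => ?_
    have key : ∀ v : M, v * x = x * v → v * v = 1 := fun v hv => e.injective (by
      rw [map_mul, map_one]
      exact hN (e x) (by rw [← map_mul, hx, map_one]) (fun h1 => hx1 (e.injective (by rw [h1, map_one])))
        (e v) (by rw [← map_mul, ← map_mul, hv]))
    exact comm_of_sq_one (key y hy) (key z hz)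
      (key (y * z) (by rw [mul_assoc, hz, ← mul_assoc, hy, mul_assoc]))
  haveI : Fact (ringChar F).Prime := ⟨CharP.char_is_prime F _⟩
  rcases Cfsg.Agent.S5892.result (ringChar F) hodd (by omega) M hM with
    hB | ⟨-, k, -, ⟨e⟩⟩ | ⟨-, -, k, -, ⟨e⟩⟩ | ⟨F₀, _, _, hq, -⟩ | ⟨F₀, i1, i2, r, hr, -, hq, ⟨e⟩⟩ |
    ⟨-, -, ⟨e⟩⟩ | ⟨-, -, -, ⟨e⟩⟩ | ⟨hqp, hp8, -⟩
  · refine ca_of_inv hc fun x y z _ hx hx1 hy hz => ?_
    by_contra hyz
    obtain ⟨s, hs, hss, hs1, hsx⟩ := comm_or_invol h2 (congrArg Subtype.val hx)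
      (fun e => hx1 (Subtype.ext e)) (congrArg Subtype.val hy) (congrArg Subtype.val hz)
      (fun e => hyz (Subtype.ext e))
    have hsM : s ∈ M := by rcases hs with rfl | rfl <;> exact SetLike.coe_mem _
    have hsc : s * x = x * s := by
      rcases hs with rfl | rfl
      · exact congrArg Subtype.val hy
      · exact congrArg Subtype.val hz
    have h4 : 4 ∣ Nat.card M := by
      have hK : IsKleinFour (Cfsg.Agent.FourGroup.four (x : P) s (congrArg Subtype.val hx) hss
          hsc.symm) :=
        Cfsg.Agent.FourGroup.isKleinFour_four (fun e => hx1 (Subtype.ext e)) hs1 (Ne.symm hsx)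
      rw [← hK.card_four]
      refine Subgroup.card_dvd_of_le fun v hv => ?_
      rcases Cfsg.Agent.FourGroup.mem_four.1 hv with rfl | rfl | rfl | rfl
      · exact one_mem M
      · exact x.2
      · exact hsM
      · exact mul_mem x.2 hsM
    obtain ⟨j, hj⟩ := h4
    obtain ⟨i, hi⟩ : ∃ i, Fintype.card F = 8 * i + 3 ∨ Fintype.card F = 8 * i + 5 :=
      ⟨Fintype.card F / 8, by omega⟩
    rcases hi with hi | hi <;> rw [hi, hj] at hB
    · rw [show (8 * i + 3 - 1) = 2 * (4 * i + 1) by omega] at hB
      have : (8 * i + 3) * (4 * i + 1) = 2 * (2 * j) := by linarith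
      have hodd' : Odd ((8 * i + 3) * (4 * i + 1)) :=
        Odd.mul ⟨4 * i + 1, by ring⟩ ⟨2 * i, by ring⟩
      rw [this, Nat.odd_iff] at hodd'
      omega
    · rw [show (8 * i + 5 - 1) = 4 * (2 * i + 1) by omega] at hB
      have : (8 * i + 5) * (2 * i + 1) = 2 * j := by linarith
      have hodd' : Odd ((8 * i + 5) * (2 * i + 1)) :=
        Odd.mul ⟨4 * i + 2, by ring⟩ ⟨i, by ring⟩
      rw [this, Nat.odd_iff] at hodd'
      omega
  · exact CA.of_injective e.toMonoidHom e.injective (ca_dihedral k)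
  · exact CA.of_injective e.toMonoidHom e.injective (ca_dihedral k)
  · exact absurd hq (not_square h8 _)
  · have hk := hpow _ r hr hq
    refine of_sq e fun x hx hx1 y hy => ?_
    have hodd0 : Odd (Fintype.card F₀) := by rcases hk with e' | e' <;> rw [e'] <;> decide
    refine sq_one (two_ne_zero_of_odd hodd0) (fun a b hab => ?_) hx hx1 hy
    by_contra hne
    push Not at hne
    have hA := FiniteField.pow_card_sub_one_eq_one a hne.1
    have hB := FiniteField.pow_card_sub_one_eq_one b hne.2
    have h0 := FiniteField.cast_card_eq_zero F₀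
    rcases hk with e' | e' <;> rw [e'] at hA hB h0 <;> simp only [Nat.reduceSub, Nat.cast_ofNat] at hA hB h0
    · exact one_ne_zero (show (1 : F₀) = 0 by linear_combination hab - hA - hB)
    · have h32 : 2 * (a * a) = 1 := by linear_combination -hB + hA + (1 - a * a + b * b) * hab
      exact one_ne_zero (show (1 : F₀) = 0 by
        linear_combination 2 * ((2 * (a * a) + 1) * h32 - 4 * hA) - h0)
  · exact of_sq e fun x hx hx1 y hy => alt5_sq x hx hx1 y hy
  · exact of_sq e fun x hx hx1 y hy => alt4_sq x hx hx1 y hy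
  · exfalso
    omega

/-- The converse half. -/
theorem converse {G : Type*} [Group G] [Finite G] (F : Type) [Field F] [Fintype F]
    (e : G ≃* Matrix.ProjectiveSpecialLinearGroup (Fin 2) F) (h : Cond F) :
    ¬ Group.IsSolvable G ∧ ¬ CA G ∧ ProperCA G := by
  obtain ⟨hodd, h7, h8, -⟩ := cond_facts h
  have h2 := two_ne_zero_of_odd hodd
  obtain ⟨x, y, z, hx, hx1, hy, hz, hyz⟩ := exists_bad h2 h7
  haveI : IsSimpleGroup (Matrix.ProjectiveSpecialLinearGroup (Fin 2) F) :=
    Matrix.ProjectiveSpecialLinearGroup.rank_two_simple (by rw [Nat.card_eq_fintype_card]; omega)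
  refine ⟨fun hs => ?_, fun hG => ?_, ?_⟩
  · haveI := hs
    haveI : Group.IsSolvable (Matrix.ProjectiveSpecialLinearGroup (Fin 2) F) :=
      solvable_of_surjective (f := e.toMonoidHom) e.surjective
    exact hyz (IsSimpleGroup.comm_iff_isSolvable.2 inferInstance y z)
  · have hP := CA.of_injective e.symm.toMonoidHom e.symm.injective hG
    have hxc : x ∉ Subgroup.center _ := by
      intro hc
      rcases IsSimpleGroup.eq_bot_or_eq_top_of_normal (Subgroup.center
        (Matrix.ProjectiveSpecialLinearGroup (Fin 2) F)) inferInstance with hb | ht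
      · exact hx1 (by rwa [hb, Subgroup.mem_bot] at hc)
      · exact hyz (Subgroup.mem_center_iff.1 (ht ▸ Subgroup.mem_top z) y)
    haveI := hP x hxc
    have := congrArg Subtype.val (mul_comm'
      (⟨y, Subgroup.mem_centralizer_singleton_iff.2 hy⟩ : Subgroup.centralizer ({x} : Set _))
      ⟨z, Subgroup.mem_centralizer_singleton_iff.2 hz⟩)
    exact hyz this
  · intro H hH
    have hH' : H.map e.toMonoidHom ≠ ⊤ := fun ht => hH
      (Subgroup.map_injective e.injective (ht.trans (Subgroup.map_top_of_surjective _ e.surjective).symm))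
    obtain ht | ⟨M, hM, hle⟩ := eq_top_or_exists_le_coatom (H.map e.toMonoidHom)
    · exact absurd ht hH'
    exact CA.of_injective
      ((Subgroup.inclusion hle).comp (H.equivMapOfInjective e.toMonoidHom e.injective).toMonoidHom)
      ((Subgroup.inclusion_injective hle).comp (MulEquiv.injective _)) (ca_coatom h M hM)

end Cfsg.Agent.MinNonCA
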