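import Cfsg.Agent.Lib.MinNonCA.Tools
import Mathlib.GroupTheory.Solvable

/-!
The quotient by the centre has trivial odd core.
-/

set_option autoImplicit false

namespace Cfsg.Agent.MinNonCA

universe u

variable {G : Type u} [Group G] [Finite G]

omit [Finite G] in
/-- Products in a group of class two. -/
theorem mul_pow_class_two {a b : G} (hc : b * a * b⁻¹ * a⁻¹ ∈ Subgroup.center G) :
    ∀ k : ℕ, ∃ j : ℕ, (a * b) ^ k = (b * a * b⁻¹ * a⁻¹) ^ j * (a ^ k * b ^ k) := by
  intro k
  induction k with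
  | zero => exact ⟨0, by simp⟩
  | succ k ih =>
    obtain ⟨j, hj⟩ := ih
    refine ⟨j + k, ?_⟩
    set c := b * a * b⁻¹ * a⁻¹ with hcdef
    have h1 : b ^ k * a = c ^ k * a * b ^ k := by
      rw [← comm_conj_pow hc k]; group
    have h2 := Subgroup.mem_center_iff.1 (pow_mem hc k) (a ^ k)
    calc (a * b) ^ (k + 1) = c ^ j * (a ^ k * (b ^ k * a) * b) := by
          rw [pow_succ, hj]; group
      _ = c ^ j * ((a ^ k * c ^ k) * a * b ^ k * b) := by rw [h1]; group
      _ = c ^ (j + k) * (a ^ (k + 1) * b ^ (k + 1)) := by rw [h2, pow_add, pow_succ a, pow_succ b]; group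

variable (hs : ¬ Group.IsSolvable G) (hp : ProperCA G)

include hs hp

/-- Odd normal subgroups of class two are central. -/
theorem odd_class_two {D : Subgroup G} (hCD : Subgroup.centralizer (D : Set G) ≤ Subgroup.center G)
    (T : Sylow 2 G) {a : G} {B : Set G} (haT : a ∈ (T : Subgroup G)) (haa : a * a ∈ Subgroup.center G)
    (hB : ∀ b ∈ B, b ∈ (T : Subgroup G) ∧ b * b ∈ Subgroup.center G ∧
      a * b * a⁻¹ * b⁻¹ ∈ Subgroup.center G)
    (hcov : ∀ (C : Subgroup G) [C.Normal], Subgroup.center G ≤ C →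
      (∀ b ∈ B, a ∈ C ∨ b ∈ C ∨ a * b ∈ C) → D ≤ C)
    (A : Subgroup G) [A.Normal] (ho : Odd (Nat.card A))
    (hA : ∀ x ∈ A, ∀ y ∈ A, y * x * y⁻¹ * x⁻¹ ∈ Subgroup.center G) : A ≤ Subgroup.center G := by
  haveI : Fact (Nat.Prime 2) := ⟨Nat.prime_two⟩
  refine le_trans (Subgroup.le_centralizer_iff.1 (hcov _ (Subgroup.center_le_centralizer _) ?_)) hCD
  intro b hb
  obtain ⟨hbT, hbb, hab⟩ := hB b hb
  set U := Subgroup.center G ⊔ A with hU
  have hUsol : Group.IsSolvable U := solvable_sup solvable_center (solvable_of_odd ho)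
  have htop : ∀ g : G, g ∈ Subgroup.normalizer (U : Set G) := fun g => by
    rw [Subgroup.normalizer_eq_top]; trivial
  set H := U ⊔ Subgroup.closure {a, b} with hH
  have hHne : H ≠ ⊤ := subgroup_ne_top hs (solvable_closure_two hUsol (htop a) (htop b)
    (Subgroup.mem_sup_left haa) (Subgroup.mem_sup_left hbb))
  have hAH : A ≤ H := le_sup_right.trans le_sup_left
  have haH : a ∈ H := Subgroup.mem_sup_right (Subgroup.subset_closure (by simp))
  have hbH : b ∈ H := Subgroup.mem_sup_right (Subgroup.subset_closure (by simp))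
  have hconj : ∀ c : G, ∀ y ∈ A, c * y * c⁻¹ ∈ A := fun c y hy =>
    (inferInstance : A.Normal).conj_mem y hy c
  have key : ∀ c ∈ H, c * c ∈ Subgroup.center G → ¬ (∀ y ∈ A, c * y = y * c) →
      ∀ x ∈ A, c * x = x * c → ∀ h ∈ H, h * x = x * h := by
    intro c hcH hcc hnc x hx hcx h hh
    by_contra hhx
    refine hnc fun y hy => ?_
    set w := y⁻¹ * (c * y * c⁻¹) with hw
    have hwA : w ∈ A := A.mul_mem (A.inv_mem hy) (hconj c y hy)
    have hz := hA x hx y hy
    set z := y * x * y⁻¹ * x⁻¹ with hzdef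
    have hzc := Subgroup.mem_center_iff.1 hz
    have e1 : y⁻¹ * x = z⁻¹ * (x * y⁻¹) := by
      calc y⁻¹ * x = z⁻¹ * (z * y⁻¹) * x := by group
        _ = z⁻¹ * (y⁻¹ * z) * x := by rw [hzc y⁻¹]
        _ = _ := by rw [hzdef]; group
    have e2 : c * y * c⁻¹ * x = x * z * (c * y * c⁻¹) := by
      have hc' : c⁻¹ * x = x * c⁻¹ := ((show Commute c x from hcx).inv_left).eq
      calc c * y * c⁻¹ * x = c * y * (x * c⁻¹) := by rw [mul_assoc (c * y), hc']
        _ = c * (y * x * y⁻¹ * x⁻¹) * (x * y * c⁻¹) := by group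
        _ = z * c * (x * y * c⁻¹) := by rw [← hzdef, hzc c]
        _ = z * (x * c) * y * c⁻¹ := by rw [← hcx]; group
        _ = x * z * (c * y * c⁻¹) := by rw [← mul_assoc z x c, ← hzc x]; group
    have hwx : w * x = x * w := by
      calc w * x = y⁻¹ * (c * y * c⁻¹ * x) := by rw [hw, mul_assoc]
        _ = (y⁻¹ * x) * z * (c * y * c⁻¹) := by rw [e2]; group
        _ = z⁻¹ * (x * y⁻¹ * z) * (c * y * c⁻¹) := by rw [e1]; group
        _ = x * w := by rw [hzc (x * y⁻¹), hw]; group
    have hcw : c * w = w * c := hp.comm hHne (hAH hx) hcH (hAH hwA) hh hhx hcx hwx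
    have hinv : c * w * c⁻¹ = w⁻¹ := by
      have hcz := Subgroup.mem_center_iff.1 hcc y
      calc c * w * c⁻¹ = c * y⁻¹ * c⁻¹ * (c * c * y) * (c * c)⁻¹ := by rw [hw]; group
        _ = c * y⁻¹ * c⁻¹ * (y * (c * c)) * (c * c)⁻¹ := by rw [hcz]
        _ = w⁻¹ := by rw [hw]; group
    rw [hcw, mul_inv_cancel_right] at hinv
    have hw1 := eq_one_of_fixed_inverted ho hwA (by nth_rewrite 2 [hinv]; exact mul_inv_cancel w)
    rw [hw, inv_mul_eq_one] at hw1
    exact (mul_inv_eq_iff_eq_mul.1 hw1.symm)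
  by_cases h1 : ∀ y ∈ A, a * y = y * a
  · exact Or.inl (Subgroup.mem_centralizer_iff.2 fun y hy => (h1 y hy).symm)
  by_cases h2 : ∀ y ∈ A, b * y = y * b
  · exact Or.inr (Or.inl (Subgroup.mem_centralizer_iff.2 fun y hy => (h2 y hy).symm))
  refine Or.inr (Or.inr (Subgroup.mem_centralizer_iff.2 fun y hy => ?_))
  symm
  set Z0 := (T : Subgroup G) ⊓ Subgroup.center G with hZ0
  haveI : Z0.Normal := ⟨fun n hn g => by
    rw [Subgroup.mem_center_iff.1 hn.2 g, mul_inv_cancel_right]
    exact hn⟩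
  have hdisj : A ⊓ Z0 = ⊥ := by
    rw [eq_bot_iff]
    rintro w ⟨hwA, hwT, -⟩
    obtain ⟨k, hk⟩ := exists_two_pow T hwT
    exact Subgroup.mem_bot.2 (orderOf_eq_one_iff.1 (Nat.eq_one_of_dvd_coprimes
      ((Nat.coprime_two_left.2 ho).pow_left k) (orderOf_dvd_of_pow_eq_one hk)
      (Subgroup.orderOf_dvd_natCard A hwA)))
  have haT2 : a * a ∈ (T : Subgroup G) := mul_mem haT haT
  have hbT2 : b * b ∈ (T : Subgroup G) := mul_mem hbT hbT
  have habT : a * b * a⁻¹ * b⁻¹ ∈ (T : Subgroup G) :=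
    mul_mem (mul_mem (mul_mem haT hbT) (inv_mem haT)) (inv_mem hbT)
  exact fixed_of_axes (Z := Z0) hdisj ho ⟨haT2, haa⟩ ⟨hbT2, hbb⟩ ⟨habT, hab⟩ (hconj a) (hconj b)
    (fun x hx hxc => key a haH haa h1 x hx hxc _ (mul_mem haH hbH))
    (fun x hx hxc => key b hbH hbb h2 x hx hxc _ (mul_mem haH hbH)) y hy

/-- The quotient by the centre has trivial odd core. -/
theorem oddCore_quot {D : Subgroup G} (hCD : Subgroup.centralizer (D : Set G) ≤ Subgroup.center G)
    (T : Sylow 2 G) {a : G} {B : Set G} (haT : a ∈ (T : Subgroup G)) (haa : a * a ∈ Subgroup.center G)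
    (hB : ∀ b ∈ B, b ∈ (T : Subgroup G) ∧ b * b ∈ Subgroup.center G ∧
      a * b * a⁻¹ * b⁻¹ ∈ Subgroup.center G)
    (hcov : ∀ (C : Subgroup G) [C.Normal], Subgroup.center G ≤ C →
      (∀ b ∈ B, a ∈ C ∨ b ∈ C ∨ a * b ∈ C) → D ≤ C) :
    Cfsg.oddCore (G ⧸ Subgroup.center G) = ⊥ := by
  haveI : Fact (Nat.Prime 2) := ⟨Nat.prime_two⟩
  let π : G →* G ⧸ Subgroup.center G := QuotientGroup.mk' _
  have h1 : ∀ g, π g = 1 ↔ g ∈ Subgroup.center G := fun g => QuotientGroup.eq_one_iff g
  -- a normal subgroup of class two which is odd modulo the centre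
  have step : ∀ M : Subgroup G, M.Normal → Odd (Nat.card (M.map π)) →
      (∀ x ∈ M, ∀ y ∈ M, y * x * y⁻¹ * x⁻¹ ∈ Subgroup.center G) → M ≤ Subgroup.center G := by
    intro M hM ho hc
    let A : Subgroup G :=
      { carrier := {x | x ∈ M ∧ ∃ m, Odd m ∧ x ^ m = 1}
        one_mem' := ⟨one_mem M, 1, odd_one, one_pow 1⟩
        mul_mem' := by
          rintro x y ⟨hx, m, hm, hxm⟩ ⟨hy, n, hn, hyn⟩
          refine ⟨mul_mem hx hy, m * n * n, (hm.mul hn).mul hn, ?_⟩
          have hz := hc x hx y hy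
          obtain ⟨j, hj⟩ := mul_pow_class_two hz (m * n)
          have hzn : (y * x * y⁻¹ * x⁻¹) ^ n = 1 := by
            have := comm_conj_pow hz n
            rw [hyn, one_mul, inv_one, mul_one] at this
            exact right_eq_mul.1 this
          rw [pow_mul, hj, pow_mul x, hxm, one_pow, mul_comm m n, pow_mul y, hyn, one_pow, mul_one,
            mul_one, ← pow_mul, mul_comm j, pow_mul, hzn, one_pow]
        inv_mem' := by
          rintro x ⟨hx, m, hm, hxm⟩
          exact ⟨inv_mem hx, m, hm, by rw [inv_pow, hxm, inv_one]⟩ }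
    haveI : A.Normal := ⟨fun x hx g => ⟨hM.conj_mem x hx.1 g, by
      obtain ⟨m, hm, hxm⟩ := hx.2
      exact ⟨m, hm, by rw [conj_pow, hxm, mul_one, mul_inv_cancel]⟩⟩⟩
    have hAo : Odd (Nat.card A) := by
      rw [Nat.odd_iff, ← Nat.two_dvd_ne_zero]
      intro h2
      obtain ⟨w, hw⟩ := exists_prime_orderOf_dvd_card' 2 h2
      obtain ⟨m, hm, hwm⟩ := w.2.2
      have : 2 ∣ m := hw ▸ orderOf_dvd_of_pow_eq_one (Subtype.ext hwm)
      exact (Nat.not_even_iff_odd.2 hm) (even_iff_two_dvd.2 this)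
    have hAZ := odd_class_two hs hp hCD T haT haa hB hcov A hAo
      fun x hx y hy => hc x hx.1 y hy.1
    intro g hg
    obtain ⟨y, v, hyv, hy, hv, -, ⟨k, hk⟩, m, hm, hvm⟩ := exists_p_part 2 g
    rw [← hyv]
    refine mul_mem ((h1 y).1 ?_) (hAZ ⟨Subgroup.zpowers_le.2 hg hv, m, Nat.coprime_two_right.1 hm, hvm⟩)
    exact orderOf_eq_one_iff.1 (Nat.eq_one_of_dvd_coprimes ((Nat.coprime_two_left.2 ho).pow_left k)
      (orderOf_dvd_of_pow_eq_one (by rw [← map_pow, hk, map_one]))
      (Subgroup.orderOf_dvd_natCard _ (Subgroup.mem_map_of_mem π (Subgroup.zpowers_le.2 hg hy))))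
  rw [eq_bot_iff]
  refine sSup_le ?_
  rintro N' ⟨hN', hN'c⟩
  have ho : Odd (Nat.card N') := Nat.coprime_two_right.1 hN'c
  haveI := hN'
  set N := N'.comap π with hN
  haveI : N.Normal := hN'.comap π
  have hNN : N.map π = N' := Subgroup.map_comap_eq_self_of_surjective (QuotientGroup.mk'_surjective _) N'
  have hNsol : Group.IsSolvable N := by
    let f : N →* N' := (π.comp N.subtype).codRestrict N' fun x => x.2
    haveI := solvable_of_odd ho
    refine solvable_ext f.ker ?_ (solvable_of_injective (QuotientGroup.kerLift f)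
      (QuotientGroup.kerLift_injective f) inferInstance)
    refine Group.isSolvable_of_comm fun x y => Subtype.ext (Subtype.ext ?_)
    have hy : ((y : N) : G) ∈ Subgroup.center G := (h1 _).1 (congrArg Subtype.val y.2)
    exact Subgroup.mem_center_iff.1 hy _
  let E : ℕ → Subgroup G := fun n => n.rec N fun _ K => ⁅K, K⁆
  have hEn : ∀ n, (E n).Normal := fun n => by
    induction n with
    | zero => exact (inferInstance : N.Normal)
    | succ n ih => exact Subgroup.commutator_normal _ _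
  have hEN : ∀ n, E n ≤ N := fun n => by
    induction n with
    | zero => exact le_rfl
    | succ n ih =>
      haveI := hEn n
      exact (Subgroup.commutator_le_left (E n) (E n)).trans ih
  have hEd : ∀ n, E n = (derivedSeries N n).map N.subtype := by
    intro n
    induction n with
    | zero => rw [derivedSeries_zero, ← MonoidHom.range_eq_map, Subgroup.range_subtype]; rfl
    | succ n ih => rw [derivedSeries_succ, Subgroup.map_commutator, ← ih]
  have hstep : ∀ n, E (n + 1) ≤ Subgroup.center G → E n ≤ Subgroup.center G := fun n hn =>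
    step (E n) (hEn n) (by
      obtain ⟨c, hc⟩ := Subgroup.card_dvd_of_le (Subgroup.map_mono (f := π) (hEN n))
      rw [hNN] at hc
      exact ho.of_dvd_nat ⟨c, hc⟩)
      fun x hx y hy => hn (Subgroup.commutator_mem_commutator hy hx)
  obtain ⟨n, hn⟩ := (Group.isSolvable_def _).1 hNsol
  have h0 : N ≤ Subgroup.center G := by
    have key : ∀ k, E k ≤ Subgroup.center G → E 0 ≤ Subgroup.center G := fun k => by
      induction k with
      | zero => exact id
      | succ k ih => exact fun h => ih (hstep k h)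
    exact key n (by rw [hEd, hn, Subgroup.map_bot]; exact bot_le)
  intro q hq
  obtain ⟨g, rfl⟩ := QuotientGroup.mk'_surjective _ q
  exact Subgroup.mem_bot.2 ((h1 g).2 (h0 hq))

end Cfsg.Agent.MinNonCA
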