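import Cfsg.Agent.Lib.MinNonCA.Two
import Cfsg.Agent.Lib.Classical.PSL2Involutions
import Cfsg.Agent.Lib.Classical.SL2Sylow
import Cfsg.Agent.Lib.Classical.DicksonProper
import Cfsg.Agent.Lib.Transfer.Hall
import Mathlib.Algebra.Polynomial.Roots
import Mathlib.Tactic.ComputeDegree
import Mathlib.GroupTheory.SpecificGroups.Cyclic

/-!
A perfect central extension of `PSL₂(q)`, `8 ∤ |PSL₂(q)|`, by a group of odd order is trivial.
-/

set_option autoImplicit false

namespace Cfsg.Agent.MinNonCA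

open Matrix PSL2Inv SL2Classes

variable {F : Type} [Field F] [Fintype F]

local notation "S" => Matrix.SpecialLinearGroup (Fin 2) F
local notation "P" => Matrix.ProjectiveSpecialLinearGroup (Fin 2) F

/-- Two adjacent non-zero squares avoiding the cube roots of unity. -/
theorem exists_square_pair (h2 : (2 : F) ≠ 0) (h14 : 14 ≤ Fintype.card F) :
    ∃ t t' : F, t ≠ 0 ∧ t' ≠ 0 ∧ 1 + t * t = t' * t' ∧
      t * t * (t * t) + t * t + 1 ≠ 0 := by
  classical
  let Q : Polynomial F := Polynomial.X * (Polynomial.X ^ 4 - 1) *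
    ((Polynomial.X ^ 2 - 1) ^ 4 + Polynomial.C 4 * Polynomial.X ^ 2 * (Polynomial.X ^ 2 - 1) ^ 2 +
      Polynomial.C 16 * Polynomial.X ^ 4)
  have hm : Q.Monic := by
    refine ((Polynomial.monic_X).mul ?_).mul ?_ <;> monicity!
  have hdeg : Q.natDegree ≤ 13 := by
    simp only [Q]; compute_degree
  obtain ⟨u, hu⟩ : ∃ u : F, Q.eval u ≠ 0 := by
    by_contra hno
    push Not at hno
    exact hm.ne_zero (Polynomial.eq_zero_of_natDegree_lt_card_of_eval_eq_zero' Q Finset.univ
      (fun u _ => hno u) (by rw [Finset.card_univ]; omega))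
  simp only [Q, Polynomial.eval_mul, Polynomial.eval_add, Polynomial.eval_sub, Polynomial.eval_pow,
    Polynomial.eval_X, Polynomial.eval_one, Polynomial.eval_C, mul_ne_zero_iff] at hu
  obtain ⟨⟨hu0, hu4⟩, hu8⟩ := hu
  refine ⟨(u ^ 2 - 1) / (2 * u), (u ^ 2 + 1) / (2 * u), ?_, ?_, ?_, ?_⟩
  · refine div_ne_zero (fun e => hu4 ?_) (mul_ne_zero h2 hu0)
    linear_combination (u ^ 2 + 1) * e
  · refine div_ne_zero (fun e => hu4 ?_) (mul_ne_zero h2 hu0)
    linear_combination (u ^ 2 - 1) * e
  · field_simp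
    ring
  · intro e
    apply hu8
    field_simp at e
    linear_combination e

omit [Fintype F] in
theorem pr_upper_injective (h2 : (2 : F) ≠ 0) :
    Function.Injective fun a : F => pr (upper a) := by
  intro a b h
  rcases pr_eq_iff.1 h with e | e
  · have := congrFun (congrFun (congrArg Subtype.val e) 0) 1
    simpa using this.symm
  · have := congrFun (congrFun (congrArg Subtype.val e) 0) 0
    rw [Matrix.SpecialLinearGroup.coe_mul, SL2Inv.coe_negOne] at this
    simp at this
    exact absurd (show (2 : F) = 0 by linear_combination this) h2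

theorem odd_cover {X : Type*} [Group X] [Finite X] (F : Type) [Field F] [Fintype F]
    (hodd : Odd (Fintype.card F)) (h3 : 3 < Fintype.card F)
    (h8 : ¬ 8 ∣ Nat.card (Matrix.ProjectiveSpecialLinearGroup (Fin 2) F))
    (hperf : commutator X = ⊤) (f : X →* Matrix.ProjectiveSpecialLinearGroup (Fin 2) F)
    (hf : Function.Surjective f) (hk : f.ker ≤ Subgroup.center X) (hko : Odd (Nat.card f.ker)) :
    f.ker = ⊥ := by
  classical
  by_contra hne
  obtain ⟨r, hr, hrd⟩ := Nat.exists_prime_and_dvd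
    (n := Nat.card f.ker) fun h1 => hne (Subgroup.card_eq_one.1 h1)
  haveI := Fact.mk hr
  have hr2 : r ≠ 2 := by
    rintro rfl
    exact (Nat.not_even_iff_odd.2 hko) (even_iff_two_dvd.2 hrd)
  obtain ⟨⟨z, hz⟩, hzo⟩ := exists_prime_orderOf_dvd_card' (G := f.ker) r hrd
  rw [Subgroup.orderOf_mk] at hzo
  obtain ⟨T, hT⟩ := (IsPGroup.of_card (n := 1) (by rw [Nat.card_zpowers, hzo, pow_one]) :
    IsPGroup r (Subgroup.zpowers z)).exists_le_sylow
  have abel : IsMulCommutative (T : Subgroup X) → False := fun hab => by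
    have h1 := TransferHall.inf_commutator_inf_center (T : Subgroup X) hab T.card_coprime_index
    have h2 : z ∈ (T : Subgroup X) ⊓ commutator X ⊓ Subgroup.center X :=
      ⟨⟨hT (Subgroup.mem_zpowers z), hperf ▸ Subgroup.mem_top z⟩, hk hz⟩
    rw [h1, Subgroup.mem_bot] at h2
    rw [h2, orderOf_one] at hzo
    exact hr.one_lt.ne hzo
  let T1 := T.mapSurjective hf
  have cyc : IsCyclic (T1 : Subgroup (Matrix.ProjectiveSpecialLinearGroup (Fin 2) F)) → False := by
    intro hc
    refine abel ⟨⟨fun a b => commutative_of_cyclic_center_quotient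
      ((f.comp (T : Subgroup X).subtype).codRestrict
        (T1 : Subgroup (Matrix.ProjectiveSpecialLinearGroup (Fin 2) F))
        fun x => Subgroup.mem_map_of_mem f x.2)
      (fun x hx => Subgroup.mem_center_iff.2 fun y => Subtype.ext
        (Subgroup.mem_center_iff.1 (hk (congrArg Subtype.val (MonoidHom.mem_ker.1 hx))) y)) a b⟩⟩
  obtain ⟨p, hcp⟩ := CharP.exists F
  obtain ⟨n, hp, hn⟩ := FiniteField.card F p
  haveI := Fact.mk hp
  by_cases hrp : r = p
  swap
  · obtain ⟨R⟩ : Nonempty (Sylow r (Matrix.SpecialLinearGroup (Fin 2) F)) := inferInstance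
    haveI := SL2Sylow.sylow_odd_cyclic p r hr2 hrp
      (R : Subgroup (Matrix.SpecialLinearGroup (Fin 2) F)) R.2
    let R1 := R.mapSurjective (f := (pr : Matrix.SpecialLinearGroup (Fin 2) F →*
      Matrix.ProjectiveSpecialLinearGroup (Fin 2) F)) pr_surjective
    haveI : IsCyclic (R1 : Subgroup (Matrix.ProjectiveSpecialLinearGroup (Fin 2) F)) :=
      isCyclic_of_surjective (pr.subgroupMap (R : Subgroup (Matrix.SpecialLinearGroup (Fin 2) F)))
        (pr.subgroupMap_surjective _)
    exact cyc (isCyclic_of_surjective (Sylow.equiv R1 T1).toMonoidHom (Sylow.equiv R1 T1).surjective)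
  subst hrp
  have h2 : (2 : F) ≠ 0 := fun e => hr2 ((Nat.prime_dvd_prime_iff_eq hr Nat.prime_two).1
    ((CharP.cast_eq_zero_iff F r 2).1 (by exact_mod_cast e)))
  let φ : Multiplicative F →* Matrix.ProjectiveSpecialLinearGroup (Fin 2) F :=
    MonoidHom.mk' (fun a => pr (upper a.toAdd)) fun a b => by
      rw [← map_mul, ← upper_add]; rfl
  have hφ : Function.Injective φ := fun a b e => Multiplicative.toAdd.injective
    (pr_upper_injective h2 e)
  have hcard : Nat.card φ.range = r ^ (n : ℕ) := by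
    rw [← Nat.card_congr (MonoidHom.ofInjective hφ).toEquiv,
      Nat.card_congr Multiplicative.toAdd, Nat.card_eq_fintype_card, hn]
  have hodd' := Nat.odd_iff.1 hodd
  have hP := Dickson.gcd_mul_card_psl (K := F)
  rw [Nat.card_eq_fintype_card, Nat.gcd_eq_left (show 2 ∣ Fintype.card F - 1 by omega)] at hP
  have hidx : ¬ r ∣ φ.range.index := by
    intro hdvd
    have h1 := Subgroup.card_mul_index φ.range
    rw [hcard, ← hn] at h1
    have h2' : 2 * φ.range.index = Fintype.card F ^ 2 - 1 := by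
      apply Nat.eq_of_mul_eq_mul_left (show 0 < Fintype.card F by omega)
      rw [← hP, ← h1]; ring
    have h4 : r ∣ Fintype.card F ^ 2 - 1 := h2' ▸ dvd_mul_of_dvd_right hdvd 2
    have h5 : r ∣ Fintype.card F ^ 2 := by
      rw [hn, ← pow_mul]; exact dvd_pow_self r (by positivity)
    have := Nat.dvd_sub h5 h4
    rw [Nat.sub_sub_self (Nat.one_le_pow _ _ (by omega))] at this
    exact hr.ne_one (Nat.dvd_one.1 this)
  let U : Sylow r (Matrix.ProjectiveSpecialLinearGroup (Fin 2) F) :=
    (IsPGroup.of_card hcard).toSylow hidx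
  by_cases hn1 : (n : ℕ) = 1
  · haveI : IsCyclic (U : Subgroup (Matrix.ProjectiveSpecialLinearGroup (Fin 2) F)) :=
      isCyclic_of_prime_card (p := r) (by
        show Nat.card φ.range = r
        rw [hcard, hn1, pow_one])
    exact cyc (isCyclic_of_surjective (Sylow.equiv U T1).toMonoidHom (Sylow.equiv U T1).surjective)
  have h14 : 14 ≤ Fintype.card F := by
    by_contra hlt
    have hnn : 2 ≤ (n : ℕ) := by have := n.pos; omega
    have hr3 : 3 ≤ r := by have := hr.two_le; omega
    have hle : r ^ 2 ≤ Fintype.card F := hn ▸ Nat.pow_le_pow_right hr.pos hnn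
    have hr4 : r < 4 := by
      by_contra h4
      have := Nat.pow_le_pow_left (not_lt.1 h4) 2
      omega
    obtain rfl : r = 3 := by omega
    have hn3 : (n : ℕ) < 3 := by
      by_contra h4
      have : 3 ^ 3 ≤ Fintype.card F := hn ▸ Nat.pow_le_pow_right (by norm_num) (not_lt.1 h4)
      omega
    rw [show (n : ℕ) = 2 by omega] at hn
    rw [hn] at hP
    apply h8
    norm_num at hP ⊢
    omega
  obtain ⟨t, t', ht, ht', htt, hne'⟩ := exists_square_pair h2 h14
  obtain ⟨g, hg⟩ := MulAction.exists_smul_eq (Matrix.ProjectiveSpecialLinearGroup (Fin 2) F) T1 U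
  obtain ⟨γ, hγ⟩ := hf g
  have hmem : ∀ p : T, ∃ x : F, f (γ * p * γ⁻¹) = pr (upper x) := fun p => by
    have h1 : f p ∈ (T1 : Subgroup (Matrix.ProjectiveSpecialLinearGroup (Fin 2) F)) :=
      ⟨p, p.2, rfl⟩
    have h2 : g * f p * g⁻¹ ∈ (U : Subgroup (Matrix.ProjectiveSpecialLinearGroup (Fin 2) F)) := by
      rw [← hg, Sylow.coe_subgroup_smul]
      exact ⟨f p, h1, rfl⟩
    obtain ⟨x, hx⟩ : g * f p * g⁻¹ ∈ φ.range := h2
    exact ⟨x.toAdd, by rw [map_mul, map_mul, map_inv, hγ, ← hx]; rfl⟩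
  refine abel ⟨⟨fun a b => Subtype.ext ?_⟩⟩
  obtain ⟨x, hx⟩ := hmem a
  obtain ⟨y, hy⟩ := hmem b
  have h := commute_of_pairing f hf hk (fun v => pr (upper v))
    (fun v w => by rw [upper_add, map_mul]) (mul_ne_zero ht ht) hne'
    (d := pr (dia t ht)) (e := pr (dia t' ht'))
    (fun v => by rw [← map_mul, ← map_mul, dia_upper])
    (fun v => by rw [← map_mul, ← map_mul, dia_upper, htt]) hx hy
  calc (a : X) * b = γ⁻¹ * ((γ * a * γ⁻¹) * (γ * b * γ⁻¹)) * γ := by group
    _ = γ⁻¹ * ((γ * b * γ⁻¹) * (γ * a * γ⁻¹)) * γ := by rw [h]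
    _ = b * a := by group

end Cfsg.Agent.MinNonCA
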