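import Cfsg.Agent.Lib.MinNonCA.DihData
import Cfsg.Agent.Lib.Transfer.SignThompson

/-!
In a perfect group an abelian subgroup of index two in a Sylow 2-subgroup gives the dihedral shape.
-/

set_option autoImplicit false

namespace Cfsg.Agent.MinNonCA

universe u

variable {G : Type u} [Group G] [Finite G]

/-- Thompson transfer. -/
theorem fused (hperf : commutator G = ⊤) {T : Sylow 2 G} {A : Subgroup G} {u : G}
    (hle : A ≤ (T : Subgroup G)) (huT : u ∈ (T : Subgroup G)) (hun : u ∉ A)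
    (hsplit : ∀ t ∈ (T : Subgroup G), t ∈ A ∨ t * u⁻¹ ∈ A) (huA : u * u ∈ A)
    (huZ : u * u ∈ Subgroup.center G) : ∃ g : G, g * u * g⁻¹ ∈ A := by
  haveI : Fact (Nat.Prime 2) := ⟨Nat.prime_two⟩
  by_contra hno
  push Not at hno
  set W := Subgroup.zpowers (u * u) with hW
  haveI hWn : W.Normal := ⟨fun n hn g => by
    rw [Subgroup.mem_center_iff.1 (Subgroup.zpowers_le.2 huZ hn) g, mul_inv_cancel_right]
    exact hn⟩
  have hWA : W ≤ A := Subgroup.zpowers_le.2 huA
  let π : G →* G ⧸ W := QuotientGroup.mk' W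
  have hπ : Function.Surjective π := QuotientGroup.mk'_surjective W
  have h1 : ∀ g, π g = 1 ↔ g ∈ W := fun g => QuotientGroup.eq_one_iff g
  have hmem : ∀ g, π g ∈ A.map π ↔ g ∈ A := fun g => by
    refine ⟨fun ⟨a, ha, e⟩ => ?_, Subgroup.mem_map_of_mem π⟩
    have h2 : a⁻¹ * g ∈ W := by rw [← h1, map_mul, map_inv, e, inv_mul_cancel]
    simpa using mul_mem ha (hWA h2)
  have hrel : A.relIndex (T : Subgroup G) = 2 := by
    rw [Subgroup.relIndex, Subgroup.index_eq_two_iff]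
    refine ⟨⟨u⁻¹, inv_mem huT⟩, fun b => ?_⟩
    simp only [Subgroup.mem_subgroupOf, Subgroup.coe_mul]
    rcases hsplit b b.2 with h | h
    · refine Or.inr ⟨h, fun h' => hun ?_⟩
      have := mul_mem (inv_mem h) h'
      simpa using this
    · refine Or.inl ⟨h, fun h' => hun ?_⟩
      have := mul_mem (inv_mem h') h
      simpa using this
  have hidx : (A.map π).index = 2 ^ (0 + 1) * (T : Subgroup G).index := by
    rw [A.index_map_eq hπ (by rwa [QuotientGroup.ker_mk']), ← Subgroup.relIndex_mul_index hle,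
      hrel]
    rfl
  have hu2 : orderOf (π u) = 2 ^ (0 + 1) := (orderOf_eq_prime (p := 2)
    (by rw [pow_two, ← map_mul, h1]; exact Subgroup.mem_zpowers _)
    fun e => hun (hWA ((h1 u).1 e))).trans (pow_one 2).symm
  obtain ⟨χ, hχ⟩ := SignThompson.exists_sign_hom (A.map π) (π u) 0 _ hu2 (by
    intro q
    obtain ⟨g, rfl⟩ := hπ q
    rw [pow_zero, pow_one, ← map_inv, ← map_mul, ← map_mul, hmem]
    have := hno g⁻¹
    rwa [inv_inv] at this)
    (Nat.odd_iff.2 (Nat.two_dvd_ne_zero.1 T.not_dvd_index)) hidx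
  have h3 : χ.comp π u = 1 := by
    rw [← MonoidHom.mem_ker]
    exact Abelianization.commutator_subset_ker (χ.comp π) (hperf ▸ Subgroup.mem_top u)
  rw [MonoidHom.comp_apply, hχ] at h3
  exact absurd h3 (by decide)

theorem Idx.inverted {T : Sylow 2 G} {A : Subgroup G} {u x : G} (huZ : u * u ∈ Subgroup.center G) :
    u * (x * u * x⁻¹ * u⁻¹) * u⁻¹ = (x * u * x⁻¹ * u⁻¹)⁻¹ := by
  have h := Subgroup.mem_center_iff.1 (inv_mem huZ)
  calc u * (x * u * x⁻¹ * u⁻¹) * u⁻¹ = u * x * u * (x⁻¹ * (u * u)⁻¹) := by group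
    _ = u * x * u * ((u * u)⁻¹ * x⁻¹) := by rw [h x⁻¹]
    _ = _ := by group

variable (hs : ¬ Group.IsSolvable G) (hp : ProperCA G) (hperf : commutator G = ⊤)
  {T : Sylow 2 G} (hna : ¬ IsMulCommutative (T : Subgroup G))

include hs hp hperf hna

theorem Idx.center_phi {A : Subgroup G} {u : G} (d : Idx T A u) {z : G}
    (hzT : z ∈ (T : Subgroup G)) (hz : z ∈ Subgroup.center G) :
    ∃ x ∈ A, x * u * x⁻¹ * u⁻¹ = z := by
  haveI : Fact (Nat.Prime 2) := ⟨Nat.prime_two⟩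
  let φ : A →* G := MonoidHom.mk' (fun x => (x : G) * u * (x : G)⁻¹ * u⁻¹)
    fun x y => d.phi_mul x.2 y.2
  have hle : ⁅(T : Subgroup G), (T : Subgroup G)⁆ ≤ φ.range := by
    rw [Subgroup.commutator_le]
    intro s hs' t ht
    rw [commutatorElement_def]
    rcases d.split s hs' with ha | ha <;> rcases d.split t ht with hb | hb
    · rw [d.comm s ha t hb, mul_inv_cancel_right, mul_inv_cancel]
      exact one_mem _
    · refine ⟨⟨s, ha⟩, ?_⟩
      show s * u * s⁻¹ * u⁻¹ = _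
      have e := d.comm (t * u⁻¹) hb _ (d.phi_mem ha)
      calc s * u * s⁻¹ * u⁻¹ = (t * u⁻¹) * (s * u * s⁻¹ * u⁻¹) * (t * u⁻¹)⁻¹ := by
            rw [e, mul_inv_cancel_right]
        _ = (t * u⁻¹) * s * (t * u⁻¹)⁻¹ * (t * s⁻¹ * t⁻¹) := by group
        _ = _ := by rw [d.comm _ hb s ha, mul_inv_cancel_right]; group
    · refine ⟨⟨t, hb⟩⁻¹, ?_⟩
      rw [map_inv]
      show (t * u * t⁻¹ * u⁻¹)⁻¹ = _
      have e := d.comm (s * u⁻¹) ha _ (inv_mem (d.phi_mem hb))
      calc (t * u * t⁻¹ * u⁻¹)⁻¹ = (s * u⁻¹) * (t * u * t⁻¹ * u⁻¹)⁻¹ * (s * u⁻¹)⁻¹ := by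
            rw [e, mul_inv_cancel_right]
        _ = (s * t * s⁻¹) * ((s * u⁻¹) * t⁻¹ * (s * u⁻¹)⁻¹) := by group
        _ = _ := by rw [d.comm _ ha t⁻¹ (inv_mem hb), mul_inv_cancel_right]
    · refine ⟨⟨s * u⁻¹, ha⟩ * ⟨t * u⁻¹, hb⟩⁻¹, ?_⟩
      rw [map_mul, map_inv]
      set a := s * u⁻¹ with had
      set b := t * u⁻¹ with hbd
      show a * u * a⁻¹ * u⁻¹ * (b * u * b⁻¹ * u⁻¹)⁻¹ = _
      have es : s = a * u := (inv_mul_cancel_right s u).symm
      have et : t = b * u := (inv_mul_cancel_right t u).symm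
      rw [es, et]
      calc a * u * a⁻¹ * u⁻¹ * (b * u * b⁻¹ * u⁻¹)⁻¹ = a * u * (a⁻¹ * b) * u⁻¹ * b⁻¹ := by group
        _ = a * u * (b * a⁻¹) * u⁻¹ * b⁻¹ := by rw [d.comm a⁻¹ (inv_mem ha) b hb]
        _ = _ := by group
  obtain ⟨x, hx⟩ := hle (center_mem_derived hperf T hzT hz)
  exact ⟨x, x.2, hx⟩

theorem Idx.center_sq {A : Subgroup G} {u : G} (d : Idx T A u) {z : G}
    (hzT : z ∈ (T : Subgroup G)) (hz : z ∈ Subgroup.center G) : z * z = 1 := by
  obtain ⟨x, -, hx'⟩ := d.center_phi hs hp hperf hna hzT hz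
  have h2 := Idx.inverted (T := T) (A := A) (x := x) (d.sq_center hs hp hna)
  rw [hx', Subgroup.mem_center_iff.1 hz u, mul_inv_cancel_right] at h2
  nth_rewrite 2 [h2]
  exact mul_inv_cancel z

theorem Idx.toData {A : Subgroup G} {u : G} (d : Idx T A u) : Data T A u := by
  haveI : Fact (Nat.Prime 2) := ⟨Nat.prime_two⟩
  have huZ := d.sq_center hs hp hna
  have hunZ : u ∉ Subgroup.center G := fun h => d.unot (d.center_le hs hp hna d.uT h)
  obtain ⟨g, hg⟩ := fused hperf d.le d.uT d.unot d.split d.sq_mem huZ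
  -- the centraliser of `u` in `T`
  set R := (T : Subgroup G) ⊓ Subgroup.centralizer ({u} : Set G) with hR
  have hRcases : ∀ r ∈ R, r ∈ Subgroup.center G ∨ r * u⁻¹ ∈ Subgroup.center G := by
    rintro r ⟨hrT, hru⟩
    rcases d.split r hrT with h | h
    · exact Or.inl (d.fixed_center hs hp hna h (mem_C.1 hru))
    · refine Or.inr (d.fixed_center hs hp hna h ?_)
      rw [inv_mul_cancel_right, ← mul_assoc, ← mem_C.1 hru, mul_inv_cancel_right]
  have huR : u ∈ R := ⟨d.uT, mem_C.2 rfl⟩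
  have hRcomm : ∀ r ∈ R, ∀ r' ∈ R, r * r' = r' * r := fun r hr r' hr' =>
    two_comm hs hp d.uT hr.1 hr'.1 hunZ (mem_C.1 hr.2) (mem_C.1 hr'.2)
  -- a Sylow subgroup of the centraliser of `u`
  obtain ⟨Q0, hQ0⟩ := (show IsPGroup 2 (R.subgroupOf (Subgroup.centralizer ({u} : Set G))) from
    (T.isPGroup'.to_le inf_le_left : IsPGroup 2 R).of_equiv
      (Subgroup.subgroupOfEquivOfLe inf_le_right).symm).exists_le_sylow
  set Q := (Q0 : Subgroup _).map (Subgroup.centralizer ({u} : Set G)).subtype with hQ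
  have hQu : Q ≤ Subgroup.centralizer ({u} : Set G) := Subgroup.map_subtype_le _
  have hRQ : R ≤ Q := fun r hr => ⟨⟨r, hr.2⟩, hQ0 hr, rfl⟩
  have hQ2 : IsPGroup 2 Q := Q0.isPGroup'.map _
  have hQmax : ∀ P : Subgroup G, IsPGroup 2 P → Q ≤ P →
      P ≤ Subgroup.centralizer ({u} : Set G) → P = Q := by
    intro P hP hQP hPu
    have := Q0.is_maximal' (show IsPGroup 2 (P.subgroupOf _) from
      hP.of_equiv (Subgroup.subgroupOfEquivOfLe hPu).symm)
      (fun x hx => hQP (Subgroup.mem_map_of_mem _ hx))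
    rw [hQ, ← this, Subgroup.map_subgroupOf_eq_of_le hPu]
  have hQcard : Nat.card A ≤ Nat.card Q := by
    set A' := A.map (MulAut.conj g⁻¹).toMonoidHom with hA'
    have hA'u : A' ≤ Subgroup.centralizer ({u} : Set G) := by
      rintro _ ⟨a, ha, rfl⟩
      have e := d.comm a ha _ hg
      apply mem_C.2
      show g⁻¹ * a * g⁻¹⁻¹ * u = u * (g⁻¹ * a * g⁻¹⁻¹)
      calc g⁻¹ * a * g⁻¹⁻¹ * u = g⁻¹ * (a * (g * u * g⁻¹)) * g := by group
        _ = g⁻¹ * (g * u * g⁻¹ * a) * g := by rw [e]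
        _ = _ := by group
    obtain ⟨Q1, hQ1⟩ := (show IsPGroup 2 (A'.subgroupOf (Subgroup.centralizer ({u} : Set G))) from
      ((T.isPGroup'.to_le d.le : IsPGroup 2 A).map _).of_equiv
        (Subgroup.subgroupOfEquivOfLe hA'u).symm).exists_le_sylow
    calc Nat.card A = Nat.card A' :=
          (Subgroup.card_map_of_injective (MulAut.conj g⁻¹).injective).symm
      _ = Nat.card (A'.subgroupOf (Subgroup.centralizer ({u} : Set G))) :=
          (Nat.card_congr (Subgroup.subgroupOfEquivOfLe hA'u).toEquiv).symm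
      _ ≤ Nat.card (Q1 : Subgroup _) := Subgroup.card_le_of_le hQ1
      _ = Nat.card (Q0 : Subgroup (Subgroup.centralizer ({u} : Set G))) :=
          Nat.card_congr (Q1.equiv Q0).toEquiv
      _ = Nat.card Q := by
          rw [hQ]
          exact (Subgroup.card_map_of_injective
            (Subgroup.subtype_injective (Subgroup.centralizer ({u} : Set G)))).symm
  have hQcomm : ∀ a ∈ Q, ∀ b ∈ Q, a * b = b * a := by
    obtain ⟨T₂, hT₂⟩ := hQ2.exists_le_sylow
    exact fun a ha b hb => two_comm (T := T₂) hs hp (hT₂ (hRQ huR)) (hT₂ ha) (hT₂ hb) hunZ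
      (mem_C.1 (hQu ha)) (mem_C.1 (hQu hb))
  -- the normaliser of `R`
  set H := Subgroup.normalizer (R : Set G) with hH
  have hRmove : ∀ h ∈ H, h * u * h⁻¹ * u⁻¹ ∈ Subgroup.center G := by
    intro h hh
    refine (hRcases _ ((Subgroup.mem_normalizer_iff.1 hh u).1 huR)).resolve_left fun hc => hunZ ?_
    have := Subgroup.mem_center_iff.1 hc h
    have e2 : h⁻¹ * (h * u * h⁻¹) * h = u := by group
    rw [← e2, Subgroup.mem_center_iff.1 hc h⁻¹, inv_mul_cancel_right]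
    exact hc
  have hHne : H ≠ ⊤ := fun e => hunZ (mem_center_of_perfect hperf fun x =>
    hRmove x (e ▸ Subgroup.mem_top x))
  have hRne : R ≠ (T : Subgroup G) := fun e => hna ⟨⟨fun s t => Subtype.ext
    (hRcomm s (by rw [e]; exact s.2) t (by rw [e]; exact t.2))⟩⟩
  obtain ⟨w, hwT, hwR, hwn, -⟩ := exists_step T.isPGroup' inf_le_left hRne
  have hRH : R ≤ H := Subgroup.le_normalizer
  have hQH : Q ≤ H := fun q hq => mem_normalizer_of_comm fun r hr => hQcomm q hq r (hRQ hr)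
  have hEnorm : ∀ e ∈ (T : Subgroup G), e * u * e⁻¹ * u⁻¹ ∈ Subgroup.center G →
      e ∈ Subgroup.normalizer (Q : Set G) := by
    intro e heT he
    set z := e * u * e⁻¹ * u⁻¹ with hz
    have hze := Subgroup.mem_center_iff.1 he
    have hconj : ∀ y, y * u = u * y → e * y * e⁻¹ * u = u * (e * y * e⁻¹) := by
      intro y hy
      have h0 : (e * y * e⁻¹) * (e * u * e⁻¹) = (e * u * e⁻¹) * (e * y * e⁻¹) := by
        calc (e * y * e⁻¹) * (e * u * e⁻¹) = e * (y * u) * e⁻¹ := by group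
          _ = e * (u * y) * e⁻¹ := by rw [hy]
          _ = _ := by group
      rw [show e * u * e⁻¹ = z * u by rw [hz]; group, ← mul_assoc, hze (e * y * e⁻¹), mul_assoc,
        mul_assoc z] at h0
      exact mul_left_cancel h0
    have heH : e ∈ H := Subgroup.mem_normalizer_fintype fun r hr =>
      (⟨(T : Subgroup G).mul_mem ((T : Subgroup G).mul_mem heT hr.1) ((T : Subgroup G).inv_mem heT), mem_C.2 (hconj r (mem_C.1 hr.2))⟩ :
        e * r * e⁻¹ ∈ R)
    set Q' := Q.map (MulAut.conj e).toMonoidHom with hQ'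
    have hQ'u : Q' ≤ Subgroup.centralizer ({u} : Set G) := by
      rintro _ ⟨q, hq, rfl⟩
      exact mem_C.2 (hconj q (mem_C.1 (hQu hq)))
    have hQ'H : Q' ≤ H := by
      rintro _ ⟨q, hq, rfl⟩
      exact mul_mem (mul_mem heH (hQH hq)) (inv_mem heH)
    have hn : Q' ≤ Subgroup.normalizer (Q : Set G) := fun q' hq' =>
      mem_normalizer_of_comm fun q hq => hp.comm hHne (hRH huR) (hQ'H hq') (hQH hq) hwn
        (fun e => hwR ⟨hwT, mem_C.2 e⟩) (mem_C.1 (hQ'u hq')) (mem_C.1 (hQu hq))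
    have hsup := hQmax _ (IsPGroup.to_sup_of_normal_left' hQ2 (hQ2.map _) hn) le_sup_left
      (sup_le hQu hQ'u)
    have hle : Q' ≤ Q := hsup ▸ le_sup_right
    exact Subgroup.mem_normalizer_fintype fun q hq => hle ⟨q, hq, rfl⟩
  refine { d with one := fun x hx y hy hx1 hx2 hy1 hy2 => ?_ }
  have hcen : ∀ x ∈ A, (x * u * x⁻¹ * u⁻¹) * (x * u * x⁻¹ * u⁻¹) = 1 →
      x * u * x⁻¹ * u⁻¹ ∈ Subgroup.center G := by
    intro x hx h2
    refine d.fixed_center hs hp hna (d.phi_mem hx) ?_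
    have h := Idx.inverted (T := T) (A := A) (x := x) huZ
    rw [inv_eq_of_mul_eq_one_right h2] at h
    exact (mul_inv_eq_iff_eq_mul.1 h).symm
  have hxc := hcen x hx hx2
  have hyc := hcen y hy hy2
  obtain ⟨T₃, hT₃⟩ := (IsPGroup.to_sup_of_normal_left' hQ2
    (T.isPGroup'.to_le (sup_le (Subgroup.zpowers_le.2 (d.le hx)) (Subgroup.zpowers_le.2 (d.le hy))) :
      IsPGroup 2 ↥(Subgroup.zpowers x ⊔ Subgroup.zpowers y))
    (sup_le (Subgroup.zpowers_le.2 (hEnorm x (d.le hx) hxc))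
      (Subgroup.zpowers_le.2 (hEnorm y (d.le hy) hyc)))).exists_le_sylow
  have hQT₃ : Q ≤ (T₃ : Subgroup G) := le_sup_left.trans hT₃
  have hxT₃ : x ∈ (T₃ : Subgroup G) :=
    hT₃ (Subgroup.mem_sup_right (Subgroup.mem_sup_left (Subgroup.mem_zpowers x)))
  have hyT₃ : y ∈ (T₃ : Subgroup G) :=
    hT₃ (Subgroup.mem_sup_right (Subgroup.mem_sup_right (Subgroup.mem_zpowers y)))
  have hphi : ∀ a : G, a ∈ Q → a * u * a⁻¹ * u⁻¹ = 1 := fun a ha => by
    rw [mem_C.1 (hQu ha), mul_inv_cancel_right, mul_inv_cancel]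
  have hidx : (Q.subgroupOf (T₃ : Subgroup G)).index = 2 := by
    have hAT : A.relIndex (T : Subgroup G) = 2 := by
      rw [Subgroup.relIndex, Subgroup.index_eq_two_iff]
      refine ⟨⟨u⁻¹, inv_mem d.uT⟩, fun b => ?_⟩
      simp only [Subgroup.mem_subgroupOf, Subgroup.coe_mul]
      rcases d.split b b.2 with h | h
      · refine Or.inr ⟨h, fun h' => d.unot ?_⟩
        have := mul_mem (inv_mem h) h'
        simpa using this
      · refine Or.inl ⟨h, fun h' => d.unot ?_⟩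
        have := mul_mem (inv_mem h') h
        simpa using this
    have e1 := PBasic.card_mul_relIndex d.le
    have e2 := PBasic.card_mul_relIndex hQT₃
    rw [hAT, Nat.card_congr (T.equiv T₃).toEquiv] at e1
    have h2 : Q.relIndex (T₃ : Subgroup G) ≤ 2 := by
      have := Nat.mul_le_mul_right (Q.relIndex (T₃ : Subgroup G)) hQcard
      rw [e2, ← e1] at this
      exact Nat.le_of_mul_le_mul_left this Nat.card_pos
    have h0 : Q.relIndex (T₃ : Subgroup G) ≠ 0 := Subgroup.index_ne_zero_of_finite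
    have h3 : Q.relIndex (T₃ : Subgroup G) ≠ 1 := fun e =>
      hx1 (hphi x (Subgroup.relIndex_eq_one.1 e hxT₃))
    have : Q.relIndex (T₃ : Subgroup G) = 2 := by omega
    exact this
  have hmem := Subgroup.mul_mem_iff_of_index_two hidx (a := (⟨x, hxT₃⟩ : (T₃ : Subgroup G))⁻¹)
    (b := ⟨y, hyT₃⟩)
  simp only [Subgroup.mem_subgroupOf, Subgroup.coe_mul, Subgroup.coe_inv, inv_mem_iff] at hmem
  have hxy : x⁻¹ * y ∈ Q :=
    hmem.2 (iff_of_false (fun h => hx1 (hphi x h)) (fun h => hy1 (hphi y h)))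
  have h3 := hphi _ hxy
  rw [d.phi_mul (inv_mem hx) hy] at h3
  have h4 := d.phi_mul (inv_mem hx) hx
  rw [inv_mul_cancel, one_mul, inv_one, mul_one, mul_inv_cancel] at h4
  exact mul_left_cancel (h4.symm.trans h3.symm)

end Cfsg.Agent.MinNonCA
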