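import Cfsg.Agent.Lib.MinNonCA.Core
import Cfsg.Agent.Lib.MinNonCA.IdxData

/-!
The covering property in the dihedral case and in the four-group case.
-/

set_option autoImplicit false

namespace Cfsg.Agent.MinNonCA

universe u

variable {G : Type u} [Group G] [Finite G]

theorem eq_top_of_perfect_quot {K : Type u} [Group K] (hperf : commutator K = ⊤) (M : Subgroup K)
    [M.Normal] (h : Group.IsSolvable (K ⧸ M)) : M = ⊤ := by
  obtain ⟨n, hn⟩ := (Group.isSolvable_def _).1 h
  rw [← map_derivedSeries_eq (QuotientGroup.mk'_surjective M), Subgroup.map_eq_bot_iff,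
    QuotientGroup.ker_mk'] at hn
  have htop : ∀ k, derivedSeries K k = ⊤ := fun k => by
    induction k with
    | zero => rfl
    | succ k ih => rw [derivedSeries_succ, ih, ← commutator_def, hperf]
  exact top_le_iff.1 (htop n ▸ hn)

/-- The residual lies in every normal subgroup containing a Sylow 2-subgroup of it. -/
theorem res_le_of_sylow {D : Subgroup G} (hD : IsRes D) (T : Sylow 2 G) (C : Subgroup G) [C.Normal]
    (h : (T : Subgroup G) ⊓ D ≤ C) : D ≤ C := by
  haveI : Fact (Nat.Prime 2) := ⟨Nat.prime_two⟩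
  haveI := hD.normal
  obtain ⟨S, hS⟩ := sylow_inf_normal T D
  have hle : (S : Subgroup D) ≤ C.subgroupOf D := fun x hx => h ⟨by rw [hS] at hx; exact hx, x.2⟩
  have ho : Odd (Nat.card (D ⧸ C.subgroupOf D)) := by
    rw [← Subgroup.index_eq_card, Nat.odd_iff, ← Nat.two_dvd_ne_zero]
    exact fun h2 => S.not_dvd_index (h2.trans (Subgroup.index_dvd_of_le hle))
  have htop := eq_top_of_perfect_quot hD.comm_top (C.subgroupOf D) (solvable_of_odd ho)
  exact Subgroup.subgroupOf_eq_top.1 htop

theorem res_le_of_cyclic {D : Subgroup G} (hD : IsRes D) (T : Sylow 2 G) (C : Subgroup G) [C.Normal]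
    (b : G) (h : ∀ t ∈ (T : Subgroup G), ∃ i : ℤ, (b ^ i)⁻¹ * t ∈ C) : D ≤ C := by
  haveI : Fact (Nat.Prime 2) := ⟨Nat.prime_two⟩
  refine hD.quot C (solvable_of_cyclic (T.mapSurjective (QuotientGroup.mk'_surjective C)) ?_)
  refine Subgroup.isCyclic_of_le (H' := Subgroup.zpowers (QuotientGroup.mk' C b)) ?_
  rintro _ ⟨t, ht, rfl⟩
  obtain ⟨i, hi⟩ := h t ht
  refine ⟨i, ?_⟩
  show QuotientGroup.mk' C b ^ i = _
  rw [← map_zpow, ← inv_mul_eq_one, ← map_inv, ← map_mul]
  exact (QuotientGroup.eq_one_iff _).2 hi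

variable (hs : ¬ Group.IsSolvable G) (hp : ProperCA G)

include hs hp

/-- The dihedral case. -/
theorem dih_oddCore {D : Subgroup G} (hD : IsRes D)
    (hCD : Subgroup.centralizer (D : Set G) ≤ Subgroup.center G) {T : Sylow 2 G} {A : Subgroup G}
    {u : G} (hna : ¬ IsMulCommutative (T : Subgroup G)) (d : Data T A u) (huD : u ∈ D) :
    Cfsg.oddCore (G ⧸ Subgroup.center G) = ⊥ := by
  haveI : Fact (Nat.Prime 2) := ⟨Nat.prime_two⟩
  haveI := hD.normal
  obtain ⟨a, haA, haZ, haa, hac⟩ := d.exists_central hs hp hna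
  have haT := d.le haA
  refine oddCore_quot hs hp hCD T (a := a) (B := {b | b ∈ (T : Subgroup G) ∧ b ∉ A}) haT haa
    (fun b hb => ⟨hb.1, d.sq_out hs hp hna hb.1 hb.2, ?_⟩) ?_
  · have := inv_mem (hac b hb.1)
    rwa [show (b * a * b⁻¹ * a⁻¹)⁻¹ = a * b * a⁻¹ * b⁻¹ by group] at this
  intro C _ hZC hC
  by_cases haC : a ∈ C
  · refine res_le_of_sylow hD T C ?_
    obtain ⟨S, hS⟩ := sylow_inf_normal T D
    have hout : ∀ b ∈ (T : Subgroup G), b ∈ D → b ∉ A → b ∈ C := by
      intro b hbT hbD hbA
      have hb2 := d.sq_out hs hp hna hbT hbA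
      have hbu := (d.split b hbT).resolve_left hbA
      obtain ⟨g, hg⟩ := fused hD.comm_top (T := S) (A := A.subgroupOf D) (u := (⟨b, hbD⟩ : D))
        (fun x hx => by rw [hS]; exact d.le hx)
        (by rw [hS]; exact hbT) hbA (fun t ht => by
          rw [hS] at ht
          rcases d.split t ht with h | h
          · exact Or.inl h
          · refine Or.inr ?_
            show (t : G) * b⁻¹ ∈ A
            have := A.mul_mem h (A.inv_mem hbu)
            rwa [show (t : G) * u⁻¹ * (b * u⁻¹)⁻¹ = t * b⁻¹ by group] at this)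
        (show b * b ∈ A from d.center_le hs hp hna (mul_mem hbT hbT) hb2)
        (Subgroup.mem_center_iff.2 fun y => Subtype.ext (Subgroup.mem_center_iff.1 hb2 y))
      have hgA : (g : G) * b * (g : G)⁻¹ ∈ A := hg
      have hgZ : (g : G) * b * (g : G)⁻¹ ∉ Subgroup.center G := fun h => hbA (d.center_le hs hp hna hbT (by
        have := (inferInstance : (Subgroup.center G).Normal).conj_mem _ h (g : G)⁻¹
        simpa [mul_assoc] using this))
      have h3 := hZC (d.congr_of_invol hs hp hna haA hgA haZ hgZ haa (by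
        rw [show (g : G) * b * (g : G)⁻¹ * (g * b * (g : G)⁻¹) = g * (b * b) * (g : G)⁻¹ by group,
          Subgroup.mem_center_iff.1 hb2 g, mul_inv_cancel_right]
        exact hb2))
      have h4 := C.mul_mem haC h3
      rw [mul_inv_cancel_left] at h4
      have := (inferInstance : C.Normal).conj_mem _ h4 (g : G)⁻¹
      simpa [mul_assoc] using this
    intro x hx
    by_cases hxA : x ∈ A
    · have h1 : x * u ∉ A := fun h => d.unot (by simpa using A.mul_mem (A.inv_mem hxA) h)
      have h2 := C.mul_mem (hout (x * u) (mul_mem hx.1 d.uT) (D.mul_mem hx.2 huD) h1)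
        (C.inv_mem (hout u d.uT huD d.unot))
      simpa using h2
    · exact hout x hx.1 hx.2 hxA
  · have hout : ∀ b ∈ (T : Subgroup G), b ∉ A → b ∈ C ∨ a * b ∈ C := fun b hb hbA =>
      (hC b ⟨hb, hbA⟩).resolve_left haC
    refine res_le_of_cyclic hD T C a fun t ht => ?_
    let π : G →* G ⧸ C := QuotientGroup.mk' C
    have hπ : ∀ b ∈ (T : Subgroup G), b ∉ A → π b ∈ Subgroup.zpowers (π a) := by
      intro b hb hbA
      rcases hout b hb hbA with h | h
      · rw [show π b = 1 from (QuotientGroup.eq_one_iff b).2 h]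
        exact one_mem _
      · have : π a * π b = 1 := by rw [← map_mul]; exact (QuotientGroup.eq_one_iff _).2 h
        rw [eq_inv_of_mul_eq_one_right this]
        exact inv_mem (Subgroup.mem_zpowers _)
    have hall : π t ∈ Subgroup.zpowers (π a) := by
      by_cases htA : t ∈ A
      · have h1 : t * u ∉ A := fun h => d.unot (by simpa using A.mul_mem (A.inv_mem htA) h)
        have := mul_mem (hπ _ (mul_mem ht d.uT) h1) (inv_mem (hπ u d.uT d.unot))
        rwa [← map_inv, ← map_mul, mul_inv_cancel_right] at this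
      · exact hπ t ht htA
    obtain ⟨i, hi⟩ := hall
    refine ⟨i, (QuotientGroup.eq_one_iff _).1 ?_⟩
    show π ((a ^ i)⁻¹ * t) = 1
    rw [map_mul, map_inv, map_zpow]
    exact inv_mul_eq_one.2 hi

/-- The four-group case. -/
theorem four_oddCore (hperf : commutator G = ⊤) (T : Sylow 2 G)
    (hK : IsKleinFour (T : Subgroup G)) :
    Cfsg.oddCore (G ⧸ Subgroup.center G) = ⊥ ∧ GW.DihSylow (G ⧸ Subgroup.center G) ∧
      Odd (Nat.card (Subgroup.center G)) ∧ ¬ 8 ∣ Nat.card (G ⧸ Subgroup.center G) := by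
  haveI : Fact (Nat.Prime 2) := ⟨Nat.prime_two⟩
  haveI := hK
  haveI := IsKleinFour.isMulCommutative (G := (T : Subgroup G))
  have hdisj : ∀ z ∈ (T : Subgroup G), z ∈ Subgroup.center G → z = 1 := by
    intro z hzT hzc
    have h := center_mem_derived hperf T hzT hzc
    rwa [Subgroup.commutator_eq_bot_iff_le_centralizer.2
      (Subgroup.le_centralizer_iff_isMulCommutative.2 inferInstance), Subgroup.mem_bot] at h
  have hco : Odd (Nat.card (Subgroup.center G)) := by
    rw [Nat.odd_iff, ← Nat.two_dvd_ne_zero]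
    intro h2
    obtain ⟨z, hz⟩ := exists_prime_orderOf_dvd_card' 2 h2
    rw [← Subgroup.orderOf_coe] at hz
    have hzT : (z : G) ∈ (T : Subgroup G) := mem_sylow_of_comm T (k := 1)
      (by rw [pow_one, ← hz, pow_orderOf_eq_one]) fun s _ => (Subgroup.mem_center_iff.1 z.2 s).symm
    rw [hdisj _ hzT z.2, orderOf_one] at hz
    omega
  obtain ⟨D, hD⟩ := exists_res hs
  have hDtop : D = ⊤ := by
    haveI := hD.normal
    exact eq_top_of_perfect_quot hperf D (hD.solv D le_rfl)
  obtain ⟨a, ha⟩ : ∃ a : (T : Subgroup G), a ≠ 1 := by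
    by_contra h
    push Not at h
    haveI : Subsingleton (T : Subgroup G) := ⟨fun x y => (h x).trans (h y).symm⟩
    have := hK.card_four
    rw [Nat.card_unique] at this
    omega
  obtain ⟨b, hb, hba⟩ : ∃ b : (T : Subgroup G), b ≠ 1 ∧ b ≠ a := by
    by_contra h
    push Not at h
    classical
    haveI := Fintype.ofFinite (T : Subgroup G)
    have hle : (Finset.univ : Finset (T : Subgroup G)) ⊆ {1, a} := fun x _ => by
      by_cases hx : x = 1
      · simp [hx]
      · simp [h x hx]
    have h2 := Finset.card_le_card hle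
    rw [Finset.card_univ, IsKleinFour.card_four'] at h2
    exact absurd (h2.trans Finset.card_le_two) (by norm_num)
  have hsq : ∀ x ∈ (T : Subgroup G), x * x ∈ Subgroup.center G := fun x hx => by
    rw [show x * x = 1 from congrArg Subtype.val (IsKleinFour.mul_self (⟨x, hx⟩ : (T : Subgroup G)))]
    exact one_mem _
  refine ⟨oddCore_quot hs hp (D := D) ?_ T (a := (a : G)) (B := {(b : G)}) a.2 (hsq _ a.2) ?_ ?_,
    ?_, hco, ?_⟩
  · intro g hg
    exact Subgroup.mem_center_iff.2 fun y => Subgroup.mem_centralizer_iff.1 hg y (hDtop ▸ trivial)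
  · rintro x rfl
    refine ⟨b.2, hsq _ b.2, ?_⟩
    have h : a * b = b * a := mul_comm' a b
    rw [show (a : G) * b = b * a from congrArg Subtype.val h, mul_inv_cancel_right, mul_inv_cancel]
    exact one_mem _
  · intro C _ _ hC
    classical
    haveI := Fintype.ofFinite (T : Subgroup G)
    have key : ∀ c y : (T : Subgroup G), c ≠ 1 → y ≠ 1 → c ≠ y → (c : G) ∈ C → D ≤ C := by
      intro c y hc hy hcy hcC
      refine res_le_of_cyclic hD T C (y : G) fun t ht => ?_
      have hm : (⟨t, ht⟩ : (T : Subgroup G)) ∈ ({c * y, c, y, 1} : Finset _) :=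
        (IsKleinFour.eq_finset_univ hc hy hcy).symm ▸ Finset.mem_univ _
      simp only [Finset.mem_insert, Finset.mem_singleton] at hm
      rcases hm with e | e | e | e
      · refine ⟨1, ?_⟩
        rw [show t = (c : G) * y from congrArg Subtype.val e, zpow_one,
          ← show (y : G)⁻¹ * c * (y : G)⁻¹⁻¹ = (y : G)⁻¹ * (c * y) by group]
        exact (inferInstance : C.Normal).conj_mem _ hcC _
      · refine ⟨0, ?_⟩
        rw [show t = (c : G) from congrArg Subtype.val e, zpow_zero, inv_one, one_mul]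
        exact hcC
      · exact ⟨1, by rw [show t = (y : G) from congrArg Subtype.val e, zpow_one, inv_mul_cancel]; exact one_mem _⟩
      · exact ⟨0, by rw [show t = 1 from congrArg Subtype.val e, zpow_zero, inv_one, one_mul]; exact one_mem _⟩
    have hab : a * b ≠ 1 := fun e => hba (by
      rw [← inv_eq_of_mul_eq_one_right e, IsKleinFour.inv_eq_self])
    rcases hC b rfl with h | h | h
    · exact key a b ha hb (Ne.symm hba) h
    · exact key b a hb ha hba h
    · exact key (a * b) b hab hb (fun e => ha (mul_eq_right.1 e)) h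
  · obtain ⟨e⟩ : Nonempty ((T : Subgroup G) ≃* DihedralGroup 2) := IsKleinFour.nonempty_mulEquiv
    let π : G →* G ⧸ Subgroup.center G := QuotientGroup.mk' _
    let f : (T : Subgroup G) →* (T : Subgroup G).map π := π.subgroupMap _
    have hf : Function.Bijective f := ⟨(injective_iff_map_eq_one f).2 fun x hx => Subtype.ext
      (hdisj _ x.2 ((QuotientGroup.eq_one_iff _).1 (congrArg Subtype.val hx))),
      π.subgroupMap_surjective _⟩
    exact ⟨T.mapSurjective (QuotientGroup.mk'_surjective _), 2, le_rfl,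
      ⟨(MulEquiv.ofBijective f hf).symm.trans e⟩⟩
  · intro h8
    have h8G : 8 ∣ Nat.card G := h8.trans (Subgroup.card_quotient_dvd_card _)
    rw [← Subgroup.card_mul_index (T : Subgroup G), hK.card_four] at h8G
    exact T.not_dvd_index ((Nat.mul_dvd_mul_iff_left (by norm_num : (0 : ℕ) < 4)).1 h8G)

end Cfsg.Agent.MinNonCA
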