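import Mathlib.GroupTheory.Subgroup.Centralizer
import Mathlib.Data.Nat.Prime.Defs
import Mathlib.FieldTheory.Finite.Basic

/-!
Groups with abelian centralisers of non-central elements, and the conditions on `q` for the minimal
groups without this property.
-/

set_option autoImplicit false

namespace Cfsg.Agent.MinNonCA

/-- The centraliser of every non-central element is abelian. -/
def CA (G : Type*) [Group G] : Prop :=
  ∀ x : G, x ∉ Subgroup.center G → IsMulCommutative (Subgroup.centralizer ({x} : Set G))

/-- All proper subgroups have abelian centralisers of non-central elements. -/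
def ProperCA (G : Type*) [Group G] : Prop :=
  ∀ H : Subgroup G, H ≠ ⊤ → CA H

/-- The fields occurring. -/
def Cond (F : Type) [Fintype F] : Prop :=
  ((Fintype.card F).Prime ∧ 5 < Fintype.card F ∧ ¬ 16 ∣ Fintype.card F ^ 2 - 1) ∨
    ∃ p : ℕ, p.Prime ∧ p ≠ 2 ∧ (Fintype.card F = 3 ^ p ∨ Fintype.card F = 5 ^ p)

end Cfsg.Agent.MinNonCA
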