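import Cfsg.Agent.Lib.MinNonCA.Tools
import Cfsg.Agent.Lib.GW.DihBasic
import Cfsg.Agent.Lib.BGroup.Cyclic
import Cfsg.Agent.Lib.TwoGroups.Lifts

/-!
Sylow 2-subgroups which are dihedral modulo the centre.
-/

set_option autoImplicit false

namespace Cfsg.Agent.MinNonCA

universe u

variable {G : Type u} [Group G] [Finite G]

/-- An abelian subgroup of index two of a Sylow 2-subgroup. -/
structure Idx (T : Sylow 2 G) (A : Subgroup G) (u : G) : Prop where
  le : A ≤ (T : Subgroup G)
  comm : ∀ a ∈ A, ∀ b ∈ A, a * b = b * a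
  uT : u ∈ (T : Subgroup G)
  unot : u ∉ A
  split : ∀ t ∈ (T : Subgroup G), t ∈ A ∨ t * u⁻¹ ∈ A

/-- An abelian subgroup of index two with one involution among its commutators with `u`. -/
structure Data (T : Sylow 2 G) (A : Subgroup G) (u : G) : Prop extends Idx T A u where
  one : ∀ x ∈ A, ∀ y ∈ A, x * u * x⁻¹ * u⁻¹ ≠ 1 → (x * u * x⁻¹ * u⁻¹) * (x * u * x⁻¹ * u⁻¹) = 1 →
    y * u * y⁻¹ * u⁻¹ ≠ 1 → (y * u * y⁻¹ * u⁻¹) * (y * u * y⁻¹ * u⁻¹) = 1 →
      x * u * x⁻¹ * u⁻¹ = y * u * y⁻¹ * u⁻¹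

variable (hs : ¬ Group.IsSolvable G) (hp : ProperCA G) {T : Sylow 2 G}
  (hna : ¬ IsMulCommutative (T : Subgroup G))

include hs hp in
/-- Elements of a Sylow 2-subgroup commuting with a non-central element of it commute. -/
theorem two_comm {a b c : G} (ha : a ∈ (T : Subgroup G)) (hb : b ∈ (T : Subgroup G))
    (hc : c ∈ (T : Subgroup G)) (haZ : a ∉ Subgroup.center G) (hba : b * a = a * b)
    (hca : c * a = a * c) : b * c = c * b := by
  by_cases hna : IsMulCommutative (T : Subgroup G)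
  · exact congrArg Subtype.val (hna.is_comm.comm (⟨b, hb⟩ : (T : Subgroup G)) ⟨c, hc⟩)
  by_contra hne
  exact haZ (sylow_center hs hp T hna ha
    (hp.central (sylow_ne_top hs T) ha hb hc hba hca hne))

/-- Index two subgroups are normal. -/
theorem conj_mem_of_split {A : Subgroup G} {u : G} (hle : A ≤ (T : Subgroup G))
    (huT : u ∈ (T : Subgroup G)) (hun : u ∉ A)
    (hsplit : ∀ t ∈ (T : Subgroup G), t ∈ A ∨ t * u⁻¹ ∈ A) :
    u * u ∈ A ∧ ∀ t ∈ (T : Subgroup G), ∀ x ∈ A, t * x * t⁻¹ ∈ A := by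
  have huu : u * u ∈ A := (hsplit _ (mul_mem huT huT)).resolve_right fun h => hun (by simpa using h)
  refine ⟨huu, ?_⟩
  have hux : ∀ x ∈ A, u * x * u⁻¹ ∈ A := by
    intro x hx
    rcases hsplit _ (mul_mem (mul_mem huT (hle hx)) (inv_mem huT)) with h | h
    · exact h
    · refine absurd ?_ hun
      have h2 := mul_mem (mul_mem h huu) (inv_mem hx)
      rwa [show u * x * u⁻¹ * u⁻¹ * (u * u) * x⁻¹ = u by group] at h2
  intro t ht x hx
  rcases hsplit t ht with h | h
  · exact mul_mem (mul_mem h hx) (inv_mem h)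
  · have h2 := mul_mem (mul_mem h (hux x hx)) (inv_mem h)
    rwa [show t * u⁻¹ * (u * x * u⁻¹) * (t * u⁻¹)⁻¹ = t * x * t⁻¹ by group] at h2

variable {A : Subgroup G} {u : G}

section

variable (d : Idx T A u)

include d

theorem Idx.sq_mem : u * u ∈ A := (conj_mem_of_split d.le d.uT d.unot d.split).1

theorem Idx.conj_mem {t x : G} (ht : t ∈ (T : Subgroup G)) (hx : x ∈ A) : t * x * t⁻¹ ∈ A :=
  (conj_mem_of_split d.le d.uT d.unot d.split).2 t ht x hx

include hs hp hna

theorem Idx.fixed_center {x : G} (hx : x ∈ A) (h : x * u = u * x) : x ∈ Subgroup.center G := by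
  refine sylow_center hs hp T hna (d.le hx) fun t ht => ?_
  rcases d.split t ht with h1 | h1
  · exact d.comm t h1 x hx
  · calc t * x = t * u⁻¹ * (u * x) := by group
      _ = t * u⁻¹ * x * u := by rw [← h]; group
      _ = x * (t * u⁻¹) * u := by rw [d.comm _ h1 x hx]
      _ = x * t := by group

theorem Idx.sq_center : u * u ∈ Subgroup.center G :=
  d.fixed_center hs hp hna d.sq_mem (mul_assoc u u u)

omit hna in
theorem Idx.center_le (hna : ¬ IsMulCommutative (T : Subgroup G)) {z : G}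
    (hzT : z ∈ (T : Subgroup G)) (hz : z ∈ Subgroup.center G) : z ∈ A := by
  rcases d.split z hzT with h | h
  · exact h
  exfalso
  have hu : ∀ a ∈ A, a * u = u * a := fun a ha => by
    have h1 := d.comm a ha _ h
    rw [← mul_assoc, Subgroup.mem_center_iff.1 hz a, mul_assoc, mul_assoc, mul_right_inj] at h1
    exact Commute.inv_right_iff.1 (show Commute a u⁻¹ from h1)
  refine hna ⟨⟨fun s t => Subtype.ext ?_⟩⟩
  show Commute (s : G) (t : G)
  have key : ∀ t' ∈ (T : Subgroup G), ∀ a ∈ A, Commute t' a := fun t' ht' a ha => by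
    rcases d.split t' ht' with h' | h'
    · exact d.comm t' h' a ha
    · have h2 : Commute (t' * u⁻¹ * u) a :=
        (show Commute (t' * u⁻¹) a from d.comm _ h' a ha).mul_left (hu a ha).symm
      rwa [inv_mul_cancel_right] at h2
  rcases d.split s s.2 with h' | h'
  · exact (key t t.2 s h').symm
  · have h2 : Commute (s * u⁻¹ * u) (t : G) := by
      refine (key t t.2 _ h').symm.mul_left ?_
      rcases d.split t t.2 with h'' | h''
      · exact (hu t h'').symm
      · have h3 : Commute u ((t : G) * u⁻¹ * u) :=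
          (show Commute u ((t : G) * u⁻¹) from (hu _ h'').symm).mul_right (Commute.refl u)
        rwa [inv_mul_cancel_right] at h3
    rwa [inv_mul_cancel_right] at h2

omit hs hp hna in
theorem Idx.phi_mem {x : G} (hx : x ∈ A) : x * u * x⁻¹ * u⁻¹ ∈ A := by
  have := mul_mem hx (d.conj_mem d.uT (inv_mem hx))
  rwa [show x * (u * x⁻¹ * u⁻¹) = x * u * x⁻¹ * u⁻¹ by group] at this

omit hs hp hna in
theorem Idx.phi_mul {x y : G} (hx : x ∈ A) (hy : y ∈ A) :
    x * y * u * (x * y)⁻¹ * u⁻¹ = (x * u * x⁻¹ * u⁻¹) * (y * u * y⁻¹ * u⁻¹) := by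
  calc x * y * u * (x * y)⁻¹ * u⁻¹ = x * (y * u * y⁻¹ * u⁻¹) * (u * x⁻¹ * u⁻¹) := by group
    _ = (y * u * y⁻¹ * u⁻¹) * x * (u * x⁻¹ * u⁻¹) := by rw [d.comm x hx _ (d.phi_mem hy)]
    _ = (y * u * y⁻¹ * u⁻¹) * (x * u * x⁻¹ * u⁻¹) := by group
    _ = _ := d.comm _ (d.phi_mem hy) _ (d.phi_mem hx)

theorem Idx.phi_one {x : G} (hx : x ∈ A) :
    x * u * x⁻¹ * u⁻¹ = 1 ↔ x ∈ Subgroup.center G := by
  constructor
  · intro h
    refine d.fixed_center hs hp hna hx ?_
    rw [mul_inv_eq_one] at h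
    exact mul_inv_eq_iff_eq_mul.1 h
  · intro h
    rw [← Subgroup.mem_center_iff.1 h u, mul_inv_cancel_right, mul_inv_cancel]

/-- Elements outside `A` have square in the centre. -/
theorem Idx.sq_out {t : G} (ht : t ∈ (T : Subgroup G)) (htA : t ∉ A) :
    t * t ∈ Subgroup.center G := by
  have h := (d.split t ht).resolve_left htA
  have htt : t * t ∈ A := by
    have h2 := mul_mem (mul_mem h (d.conj_mem d.uT h)) d.sq_mem
    rwa [show t * u⁻¹ * (u * (t * u⁻¹) * u⁻¹) * (u * u) = t * t by group] at h2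
  refine d.fixed_center hs hp hna htt ?_
  set a := t * u⁻¹ with ha
  have h1 : Commute (t * t) a := d.comm _ htt _ h
  have h2 : Commute (t * t) (a⁻¹ * t) := h1.inv_right.mul_right ((Commute.refl t).mul_left (Commute.refl t))
  rwa [ha, mul_inv_rev, inv_inv, mul_assoc, inv_mul_cancel, mul_one] at h2

/-- The centraliser in `T` of an element of `A` outside the centre is `A`. -/
theorem Idx.cent_mem {a t : G} (ha : a ∈ A) (haZ : a ∉ Subgroup.center G)
    (ht : t ∈ (T : Subgroup G)) (h : t * a = a * t) : t ∈ A := by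
  refine (d.split t ht).resolve_right fun h1 => haZ (d.fixed_center hs hp hna ha ?_)
  have h2 : Commute a ((t * u⁻¹)⁻¹ * t) :=
    (show Commute a (t * u⁻¹) from d.comm a ha _ h1).inv_right.mul_right h.symm
  rwa [mul_inv_rev, inv_inv, mul_assoc, inv_mul_cancel, mul_one] at h2

end

variable (d : Data T A u)

include hs hp hna d

/-- Elements of `A` which are involutions modulo the centre are congruent. -/
theorem Data.congr_of_invol {x y : G} (hx : x ∈ A) (hy : y ∈ A) (hxZ : x ∉ Subgroup.center G)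
    (hyZ : y ∉ Subgroup.center G) (hx2 : x * x ∈ Subgroup.center G)
    (hy2 : y * y ∈ Subgroup.center G) : x⁻¹ * y ∈ Subgroup.center G := by
  have h2 : ∀ z ∈ A, z * z ∈ Subgroup.center G →
      (z * u * z⁻¹ * u⁻¹) * (z * u * z⁻¹ * u⁻¹) = 1 := fun z hz hzz => by
    rw [← d.phi_mul hz hz]
    exact (d.phi_one hs hp hna (mul_mem hz hz)).2 hzz
  have he := d.one x hx y hy (fun e => hxZ ((d.phi_one hs hp hna hx).1 e)) (h2 x hx hx2)
    (fun e => hyZ ((d.phi_one hs hp hna hy).1 e)) (h2 y hy hy2)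
  rw [← d.phi_one hs hp hna (mul_mem (inv_mem hx) hy), d.phi_mul (inv_mem hx) hy, ← he,
    ← d.phi_mul (inv_mem hx) hx, inv_mul_cancel]
  group

/-- The central involution modulo the centre. -/
theorem Data.exists_central : ∃ a ∈ A, a ∉ Subgroup.center G ∧ a * a ∈ Subgroup.center G ∧
    ∀ t ∈ (T : Subgroup G), t * a * t⁻¹ * a⁻¹ ∈ Subgroup.center G := by
  obtain ⟨x, hx, hxZ⟩ : ∃ x ∈ A, x ∉ Subgroup.center G := by
    by_contra hno
    push Not at hno
    refine hna ⟨⟨fun s t => Subtype.ext ?_⟩⟩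
    show (s : G) * t = t * s
    have key : ∀ r ∈ (T : Subgroup G), ∃ c ∈ Subgroup.center G, r = c ∨ r = c * u := by
      intro r hr
      rcases d.split r hr with h | h
      · exact ⟨r, hno r h, Or.inl rfl⟩
      · exact ⟨r * u⁻¹, hno _ h, Or.inr (inv_mul_cancel_right r u).symm⟩
    obtain ⟨c, hc, h1⟩ := key s s.2
    obtain ⟨e, he, h2⟩ := key t t.2
    have hcc := fun g => (Subgroup.mem_center_iff.1 hc g)
    have hee := fun g => (Subgroup.mem_center_iff.1 he g)
    rcases h1 with h1 | h1 <;> rcases h2 with h2 | h2 <;> rw [h1, h2]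
    · exact hee c
    · exact (hcc _).symm
    · exact hee _
    · have : Commute (c * u) (e * u) :=
        ((show Commute c (e * u) from (hcc _).symm)).mul_left
          ((show Commute u e from hee u).mul_right (Commute.refl u))
      exact this
  obtain ⟨j, hj, hj2⟩ := last_out (exists_two_pow T (d.le hx)) hxZ
  refine ⟨_, pow_mem hx _, hj, hj2, fun t ht => ?_⟩
  set a := x ^ 2 ^ j
  have haA : a ∈ A := pow_mem hx _
  have h1 : t * a * t⁻¹ * (t * a * t⁻¹) ∈ Subgroup.center G := by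
    rw [show t * a * t⁻¹ * (t * a * t⁻¹) = t * (a * a) * t⁻¹ by group,
      Subgroup.mem_center_iff.1 hj2 t, mul_inv_cancel_right]
    exact hj2
  have h2 : t * a * t⁻¹ ∉ Subgroup.center G := fun h => hj (by
    have := Subgroup.mem_center_iff.1 h t⁻¹
    simpa [mul_assoc] using (show t⁻¹ * (t * a * t⁻¹) * t ∈ Subgroup.center G by
      rw [this, inv_mul_cancel_right]; exact h))
  have h3 := d.congr_of_invol hs hp hna haA (d.conj_mem ht haA) hj h2 hj2 h1
  have h4 := Subgroup.mem_center_iff.1 h3 a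
  rw [mul_inv_cancel_left] at h4
  rw [h4, mul_inv_cancel_right]
  exact h3

/-- The quotient by the centre has dihedral Sylow 2-subgroups. -/
theorem Data.dihSylow : GW.DihSylow (G ⧸ Subgroup.center G) := by
  haveI : Fact (Nat.Prime 2) := ⟨Nat.prime_two⟩
  let π : G →* G ⧸ Subgroup.center G := QuotientGroup.mk' _
  have hπ : Function.Surjective π := QuotientGroup.mk'_surjective _
  have h1 : ∀ g, π g = 1 ↔ g ∈ Subgroup.center G := fun g => QuotientGroup.eq_one_iff g
  let φ : A →* G := MonoidHom.mk' (fun x => (x : G) * u * (x : G)⁻¹ * u⁻¹)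
    fun x y => d.phi_mul x.2 y.2
  letI : CommGroup φ.range :=
    { (inferInstance : Group φ.range) with
      mul_comm := by
        rintro ⟨_, x, rfl⟩ ⟨_, y, rfl⟩
        exact Subtype.ext (by
          show φ x * φ y = φ y * φ x
          rw [← map_mul, ← map_mul, show x * y = y * x from Subtype.ext (d.comm x x.2 y y.2)]) }
  haveI : IsCyclic φ.range := by
    refine BGroup.isCyclic_of_unique_prime fun r hr a b ha hb => ?_
    obtain ⟨_, x, rfl⟩ := a
    obtain ⟨_, y, rfl⟩ := b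
    obtain ⟨k, hk⟩ := exists_two_pow T (d.le (d.phi_mem x.2))
    have hr2 : r ∣ 2 ^ k := ha ▸ orderOf_dvd_of_pow_eq_one (Subtype.ext hk)
    have : r = 2 := (Nat.prime_dvd_prime_iff_eq hr Nat.prime_two).1 (hr.dvd_of_dvd_pow hr2)
    subst this
    have key : ∀ z : A, orderOf (⟨φ z, z, rfl⟩ : φ.range) = 2 →
        φ z ≠ 1 ∧ φ z * φ z = 1 := fun z hz => by
      rw [← Subgroup.orderOf_coe, orderOf_eq_prime_iff] at hz
      exact ⟨hz.2, by rw [← pow_two]; exact hz.1⟩
    have he := d.one x x.2 y y.2 (key x ha).1 (key x ha).2 (key y hb).1 (key y hb).2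
    refine Subgroup.mem_zpowers_iff.2 ⟨1, ?_⟩
    rw [zpow_one]
    exact Subtype.ext he
  obtain ⟨⟨_, c, rfl⟩, hgen⟩ := IsCyclic.exists_generator (α := φ.range)
  have hAc : ∀ x ∈ A, π x ∈ Subgroup.zpowers (π c) := by
    intro x hx
    obtain ⟨i, hi⟩ := hgen ⟨_, ⟨x, hx⟩, rfl⟩
    have hi' : φ (c ^ i) = φ ⟨x, hx⟩ := by
      rw [map_zpow]; exact congrArg Subtype.val hi
    have : φ ((c ^ i)⁻¹ * ⟨x, hx⟩) = 1 := by rw [map_mul, map_inv, hi', inv_mul_cancel]
    set y : A := (c ^ i)⁻¹ * ⟨x, hx⟩ with hy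
    have h2 : (y : G) ∈ Subgroup.center G := (d.phi_one hs hp hna y.2).1 this
    rw [hy] at h2
    refine ⟨i, ?_⟩
    show π c ^ i = π x
    rw [← map_zpow, ← inv_mul_eq_one, ← map_inv, ← map_mul, h1]
    simpa using h2
  set H := (T : Subgroup G).map π with hH
  have hclos : H = Subgroup.closure ({π (c : G), π u} : Set _) := by
    refine le_antisymm ?_ ((Subgroup.closure_le _).2 ?_)
    · rintro _ ⟨t, ht, rfl⟩
      have hc' : Subgroup.zpowers (π (c : G)) ≤ Subgroup.closure ({π (c : G), π u} : Set _) :=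
        Subgroup.zpowers_le.2 (Subgroup.subset_closure (by simp))
      rcases d.split t ht with h | h
      · exact hc' (hAc t h)
      · rw [show t = t * u⁻¹ * u by group, map_mul]
        exact mul_mem (hc' (hAc _ h)) (Subgroup.subset_closure (by simp))
    · rintro _ (rfl | rfl)
      · exact Subgroup.mem_map_of_mem π (d.le c.2)
      · exact Subgroup.mem_map_of_mem π d.uT
  have huu : π u * π u = 1 := by rw [← map_mul, h1]; exact d.sq_center hs hp hna
  have hw : u * (c : G) * u⁻¹ * c ∈ Subgroup.center G := by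
    have hcA := c.2
    refine d.fixed_center hs hp hna (mul_mem (d.conj_mem d.uT hcA) hcA) ?_
    have e2 : u * u * c * (u * u)⁻¹ = c := by
      rw [← Subgroup.mem_center_iff.1 (d.sq_center hs hp hna) (c : G), mul_inv_cancel_right]
    calc u * c * u⁻¹ * c * u = u * u * c * (u * u)⁻¹ * (u * c * u⁻¹) * u := by
          rw [e2, d.comm _ (d.conj_mem d.uT hcA) _ hcA]
      _ = u * (u * c * u⁻¹ * c) := by group
  have hinv : π u * π (c : G) * (π u)⁻¹ = (π (c : G))⁻¹ := by
    refine eq_inv_of_mul_eq_one_left ?_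
    rw [← map_inv, ← map_mul, ← map_mul, ← map_mul, h1]
    exact hw
  have hnot : π u ∉ Subgroup.zpowers (π (c : G)) := by
    rintro ⟨i, hi⟩
    have hi' : π ((c : G) ^ i) = π u := by rw [map_zpow]; exact hi
    have hz : ((c : G) ^ i)⁻¹ * u ∈ Subgroup.center G := by
      rw [← h1, map_mul, map_inv, hi', inv_mul_cancel]
    have := d.center_le hs hp hna (mul_mem (inv_mem (zpow_mem (d.le c.2) i)) d.uT) hz
    exact d.unot (by simpa using mul_mem (zpow_mem c.2 i) this)
  obtain ⟨e⟩ := TwoLift.dihedral_equiv (n := orderOf (π (c : G))) rfl huu hinv hnot hclos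
  refine ⟨T.mapSurjective hπ, orderOf (π (c : G)), ?_, ⟨e⟩⟩
  have hne : π (c : G) ≠ 1 := fun h0 => by
    obtain ⟨a, ha, haZ, -, -⟩ := d.exists_central hs hp hna
    exact haZ ((h1 a).1 (by simpa [h0] using hAc a ha))
  have := orderOf_pos (π (c : G))
  rcases Nat.lt_or_ge (orderOf (π (c : G))) 2 with h | h
  · exact absurd (orderOf_eq_one_iff.1 (by omega)) hne
  · exact h

end Cfsg.Agent.MinNonCA
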