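import Cfsg.Agent.Lib.MinNonCA.SL2Case
import Cfsg.Agent.Lib.AbelianSylowAut.Central
import Cfsg.Agent.Lib.ConjInvol.Main
import Cfsg.Agent.S0949
import Mathlib.GroupTheory.SpecificGroups.KleinFour

/-!
A perfect minimal group with abelian Sylow 2-subgroups has four-group Sylow 2-subgroups.
-/

set_option autoImplicit false
set_option linter.style.haveILetI false

namespace Cfsg.Agent.MinNonCA

open Matrix

universe u

theorem ca_sl2 {F : Type} [Field F] : CA (Matrix.SpecialLinearGroup (Fin 2) F) := by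
  intro x hx
  have hns : ¬ TwoByTwo.IsScalar x.1 := by
    intro h
    refine hx (Subgroup.mem_center_iff.2 fun g => Subtype.ext ?_)
    rw [Matrix.SpecialLinearGroup.coe_mul, Matrix.SpecialLinearGroup.coe_mul,
      TwoByTwo.isScalar_iff.1 h, smul_mul_assoc, mul_smul_comm, one_mul, mul_one]
  refine ⟨⟨fun a b => Subtype.ext (Subtype.ext ?_)⟩⟩
  have hc : ∀ c : Subgroup.centralizer ({x} : Set (Matrix.SpecialLinearGroup (Fin 2) F)),
      ∃ r s : F, (c : Matrix.SpecialLinearGroup (Fin 2) F).1 = r • 1 + s • x.1 := fun c =>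
    TwoByTwo.commute_eq hns
      (congrArg (fun g : Matrix.SpecialLinearGroup (Fin 2) F => g.1)
        (Subgroup.mem_centralizer_singleton_iff.1 c.2)).symm
  obtain ⟨r, s, ha⟩ := hc a
  obtain ⟨r', s', hb⟩ := hc b
  show (a : Matrix.SpecialLinearGroup (Fin 2) F).1 * (b : Matrix.SpecialLinearGroup (Fin 2) F).1 =
    (b : Matrix.SpecialLinearGroup (Fin 2) F).1 * (a : Matrix.SpecialLinearGroup (Fin 2) F).1
  rw [ha, hb]
  simp only [add_mul, mul_add, smul_mul_assoc, mul_smul_comm, one_mul, mul_one, smul_smul, smul_add]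
  module

/-- The two-fold product as a product. -/
def pairEquiv (A : Type*) [AddCommGroup A] :
    (Fin 2 → Multiplicative A) ≃* Multiplicative (A × A) where
  toFun x := Multiplicative.ofAdd ((x 0).toAdd, (x 1).toAdd)
  invFun y := ![Multiplicative.ofAdd y.toAdd.1, Multiplicative.ofAdd y.toAdd.2]
  left_inv x := by
    funext i
    fin_cases i <;> rfl
  right_inv y := rfl
  map_mul' x y := rfl

theorem klein_sq : ∀ y : Multiplicative (ZMod (2 ^ 1) × ZMod (2 ^ 1)), y ^ 2 = 1 := by decide

variable {G : Type u} [Group G] [Finite G]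

theorem abelian_case (hs : ¬ Group.IsSolvable G) (hp : ProperCA G) (hnc : ¬ CA G)
    (hperf : commutator G = ⊤) (T : Sylow 2 G) (hab : IsMulCommutative (T : Subgroup G)) :
    IsKleinFour (T : Subgroup G) := by
  classical
  haveI : Fact (Nat.Prime 2) := ⟨Nat.prime_two⟩
  haveI := hab
  have hTc : ∀ a ∈ (T : Subgroup G), ∀ b ∈ (T : Subgroup G), a * b = b * a := fun a ha b hb =>
    congrArg Subtype.val (mul_comm' (⟨a, ha⟩ : (T : Subgroup G)) ⟨b, hb⟩)
  have hcb : ⁅(T : Subgroup G), (T : Subgroup G)⁆ = ⊥ := by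
    rw [eq_bot_iff, Subgroup.commutator_le]
    intro a ha b hb
    rw [Subgroup.mem_bot, commutatorElement_eq_one_iff_mul_comm]
    exact hTc a ha b hb
  have hTZ : ∀ x ∈ (T : Subgroup G), x ∈ Subgroup.center G → x = 1 := fun x hx hxc =>
    Subgroup.mem_bot.1 (hcb ▸ center_mem_derived hperf T hx hxc)
  -- an involution of `T` with non-commutative centraliser
  obtain ⟨t, htT, ht, a₀, ha₀, b₀, hb₀, hab₀⟩ : ∃ t ∈ (T : Subgroup G), orderOf t = 2 ∧
      ∃ a, a * t = t * a ∧ ∃ b, b * t = t * b ∧ a * b ≠ b * a := by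
    by_contra hcon
    push Not at hcon
    apply hnc
    obtain ⟨F, _, _, -, -, ⟨e⟩⟩ := model_of_inv hs hperf fun u hu => by
      obtain ⟨R, hR⟩ := (two_group_zpowers (k := 1) (y := u)
        (by rw [pow_one, ← hu, pow_orderOf_eq_one])).exists_le_sylow
      obtain ⟨g, hg⟩ := MulAction.exists_smul_eq G R T
      have hmem : g * u * g⁻¹ ∈ (T : Subgroup G) := by
        rw [← hg, Sylow.coe_subgroup_smul]
        exact ⟨u, hR (Subgroup.mem_zpowers u), rfl⟩
      have ho : orderOf (g * u * g⁻¹) = 2 := by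
        rw [← MulAut.conj_apply, MulEquiv.orderOf_eq, hu]
      refine ⟨⟨fun a b => Subtype.ext ?_⟩⟩
      have tr : ∀ c : Subgroup.centralizer ({u} : Set G),
          g * c * g⁻¹ * (g * u * g⁻¹) = g * u * g⁻¹ * (g * c * g⁻¹) := fun c => by
        rw [show g * c * g⁻¹ * (g * u * g⁻¹) = g * ((c : G) * u) * g⁻¹ by group, mem_C.1 c.2]
        group
      have h1 := hcon _ hmem ho _ (tr a) _ (tr b)
      show (a : G) * b = b * a
      calc (a : G) * b = g⁻¹ * (g * a * g⁻¹ * (g * b * g⁻¹)) * g := by group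
        _ = g⁻¹ * (g * b * g⁻¹ * (g * a * g⁻¹)) * g := by rw [h1]
        _ = _ := by group
    intro x hx
    have hex : e x ∉ Subgroup.center _ := fun h => hx (Subgroup.mem_center_iff.2 fun y =>
      e.injective (by rw [map_mul, map_mul]; exact Subgroup.mem_center_iff.1 h (e y)))
    haveI := ca_sl2 (e x) hex
    have key : ∀ a : Subgroup.centralizer ({x} : Set G),
        e a ∈ Subgroup.centralizer ({e x} : Set (Matrix.SpecialLinearGroup (Fin 2) F)) := fun a =>
      mem_C.2 (by rw [← map_mul, ← map_mul, mem_C.1 a.2])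
    refine ⟨⟨fun a b => Subtype.ext (e.injective ?_)⟩⟩
    simpa using congrArg Subtype.val (mul_comm'
      (⟨e a, key a⟩ : Subgroup.centralizer ({e x} : Set (Matrix.SpecialLinearGroup (Fin 2) F)))
      ⟨e b, key b⟩)
  have ht1 : t ≠ 1 := fun e => by rw [e, orderOf_one] at ht; omega
  have ht2 : t * t = 1 := by rw [← pow_two, ← ht, pow_orderOf_eq_one]
  set W := Subgroup.centralizer ({t} : Set G) with hW
  have htc : t ∉ Subgroup.center G := fun h => ht1 (hTZ t htT h)
  have hWne : W ≠ ⊤ := C_ne_top htc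
  have htW : t ∈ W := mem_C.2 rfl
  have hTW : (T : Subgroup G) ≤ W := fun x hx => mem_C.2 (hTc x hx t htT)
  have hcentral : ∀ H : Subgroup G, H ≠ ⊤ → W ≤ H → H ≤ W := fun H hH hWH g hg =>
    mem_C.2 (hp.central hH (hWH htW) (hWH (mem_C.2 ha₀)) (hWH (mem_C.2 hb₀)) ha₀ hb₀ hab₀ g hg)
  -- `t` moves in the normaliser of `T`
  obtain ⟨n, hn, hnt⟩ : ∃ n ∈ Subgroup.normalizer ((T : Subgroup G) : Set G), n * t * n⁻¹ ≠ t := by
    by_contra hcon
    push Not at hcon
    have hz := BrauerSuzuki.zStar G t ht (AbelianSylowAut.isolated_of_fixed T ht htT hcon)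
    set O := Cfsg.pPrimeCore 2 G with hO
    haveI : O.Normal := FittingCores.pPrimeCore_normal 2
    let π : G →* G ⧸ O := QuotientGroup.mk' O
    have hπ : Function.Surjective π := QuotientGroup.mk'_surjective O
    have hperf' : commutator (G ⧸ O) = ⊤ := by
      rw [commutator_def, ← Subgroup.map_top_of_surjective π hπ, ← Subgroup.map_commutator,
        ← commutator_def, hperf, Subgroup.map_top_of_surjective π hπ]
    have hc : π t ∈ Subgroup.center (G ⧸ O) := Subgroup.mem_center_iff.2 fun q => by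
      obtain ⟨g, rfl⟩ := hπ q
      have h1 : π (g * t * g⁻¹ * t⁻¹) = 1 := (QuotientGroup.eq_one_iff _).2 (hz g)
      rw [map_mul, map_mul, map_mul, map_inv, map_inv, mul_inv_eq_one, mul_inv_eq_iff_eq_mul] at h1
      exact h1
    have h1 := center_mem_derived hperf' (T.mapSurjective hπ) (Subgroup.mem_map_of_mem π htT) hc
    have h2 : ⁅((T.mapSurjective hπ : Sylow 2 (G ⧸ O)) : Subgroup (G ⧸ O)),
        ((T.mapSurjective hπ : Sylow 2 (G ⧸ O)) : Subgroup (G ⧸ O))⁆ = ⊥ := by
      show ⁅(T : Subgroup G).map π, (T : Subgroup G).map π⁆ = ⊥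
      rw [← Subgroup.map_commutator, hcb, Subgroup.map_bot]
    rw [h2, Subgroup.mem_bot] at h1
    have h3 : t ∈ O := (QuotientGroup.eq_one_iff t).1 h1
    exact absurd (Nat.eq_one_of_dvd_coprimes (PBasic.pPrimeCore_coprime 2 G)
      ((dvd_of_eq ht.symm).trans (Subgroup.orderOf_dvd_natCard O h3)) dvd_rfl) (by omega)
  have hnT : ∀ x ∈ (T : Subgroup G), n * x * n⁻¹ ∈ (T : Subgroup G) := fun x hx =>
    (Subgroup.mem_normalizer_iff.1 hn x).1 hx
  have hNne := sylow_normalizer_ne_top hs T
  have hleN : (T : Subgroup G) ≤ Subgroup.normalizer ((T : Subgroup G) : Set G) :=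
    Subgroup.le_normalizer
  have hNW : ∀ x ∈ Subgroup.normalizer ((T : Subgroup G) : Set G), x * t = t * x →
      ∀ s ∈ (T : Subgroup G), x * s = s * x := fun x hx hxt s hs' =>
    hp.comm hNne (hleN htT) hx (hleN hs') hn
      (fun e => hnt (by rw [e, mul_inv_cancel_right])) hxt (hTc s hs' t htT)
  -- the odd complement of `T` in `W`
  let P₀ : Sylow 2 W := T.subtype hTW
  have hP₀ : ∀ x : W, x ∈ (P₀ : Subgroup W) ↔ (x : G) ∈ (T : Subgroup G) := fun x => Iff.rfl
  haveI : IsMulCommutative (P₀ : Subgroup W) := ⟨⟨fun a b => Subtype.ext (Subtype.ext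
    (hTc _ ((hP₀ _).1 a.2) _ ((hP₀ _).1 b.2)))⟩⟩
  have hPn : Subgroup.normalizer ((P₀ : Subgroup W) : Set W) ≤
      Subgroup.centralizer ((P₀ : Subgroup W) : Set W) := by
    intro x hx
    have hxN : (x : G) ∈ Subgroup.normalizer ((T : Subgroup G) : Set G) := by
      rw [Subgroup.mem_normalizer_iff]
      intro s
      constructor
      · intro hs'
        exact (hP₀ _).1 ((Subgroup.mem_normalizer_iff.1 hx ⟨s, hTW hs'⟩).1 hs')
      · intro hs'
        have hsW : s ∈ W := by
          have := mul_mem (mul_mem (inv_mem x.2) (hTW hs')) x.2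
          simpa [mul_assoc] using this
        exact (hP₀ _).1 ((Subgroup.mem_normalizer_iff.1 hx ⟨s, hsW⟩).2 hs')
    exact Subgroup.mem_centralizer_iff.2 fun s hs' => Subtype.ext
      (hNW x hxN (mem_C.1 x.2) s ((hP₀ s).1 hs')).symm
  set K₀ := (MonoidHom.transferSylow P₀ hPn).ker with hK₀
  have hKc := MonoidHom.ker_transferSylow_isComplement' P₀ hPn
  haveI hK₀n : K₀.Normal := MonoidHom.normal_ker _
  set K := K₀.map W.subtype with hK
  have hKo : Odd (Nat.card K) := by
    rw [hK, Subgroup.card_map_of_injective W.subtype_injective]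
    exact Nat.odd_iff.2 (Nat.two_dvd_ne_zero.1 (MonoidHom.not_dvd_card_ker_transferSylow P₀ hPn))
  have hKW : K ≤ W := Subgroup.map_subtype_le _
  have hKn : ∀ s ∈ W, ∀ y ∈ K, s * y * s⁻¹ ∈ K := by
    rintro s hs' _ ⟨y, hy, rfl⟩
    exact ⟨_, hK₀n.conj_mem y hy ⟨s, hs'⟩, rfl⟩
  have hdec : ∀ w ∈ W, ∃ k ∈ K, ∃ s ∈ (T : Subgroup G), k * s = w := by
    intro w hw
    obtain ⟨k, hk, s, hs', e⟩ := Subgroup.mem_sup_of_normal_left.1
      (hKc.sup_eq_top ▸ Subgroup.mem_top (⟨w, hw⟩ : W) : (⟨w, hw⟩ : W) ∈ K₀ ⊔ (P₀ : Subgroup W))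
    exact ⟨k, ⟨k, hk, rfl⟩, s, (hP₀ s).1 hs', congrArg Subtype.val e⟩
  -- two involutions not centralising `W`
  have hpair : ∀ s ∈ (T : Subgroup G), ∀ s' ∈ (T : Subgroup G), s * s = 1 → s' * s' = 1 →
      ¬ (∀ w ∈ W, w * s = s * w) → ¬ (∀ w ∈ W, w * s' = s' * w) →
      ∀ w ∈ W, w * (s * s') = s * s' * w := by
    intro s hsT s' hs'T hs2 hs'2 hsn hs'n
    have hax : ∀ r ∈ (T : Subgroup G), ¬ (∀ w ∈ W, w * r = r * w) →
        ∀ y ∈ K, r * y = y * r → ∀ u ∈ (T : Subgroup G), u * y = y * u := by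
      intro r hr hrn y hy hry u hu
      push Not at hrn
      obtain ⟨g, hg, hgr⟩ := hrn
      exact hp.comm hWne (hTW hr) (hTW hu) (hKW hy) hg hgr (hTc u hu r hr) hry.symm
    have hfix := fixed_of_axes (Z := (⊥ : Subgroup G)) (A := K) (inf_bot_eq _) hKo (a := s) (b := s')
      (Subgroup.mem_bot.2 hs2) (Subgroup.mem_bot.2 hs'2)
      (Subgroup.mem_bot.2 (by
        rw [hTc s hsT s' hs'T]; group))
      (hKn s (hTW hsT)) (hKn s' (hTW hs'T))
      (fun y hy e => hax s hsT hsn y hy e _ (mul_mem hsT hs'T))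
      (fun y hy e => hax s' hs'T hs'n y hy e _ (mul_mem hsT hs'T))
    intro w hw
    obtain ⟨k, hk, r, hr, rfl⟩ := hdec w hw
    rw [mul_assoc, hTc r hr _ (mul_mem hsT hs'T), ← mul_assoc, ← hfix k hk, mul_assoc]
  -- `t` is the only such involution centralising `W`
  have honly : ∀ u ∈ (T : Subgroup G), u * u = 1 → u ≠ 1 → (∀ w ∈ W, w * u = u * w) → u = t := by
    intro u huT hu2 hu1 huW
    by_contra hut
    set v : G → G := fun x => n⁻¹ * x * n with hv
    have hvT : ∀ x ∈ (T : Subgroup G), v x ∈ (T : Subgroup G) := fun x hx => by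
      simpa [hv] using (Subgroup.mem_normalizer_iff.1 (inv_mem hn) x).1 hx
    have hv2 : ∀ x, x * x = 1 → v x * v x = 1 := fun x hx => by
      rw [hv]
      show n⁻¹ * x * n * (n⁻¹ * x * n) = 1
      rw [show n⁻¹ * x * n * (n⁻¹ * x * n) = n⁻¹ * (x * x) * n by group, hx]
      group
    obtain ⟨a, haT, ha1, haW, hvaW⟩ : ∃ a ∈ (T : Subgroup G), a ≠ 1 ∧
        (∀ w ∈ W, w * a = a * w) ∧ ∀ w ∈ W, w * v a = v a * w := by
      by_cases h1 : ∀ w ∈ W, w * v t = v t * w
      · exact ⟨t, htT, ht1, fun w hw => mem_C.1 hw, h1⟩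
      by_cases h2 : ∀ w ∈ W, w * v u = v u * w
      · exact ⟨u, huT, hu1, huW, h2⟩
      refine ⟨t * u, mul_mem htT huT, fun e => hut ?_, fun w hw => ?_, ?_⟩
      · rw [eq_inv_of_mul_eq_one_right e, inv_eq_of_mul_eq_one_right ht2]
      · rw [← mul_assoc, mem_C.1 hw, mul_assoc, huW w hw, mul_assoc]
      · have e : v (t * u) = v t * v u := by simp only [hv]; group
        rw [e]
        exact hpair _ (hvT t htT) _ (hvT u huT) (hv2 t ht2) (hv2 u hu2) h1 h2
    have hCW : ∀ x ∈ (T : Subgroup G), x ≠ 1 → (∀ w ∈ W, w * x = x * w) →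
        Subgroup.centralizer ({x} : Set G) = W := fun x hx hx1 hxW => by
      have hle : W ≤ Subgroup.centralizer ({x} : Set G) := fun w hw => mem_C.2 (hxW w hw)
      exact le_antisymm (hcentral _ (C_ne_top fun h => hx1 (hTZ x hx h)) hle) hle
    have hA := hCW a haT ha1 haW
    have hB := hCW (v a) (hvT a haT) (fun e => ha1 (by
      have e' : n⁻¹ * a * n = 1 := e
      calc a = n * (n⁻¹ * a * n) * n⁻¹ := by group
        _ = 1 := by rw [e']; group)) hvaW
    have hconj : ∀ w, n * w * n⁻¹ ∈ W ↔ w ∈ W := fun w => by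
      nth_rewrite 1 [← hA]
      rw [← hB, mem_C, mem_C, hv]
      constructor
      · intro e
        calc w * (n⁻¹ * a * n) = n⁻¹ * (n * w * n⁻¹ * a) * n := by group
          _ = n⁻¹ * (a * (n * w * n⁻¹)) * n := by rw [e]
          _ = _ := by group
      · intro e
        calc n * w * n⁻¹ * a = n * (w * (n⁻¹ * a * n)) * n⁻¹ := by group
          _ = n * (n⁻¹ * a * n * w) * n⁻¹ := by rw [e]
          _ = _ := by group
    have hnW : n ∈ Subgroup.normalizer (W : Set G) :=
      Subgroup.mem_normalizer_iff.2 fun w => (hconj w).symm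
    have hNWne : Subgroup.normalizer (W : Set G) ≠ ⊤ := fun e => by
      haveI : W.Normal := Subgroup.normalizer_eq_top_iff.1 e
      have hsol : Group.IsSolvable (G ⧸ W) := solvable_of_odd (by
        rw [← Subgroup.index_eq_card]
        exact Nat.odd_iff.2 (Nat.two_dvd_ne_zero.1 fun h =>
          T.not_dvd_index (h.trans (Subgroup.index_dvd_of_le hTW))))
      obtain ⟨m, hm⟩ := (Group.isSolvable_def _).1 hsol
      rw [← map_derivedSeries_eq (QuotientGroup.mk'_surjective W), Subgroup.map_eq_bot_iff,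
        QuotientGroup.ker_mk'] at hm
      refine hWne (top_le_iff.1 (le_trans (le_of_eq ?_) hm))
      clear hm
      induction m with
      | zero => rfl
      | succ m ih => rw [derivedSeries_succ, ← ih, ← commutator_def, hperf]
    exact hnt (mul_inv_eq_iff_eq_mul.2 (mem_C.1 (hcentral _ hNWne Subgroup.le_normalizer hnW)))
  -- the involutions of `T`
  set s := n * t * n⁻¹ with hsdef
  have hsT : s ∈ (T : Subgroup G) := hnT t htT
  have hs2 : s * s = 1 := by
    rw [hsdef, show n * t * n⁻¹ * (n * t * n⁻¹) = n * (t * t) * n⁻¹ by group, ht2]; group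
  have hs1 : s ≠ 1 := fun e => ht1 (conj_eq_one_iff.1 e)
  have hinvs : ∀ u ∈ (T : Subgroup G), u * u = 1 → u = 1 ∨ u = t ∨ u = s ∨ u = t * s := by
    intro u huT hu2
    by_cases hu1 : u = 1
    · exact Or.inl hu1
    by_cases huW : ∀ w ∈ W, w * u = u * w
    · exact Or.inr (Or.inl (honly u huT hu2 hu1 huW))
    have hsW : ¬ ∀ w ∈ W, w * s = s * w := fun h => hnt (honly s hsT hs2 hs1 h)
    have hus : (u * s) * (u * s) = 1 := by
      rw [show u * s * (u * s) = u * (s * u) * s by group, hTc s hsT u huT,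
        show u * (u * s) * s = u * u * (s * s) by group, hu2, hs2, mul_one]
    by_cases hus1 : u * s = 1
    · exact Or.inr (Or.inr (Or.inl (by
        rw [eq_inv_of_mul_eq_one_left hus1, inv_eq_of_mul_eq_one_right hs2])))
    · have := honly (u * s) (mul_mem huT hsT) hus hus1 (hpair u huT s hsT hu2 hs2 huW hsW)
      refine Or.inr (Or.inr (Or.inr ?_))
      rw [← this, mul_assoc, hs2, mul_one]
  have hts : (t * s) * (t * s) = 1 := by
    rw [show t * s * (t * s) = t * (s * t) * s by group, hTc s hsT t htT,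
      show t * (t * s) * s = t * t * (s * s) by group, ht2, hs2, mul_one]
  -- `n` permutes the three cyclically
  have hnn : n * s * n⁻¹ ≠ t := by
    intro e
    have hd2 : (n * n) * t = t * (n * n) := by
      rw [← mul_inv_eq_iff_eq_mul]
      calc n * n * t * (n * n)⁻¹ = n * (n * t * n⁻¹) * n⁻¹ := by group
        _ = t := e
    obtain ⟨k, m, hm, hkm⟩ := Nat.exists_eq_two_pow_mul_odd (orderOf_pos n).ne'
    have h1 : n ^ m ∈ (T : Subgroup G) := mem_sylow_of_normalizes T (k := k)
      (by rw [← pow_mul, mul_comm, ← hkm, pow_orderOf_eq_one]) (pow_mem hn m)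
    obtain ⟨j, hj⟩ := hm
    have hc1 : Commute ((n * n) ^ j) t := (show Commute (n * n) t from hd2).pow_left j
    have hc2 : Commute (n ^ m) t := hTc _ h1 t htT
    rw [hj, pow_succ, pow_mul, pow_two] at hc2
    have hc3 : Commute n t := by
      have := hc1.inv_left.mul_left hc2
      rwa [inv_mul_cancel_left] at this
    exact hnt (by rw [hsdef, hc3.eq, mul_inv_cancel_right])
  have hns : n * s * n⁻¹ = t * s := by
    rcases hinvs _ (hnT s hsT) (by
      rw [show n * s * n⁻¹ * (n * s * n⁻¹) = n * (s * s) * n⁻¹ by group, hs2]; group)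
      with e | e | e | e
    · exact absurd (conj_eq_one_iff.1 e) hs1
    · exact absurd e hnn
    · exact absurd (by simpa [hsdef] using e : n * t * n⁻¹ = t) hnt
    · exact e
  have hnts : n * (t * s) * n⁻¹ = t := by
    rw [show n * (t * s) * n⁻¹ = n * t * n⁻¹ * (n * s * n⁻¹) by group, hns, ← hsdef, ← mul_assoc,
      hTc s hsT t htT, mul_assoc, hs2, mul_one]
  -- `T` is homocyclic
  letI : CommGroup (T : Subgroup G) :=
    { (inferInstance : Group (T : Subgroup G)) with
      mul_comm := fun a b => Subtype.ext (hTc a a.2 b b.2) }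
  let φ : MulAut (T : Subgroup G) :=
    { toFun := fun x => ⟨n * x * n⁻¹, hnT x x.2⟩
      invFun := fun x => ⟨n⁻¹ * x * n, by
        simpa using (Subgroup.mem_normalizer_iff.1 (inv_mem hn) x).1 x.2⟩
      left_inv := fun x => Subtype.ext (show n⁻¹ * (n * (x : G) * n⁻¹) * n = x by group)
      right_inv := fun x => Subtype.ext (show n * (n⁻¹ * (x : G) * n) * n⁻¹ = x by group)
      map_mul' := fun x y => Subtype.ext
        (show n * ((x : G) * y) * n⁻¹ = n * x * n⁻¹ * (n * y * n⁻¹) by group) }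
  obtain ⟨m, r, ⟨e⟩⟩ := ConjInvol.homocyclic (S := (T : Subgroup G)) T.isPGroup' (by
    intro x y hx hx2 hy hy2
    have hit : ∀ z : (T : Subgroup G), z ≠ 1 → z ^ 2 = 1 → ∃ ψ : MulAut (T : Subgroup G),
        ψ ⟨t, htT⟩ = z := by
      intro z hz hz2
      rcases hinvs z z.2 (by rw [← pow_two]; exact congrArg Subtype.val hz2) with h | h | h | h
      · exact absurd (Subtype.ext h) hz
      · exact ⟨1, Subtype.ext h.symm⟩
      · exact ⟨φ, Subtype.ext h.symm⟩
      · exact ⟨φ * φ, Subtype.ext (show n * (n * t * n⁻¹) * n⁻¹ = z by rw [h, ← hns])⟩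
    obtain ⟨ψ, hψ⟩ := hit x hx hx2
    obtain ⟨χ, hχ⟩ := hit y hy hy2
    exact ⟨χ * ψ⁻¹, by rw [MulAut.mul_apply, ← hψ, MulAut.inv_apply_self, hχ]⟩)
  have htS : (⟨t, htT⟩ : (T : Subgroup G)) ≠ 1 := fun h => ht1 (congrArg Subtype.val h)
  have hm0 : m ≠ 0 := by
    rintro rfl
    refine htS (e.injective ?_)
    rw [map_one]
    exact funext fun i => Subsingleton.elim (α := ZMod 1) _ _
  have hr2 : r = 2 := by
    have hcyc : r ≤ 1 → False := by
      intro hr
      refine hs (solvable_of_cyclic T ?_)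
      haveI : IsCyclic (Fin r → Multiplicative (ZMod (2 ^ m))) := by
        interval_cases r
        · infer_instance
        · exact isCyclic_of_surjective (MulEquiv.funUnique (Fin 1) (Multiplicative (ZMod (2 ^ m)))).symm.toMonoidHom
            (MulEquiv.surjective _)
      exact isCyclic_of_surjective e.symm.toMonoidHom e.symm.surjective
    have hge : 2 ^ r ≤ 4 := by
      let z : Multiplicative (ZMod (2 ^ m)) := Multiplicative.ofAdd ((2 : ZMod (2 ^ m)) ^ (m - 1))
      have hz2 : z * z = 1 := by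
        rw [← ofAdd_add, ← two_mul, ← pow_succ', Nat.sub_add_cancel (Nat.one_le_iff_ne_zero.2 hm0)]
        have : ((2 ^ m : ℕ) : ZMod (2 ^ m)) = 0 := ZMod.natCast_self _
        push_cast at this
        rw [this, ofAdd_zero]
      have hz1 : z ≠ 1 := by
        intro h
        have h' : ((2 : ZMod (2 ^ m)) ^ (m - 1)) = 0 := h
        have h'' : ((2 ^ (m - 1) : ℕ) : ZMod (2 ^ m)) = 0 := by push_cast; exact h'
        rw [ZMod.natCast_eq_zero_iff] at h''
        have := (Nat.pow_dvd_pow_iff_le_right (by norm_num)).1 h''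
        omega
      let f : (Fin r → Bool) → ({1, t, s, t * s} : Set G) := fun c =>
        ⟨(e.symm fun i => if c i then z else 1 : (T : Subgroup G)), by
          have h2 : (fun i => if c i then z else 1) * (fun i => if c i then z else 1) =
              (1 : Fin r → Multiplicative (ZMod (2 ^ m))) := funext fun i => by
            by_cases hc : c i <;> simp [hc, hz2]
          have := hinvs _ (e.symm fun i => if c i then z else 1).2
            (congrArg Subtype.val (show _ * _ = (1 : (T : Subgroup G)) by rw [← map_mul, h2, map_one]))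
          simpa using this⟩
      have hf : Function.Injective f := fun c c' h => funext fun i => by
        have := congrFun (e.symm.injective (Subtype.ext (congrArg (fun v : ({1, t, s, t * s} : Set G) => (v : G)) h))) i
        cases hc : c i <;> cases hc' : c' i <;> simp [hc, hc', hz1, Ne.symm hz1] at this ⊢
      have h4 := Nat.card_le_card_of_injective f hf
      rw [Nat.card_eq_fintype_card, Fintype.card_fun, Fintype.card_bool, Fintype.card_fin,
        Nat.card_coe_set_eq] at h4
      refine h4.trans ?_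
      exact (Set.ncard_insert_le _ _).trans (Nat.succ_le_succ ((Set.ncard_insert_le _ _).trans
        (Nat.succ_le_succ ((Set.ncard_insert_le _ _).trans (by rw [Set.ncard_singleton])))))
    rcases Nat.lt_or_ge r 3 with h | h
    · rcases Nat.lt_or_ge r 2 with h' | h'
      · exact (hcyc (by omega)).elim
      · omega
    · have := Nat.pow_le_pow_right (show 0 < 2 by norm_num) h
      omega
  subst hr2
  let e₂ : (T : Subgroup G) ≃* Multiplicative (ZMod (2 ^ m) × ZMod (2 ^ m)) :=
    e.trans (pairEquiv _)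
  by_cases hm1 : m = 1
  · subst hm1
    refine ⟨?_, Nat.dvd_antisymm (Monoid.exponent_dvd_of_forall_pow_eq_one fun x => ?_) ?_⟩
    · rw [Nat.card_congr e₂.toEquiv, Nat.card_congr Multiplicative.toAdd, Nat.card_prod,
        Nat.card_zmod]
      norm_num
    · apply e₂.injective
      rw [map_pow, map_one]
      exact klein_sq _
    · have := Monoid.order_dvd_exponent (⟨t, htT⟩ : (T : Subgroup G))
      rwa [← Subgroup.orderOf_coe, ht] at this
  exfalso
  set O := Cfsg.pPrimeCore 2 G with hO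
  haveI : O.Normal := FittingCores.pPrimeCore_normal 2
  let π : G →* G ⧸ O := QuotientGroup.mk' O
  have hπ : Function.Surjective π := QuotientGroup.mk'_surjective O
  have hdisj : ∀ x ∈ (T : Subgroup G), π x = 1 → x = 1 := by
    intro x hx he
    obtain ⟨k, hk⟩ := exists_two_pow T hx
    exact orderOf_eq_one_iff.1 (Nat.eq_one_of_dvd_coprimes
      ((PBasic.pPrimeCore_coprime 2 G).pow_right k)
      (Subgroup.orderOf_dvd_natCard O ((QuotientGroup.eq_one_iff x).1 he))
      (orderOf_dvd_of_pow_eq_one hk))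
  let ψ : (T : Subgroup G) ≃* ((T.mapSurjective hπ : Sylow 2 (G ⧸ O)) : Subgroup (G ⧸ O)) :=
    MulEquiv.ofBijective (π.subgroupMap (T : Subgroup G))
      ⟨(injective_iff_map_eq_one _).2 fun x hx => Subtype.ext
        (hdisj x x.2 (congrArg Subtype.val hx)), π.subgroupMap_surjective _⟩
  obtain ⟨hnorm, -, -⟩ := Cfsg.Agent.S0949.result (T.mapSurjective hπ) m (by omega)
    (ψ.symm.trans e₂) fun N hN hNo => by
      have := PBasic.le_pPrimeCore (p := 2) hN (Nat.coprime_two_right.2 hNo)
      rwa [PBasic.pPrimeCore_quotient_pPrimeCore, le_bot_iff] at this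
  exact hs (solvable_ext O
    (solvable_of_odd (Nat.coprime_two_right.1 (PBasic.pPrimeCore_coprime 2 G)))
    (@solvable_of_normal_sylow _ _ _ (T.mapSurjective hπ) hnorm))

end Cfsg.Agent.MinNonCA
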