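import Cfsg.Agent.Lib.MinNonCA.NoIdx
import Cfsg.Agent.Lib.Solvable.Structure

/-!
The dihedral data of a group with a proper residual with non-abelian Sylow 2-subgroups.
-/

set_option autoImplicit false

namespace Cfsg.Agent.MinNonCA

universe u

variable {G : Type u} [Group G] [Finite G]

/-- The dihedral data when the residual has non-abelian Sylow 2-subgroups. -/
theorem general_data (hs : ¬ Group.IsSolvable G) (hp : ProperCA G) {D : Subgroup G} (hD : IsRes D)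
    (hne : D ≠ ⊤) (T₀ : Sylow 2 G)
    (hab : ∃ a ∈ (T₀ : Subgroup G) ⊓ D, ∃ b ∈ (T₀ : Subgroup G) ⊓ D, a * b ≠ b * a) :
    ∃ (T : Sylow 2 G) (A : Subgroup G) (u : G), ¬ IsMulCommutative (T : Subgroup G) ∧
      Data T A u ∧ u ∈ D := by
  haveI : Fact (Nat.Prime 2) := ⟨Nat.prime_two⟩
  haveI := hD.normal
  have hsD := hD.nonsolv
  have hpD : ProperCA D := (hp D hne).properCA
  have hperfD := hD.comm_top
  obtain ⟨a₀, ha₀, b₀, hb₀, hab₀⟩ := hab
  obtain ⟨S₀, hS₀⟩ := sylow_inf_normal T₀ D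
  have hnaS₀ : ¬ IsMulCommutative (S₀ : Subgroup D) := fun h => hab₀ (by
    have hm : ∀ c (hc : c ∈ (T₀ : Subgroup G) ⊓ D), (⟨c, hc.2⟩ : D) ∈ (S₀ : Subgroup D) :=
      fun c hc => by rw [hS₀]; exact hc.1
    exact congrArg (fun c : (S₀ : Subgroup D) => ((c : D) : G))
      (h.is_comm.comm ⟨_, hm a₀ ha₀⟩ ⟨_, hm b₀ hb₀⟩))
  obtain ⟨S, A₀, u₀, d₀⟩ := perfect_data hsD hpD hperfD hnaS₀
  obtain ⟨T, hT⟩ := (S.isPGroup'.map D.subtype).exists_le_sylow
  have hmem : ∀ x : D, x ∈ (S : Subgroup D) ↔ (x : G) ∈ (T : Subgroup G) := by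
    intro x
    refine ⟨fun hx => hT ⟨x, hx, rfl⟩, fun hx => ?_⟩
    have := S.is_maximal' (Q := (T : Subgroup G).subgroupOf D)
      (T.isPGroup'.comap_of_injective D.subtype D.subtype_injective)
      (fun y hy => hT ⟨y, hy, rfl⟩)
    rw [← this]
    exact hx
  have hnaS : ¬ IsMulCommutative (S : Subgroup D) := fun h =>
    hnaS₀ ⟨⟨fun a b => (S₀.equiv S).injective (by rw [map_mul, map_mul]; exact h.is_comm.comm _ _)⟩⟩
  have hna : ¬ IsMulCommutative (T : Subgroup G) := fun h =>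
    hnaS ⟨⟨fun a b => Subtype.ext (Subtype.ext (congrArg Subtype.val (h.is_comm.comm
      (⟨_, (hmem a).1 a.2⟩ : (T : Subgroup G)) ⟨_, (hmem b).1 b.2⟩) :))⟩⟩
  -- the centre of `S` has order two
  have huniq : ∀ x y : D, x ∈ (S : Subgroup D) → y ∈ (S : Subgroup D) →
      x ∈ Subgroup.center D → y ∈ Subgroup.center D → x ≠ 1 → y ≠ 1 → x = y := by
    intro x y hxS hyS hxc hyc hx1 hy1
    obtain ⟨p, hp', ep⟩ := d₀.center_phi hsD hpD hperfD hnaS hxS hxc
    obtain ⟨q, hq', eq'⟩ := d₀.center_phi hsD hpD hperfD hnaS hyS hyc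
    rw [← ep, ← eq']
    exact d₀.one p hp' q hq' (by rw [ep]; exact hx1)
      (by rw [ep]; exact d₀.center_sq hsD hpD hperfD hnaS hxS hxc) (by rw [eq']; exact hy1)
      (by rw [eq']; exact d₀.center_sq hsD hpD hperfD hnaS hyS hyc)
  have hZG : ∀ x : D, x ∈ (S : Subgroup D) → x ∈ Subgroup.center D →
      (x : G) ∈ Subgroup.center G := by
    intro x hxS hxc
    by_cases hx1 : x = 1
    · rw [hx1]; exact one_mem _
    refine Subgroup.mem_center_iff.2 fun g => ?_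
    set y : D := MulAut.conjNormal g x with hy
    have hyc : y ∈ Subgroup.center D := Subgroup.mem_center_iff.2 fun z => by
      rw [hy, ← (MulAut.conjNormal g : MulAut D).apply_symm_apply z, ← map_mul, ← map_mul,
        Subgroup.mem_center_iff.1 hxc]
    have hy2 : y ^ 2 ^ 1 = 1 := by
      rw [pow_one, pow_two, hy, ← map_mul, d₀.center_sq hsD hpD hperfD hnaS hxS hxc, map_one]
    have hyS := mem_sylow_of_comm S hy2 fun s _ => (Subgroup.mem_center_iff.1 hyc s).symm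
    have he := huniq y x hyS hxS hyc hxc (fun e => hx1 ((MulEquiv.map_eq_one_iff _).1 e)) hx1
    have he' : g * (x : G) * g⁻¹ = x := by
      rw [← MulAut.conjNormal_apply]
      exact congrArg Subtype.val he
    exact mul_inv_eq_iff_eq_mul.1 he'
  have hnz : ∀ x : D, x ∈ (S : Subgroup D) → (x : G) ∉ Subgroup.center G →
      ∃ s ∈ (S : Subgroup D), (s : G) * x ≠ x * s := by
    intro x hx hxG
    by_contra h
    push Not at h
    exact hxG (hZG x hx (sylow_center hsD hpD S hnaS hx fun s hs' => Subtype.ext (h s hs')))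
  -- a lift of a central involution of `T` modulo the centre
  set C := (Subgroup.center G).subgroupOf (T : Subgroup G) with hC
  let π : (T : Subgroup G) →* (T : Subgroup G) ⧸ C := QuotientGroup.mk' C
  haveI : ((D.subgroupOf (T : Subgroup G)).map π).Normal :=
    (inferInstance : (D.subgroupOf (T : Subgroup G)).Normal).map π (QuotientGroup.mk'_surjective C)
  haveI := (T.isPGroup'.to_quotient C).isNilpotent
  have hN : (D.subgroupOf (T : Subgroup G)).map π ≠ ⊥ := by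
    rw [ne_eq, Subgroup.map_eq_bot_iff, QuotientGroup.ker_mk']
    intro hle
    refine hnaS ⟨⟨fun a b => Subtype.ext (Subtype.ext ?_)⟩⟩
    have : ((b : D) : G) ∈ Subgroup.center G :=
      hle (x := ⟨_, (hmem b).1 b.2⟩) (b : D).2
    exact Subgroup.mem_center_iff.1 this _
  obtain ⟨q, ⟨hqN, hqc⟩, hq1⟩ := (Subgroup.bot_or_exists_ne_one _).resolve_left
    (SolvStruct.inf_center_ne_bot hN)
  obtain ⟨⟨a, haT⟩, haD, rfl⟩ := hqN
  change a ∈ D at haD
  have haZ : a ∉ Subgroup.center G := fun h => hq1 ((QuotientGroup.eq_one_iff _).2 h)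
  have hac : ∀ t ∈ (T : Subgroup G), t * a * t⁻¹ * a⁻¹ ∈ Subgroup.center G := by
    intro t ht
    have h := Subgroup.mem_center_iff.1 hqc (π ⟨t, ht⟩)
    have h2 : π (⟨t, ht⟩ * ⟨a, haT⟩ * ⟨t, ht⟩⁻¹ * ⟨a, haT⟩⁻¹) = 1 := by
      rw [map_mul, map_mul, map_mul, map_inv, map_inv, h, mul_inv_cancel_right, mul_inv_cancel]
    rw [← MonoidHom.mem_ker, QuotientGroup.ker_mk'] at h2
    exact h2
  obtain ⟨⟨u, huD⟩, huS, hua⟩ := hnz ⟨a, haD⟩ ((hmem _).2 haT) haZ
  have huT : u ∈ (T : Subgroup G) := (hmem _).1 huS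
  have hua' : u * a ≠ a * u := hua
  have hone : ∀ c : G, c ∈ (T : Subgroup G) → c ∈ D → c ∈ Subgroup.center G → c ≠ 1 →
      ∀ c' : G, c' ∈ (T : Subgroup G) → c' ∈ D → c' ∈ Subgroup.center G → c' ≠ 1 → c = c' := by
    intro c hcT hcD hcZ hc1 c' hc'T hc'D hc'Z hc'1
    refine congrArg Subtype.val (huniq ⟨c, hcD⟩ ⟨c', hc'D⟩ ((hmem _).2 hcT) ((hmem _).2 hc'T)
      ?_ ?_ (fun e => hc1 (congrArg Subtype.val e)) fun e => hc'1 (congrArg Subtype.val e))
    · exact Subgroup.mem_center_iff.2 fun y => Subtype.ext (Subgroup.mem_center_iff.1 hcZ y)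
    · exact Subgroup.mem_center_iff.2 fun y => Subtype.ext (Subgroup.mem_center_iff.1 hc'Z y)
  have hcD : ∀ t, t * a * t⁻¹ * a⁻¹ ∈ D := fun t =>
    D.mul_mem ((inferInstance : D.Normal).conj_mem a haD t) (D.inv_mem haD)
  have hcT : ∀ t ∈ (T : Subgroup G), t * a * t⁻¹ * a⁻¹ ∈ (T : Subgroup G) := fun t ht =>
    mul_mem (mul_mem (mul_mem ht haT) (inv_mem ht)) (inv_mem haT)
  have hne1 : ∀ t, t * a ≠ a * t → t * a * t⁻¹ * a⁻¹ ≠ 1 := fun t h e =>
    h (mul_inv_eq_iff_eq_mul.1 (mul_inv_eq_one.1 e))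
  set A := (T : Subgroup G) ⊓ Subgroup.centralizer ({a} : Set G) with hA
  have d : Idx T A u := by
    refine ⟨inf_le_left, fun b hb c hc => two_comm hs hp haT hb.1 hc.1 haZ (mem_C.1 hb.2)
      (mem_C.1 hc.2), huT, fun h => hua' (mem_C.1 h.2), fun t ht => ?_⟩
    by_cases hta : t * a = a * t
    · exact Or.inl ⟨ht, mem_C.2 hta⟩
    have he := hone _ (hcT t ht) (hcD t) (hac t ht) (hne1 t hta) _ (hcT u huT) (hcD u) (hac u huT)
      (hne1 u hua')
    refine Or.inr ⟨(T : Subgroup G).mul_mem ht ((T : Subgroup G).inv_mem huT), mem_C.2 ?_⟩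
    set z := u * a * u⁻¹ * a⁻¹ with hz
    have hzc := Subgroup.mem_center_iff.1 (hac u huT)
    have e1 : u⁻¹ * a = z⁻¹ * (a * u⁻¹) := by
      have : u⁻¹ * z = z * u⁻¹ := hzc u⁻¹
      calc u⁻¹ * a = z⁻¹ * (z * u⁻¹) * a := by group
        _ = z⁻¹ * (u⁻¹ * z) * a := by rw [this]
        _ = _ := by rw [hz]; group
    calc t * u⁻¹ * a = t * (z⁻¹ * (a * u⁻¹)) := by rw [mul_assoc, e1]
      _ = z⁻¹ * t * (a * u⁻¹) := by
          rw [← mul_assoc, Subgroup.mem_center_iff.1 (inv_mem (hac u huT)) t]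
      _ = z⁻¹ * (t * a * t⁻¹ * a⁻¹) * (a * (t * u⁻¹)) := by group
      _ = a * (t * u⁻¹) := by rw [he]; group
  refine ⟨T, A, u, hna, { d with one := fun x hx y hy hx1 hx2 hy1 hy2 => ?_ }, huD⟩
  have key : ∀ w ∈ A, (w * u * w⁻¹ * u⁻¹) * (w * u * w⁻¹ * u⁻¹) = 1 →
      w * u * w⁻¹ * u⁻¹ ∈ Subgroup.center G ∧ w * u * w⁻¹ * u⁻¹ ∈ D := by
    intro w hw h2
    refine ⟨d.fixed_center hs hp hna (d.phi_mem hw) ?_,
      mul_mem ((inferInstance : D.Normal).conj_mem u huD w) (inv_mem huD)⟩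
    have h := Idx.inverted (T := T) (A := A) (x := w) (d.sq_center hs hp hna)
    rw [inv_eq_of_mul_eq_one_right h2] at h
    exact (mul_inv_eq_iff_eq_mul.1 h).symm
  exact hone _ (d.le (d.phi_mem hx)) (key x hx hx2).2 (key x hx hx2).1 hx1 _
    (d.le (d.phi_mem hy)) (key y hy hy2).2 (key y hy hy2).1 hy1

end Cfsg.Agent.MinNonCA
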