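import Cfsg.Agent.Lib.GW.FieldPart
import Cfsg.Agent.Lib.Classical.PSL2Involutions
import Cfsg.Agent.Lib.Classical.SL2Classes

/-!
Two rigidity facts on automorphisms of `PSL₂(q)`: an automorphism of odd order fixing the squares
of the centraliser of an involution has trivial field part, and, in characteristic two, an
automorphism fixing the upper unitriangular group is conjugation by one of its elements.
-/

set_option autoImplicit false
set_option linter.unusedSectionVars false

namespace Cfsg.Agent.MinNonCA

open Matrix SL2Inv PSL2Inv Cfsg.Agent.AutPSL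

variable {F : Type} [Field F] [Fintype F]

local notation "S" => Matrix.SpecialLinearGroup (Fin 2) F
local notation "P" => Matrix.ProjectiveSpecialLinearGroup (Fin 2) F

theorem pr_w_eq :
    (pr w : P) = QuotientGroup.mk ⟨!![0, 1; -1, 0], by simp [Matrix.det_fin_two]⟩ := by
  refine pr_eq_iff.2 (Or.inr (Subtype.ext ?_))
  show !![(0 : F), 1; -1, 0] = _
  rw [Matrix.SpecialLinearGroup.coe_mul, coe_negOne]
  ext i j
  fin_cases i <;> fin_cases j <;> simp [w]

theorem fix_of_sign {σ : F ≃+* F} (ho : Odd (orderOf σ)) {x : F} (h : σ x = x ∨ σ x = -x) :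
    σ x = x := by
  obtain ⟨j, hj⟩ := ho
  have h2 : (σ * σ) x = x := by
    show σ (σ x) = x
    rcases h with e | e
    · rw [e, e]
    · rw [e, map_neg, e, neg_neg]
  have hp : ∀ n : ℕ, ((σ * σ) ^ n) x = x := fun n => by
    induction n with
    | zero => rfl
    | succ n ih => rw [pow_succ]; show ((σ * σ) ^ n) ((σ * σ) x) = x; rw [h2, ih]
  have hσ : (σ * σ) ^ (j + 1) = σ := by
    rw [← pow_two, ← pow_mul, show 2 * (j + 1) = 2 * j + 1 + 1 by ring, pow_succ, ← hj,
      pow_orderOf_eq_one, one_mul]
  have := hp (j + 1)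
  rwa [hσ] at this

theorem fld_one_of_fix (hodd : Odd (Fintype.card F)) {β : MulAut P} (ho : Odd (orderOf β))
    (hfix : ∀ r : P, r * pr w = pr w * r → β (r * r) = r * r) : GW.fldHom β = 1 := by
  have h2 : (2 : F) ≠ 0 := by
    intro h
    obtain ⟨k, hk⟩ := hodd
    have h0 := FiniteField.cast_card_eq_zero F
    rw [hk] at h0
    push_cast at h0
    rw [h, zero_mul, zero_add] at h0
    exact one_ne_zero h0
  have hσo : Odd (orderOf (GW.fldHom β)) := ho.of_dvd_nat (orderOf_map_dvd _ β)
  obtain ⟨g, σ, rfl⟩ := GW.exists_semi β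
  rw [GW.fldHom_semi] at hσo ⊢
  have main : ∀ m : F, 1 + m * m ≠ 0 → σ m = m := by
    intro m hd
    refine fix_of_sign hσo ?_
    set a : F := (1 - m * m) / (1 + m * m) with hadef
    set b : F := 2 * m / (1 + m * m) with hbdef
    have hdet : a * a + b * b = 1 := by
      rw [hadef, hbdef, div_mul_div_comm, div_mul_div_comm, ← add_div,
        div_eq_one_iff_eq (mul_ne_zero hd hd)]
      ring
    let r : S := ⟨!![a, -b; b, a], by simp [Matrix.det_fin_two]; linear_combination hdet⟩
    have hrw : r * w = w * r := by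
      apply Subtype.ext
      rw [Matrix.SpecialLinearGroup.coe_mul, Matrix.SpecialLinearGroup.coe_mul]
      ext i j
      fin_cases i <;> fin_cases j <;> simp [r, w, Matrix.mul_apply, Fin.sum_univ_two]
    have h := hfix (pr r) (by rw [← map_mul, ← map_mul, hrw])
    rw [← map_mul] at h
    have h' : pr (slSemi g σ (r * r)) = (pr (r * r) : P) := h
    have htr : (r * r).1.trace = 2 * (a * a - b * b) := by
      rw [Matrix.SpecialLinearGroup.coe_mul, Matrix.trace_fin_two]
      simp [r, Matrix.mul_apply, Fin.sum_univ_two]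
      ring
    have htr' : (slSemi g σ (r * r)).1.trace = 2 * σ (a * a - b * b) := by
      rw [← map_ofNat σ 2, ← map_mul σ, slSemi_coe, Matrix.trace_units_conj, ← htr, Matrix.trace_fin_two, Matrix.trace_fin_two,
        map_add, Matrix.map_apply, Matrix.map_apply]
    have hc : σ (a * a - b * b) = a * a - b * b := by
      refine fix_of_sign hσo ?_
      rcases pr_eq_iff.1 h' with e | e
      · left
        rw [e, htr'] at htr
        exact mul_left_cancel₀ h2 htr
      · right
        rw [e, trace_negOne_mul, htr'] at htr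
        refine mul_left_cancel₀ h2 ?_
        linear_combination -htr
    have haa : σ a = a := by
      refine fix_of_sign hσo (mul_self_eq_mul_self_iff.1 (mul_left_cancel₀ h2 ?_))
      have e : σ (2 * (a * a) - 1) = 2 * (a * a) - 1 := by
        rw [show 2 * (a * a) - 1 = a * a - b * b by linear_combination hdet, hc]
      rw [map_sub, map_mul, map_mul, map_ofNat, map_one] at e
      linear_combination e
    have hm : σ (m * m) = m * m := by
      have h1a : (1 + a) ≠ 0 := by
        rw [hadef, one_add_div hd, div_ne_zero_iff]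
        exact ⟨fun e => h2 (by linear_combination e), hd⟩
      have e : (1 + a) * (m * m) = 1 - a := by
        rw [hadef, one_add_div hd, one_sub_div hd, div_mul_eq_mul_div]; congr 1; ring
      have e' := congrArg σ e
      rw [map_mul, map_add, map_sub, map_one, haa] at e'
      exact mul_left_cancel₀ h1a (e'.trans e.symm)
    rw [map_mul] at hm
    exact mul_self_eq_mul_self_iff.1 hm
  refine RingEquiv.ext fun m => ?_
  show σ m = m
  by_cases hd : 1 + m * m = 0
  · refine fix_of_sign hσo (mul_self_eq_mul_self_iff.1 ?_)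
    rw [← map_mul, show m * m = -1 by linear_combination hd, map_neg, map_one]
  · exact main m hd

/-- In characteristic two an automorphism fixing every upper unitriangular element is conjugation
by an upper unitriangular element. -/
theorem conj_upper_of_fix [CharP F 2] (α : MulAut S)
    (h : ∀ t : F, α (SL2Classes.upper t) = SL2Classes.upper t) :
    ∃ b : F, α = MulAut.conj (SL2Classes.upper b) := by
  have hneg : (negOne : S) = 1 := Subtype.ext (by
    rw [coe_negOne, Matrix.SpecialLinearGroup.coe_one]
    ext i j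
    simp [CharTwo.neg_eq])
  have hinj : ∀ x y : S, (QuotientGroup.mk x : P) = QuotientGroup.mk y → x = y := fun x y e => by
    rcases pr_eq_iff.1 e with e' | e'
    · exact e'.symm
    · rw [hneg, one_mul] at e'; exact e'.symm
  obtain ⟨g, σ, hgs⟩ := GW.exists_semi (descend α)
  have hα : ∀ s : S, α s = slSemi g σ s := fun s => hinj _ _ (by
    rw [← descend_mk α s, hgs, semi_mk])
  have key : ∀ t : F, g.1 * !![1, σ t; 0, 1] = !![1, t; 0, 1] * g.1 := by
    intro t
    have e := congrArg Subtype.val ((hα _).symm.trans (h t))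
    rw [slSemi_coe, SL2Classes.upper_val] at e
    have em : (!![1, t; 0, 1] : Matrix (Fin 2) (Fin 2) F).map σ = !![1, σ t; 0, 1] := by
      ext i j; fin_cases i <;> fin_cases j <;> simp
    rw [em] at e
    calc g.1 * !![1, σ t; 0, 1] = g.1 * !![1, σ t; 0, 1] * g⁻¹.1 * g.1 := by
          rw [mul_assoc _ g⁻¹.1, Units.inv_mul, mul_one]
      _ = _ := by rw [e]
  have h10 : g.1 1 0 = 0 := by
    have e := congrFun (congrFun (key 1) 1) 1
    simpa [Matrix.mul_apply, Fin.sum_univ_two] using e
  have hst : ∀ t : F, g.1 0 0 * σ t = t * g.1 1 1 := fun t => by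
    have e := congrFun (congrFun (key t) 0) 1
    simp [Matrix.mul_apply, Fin.sum_univ_two] at e
    linear_combination e
  have h11 : g.1 1 1 = g.1 0 0 := by
    have e := hst 1
    rwa [map_one, mul_one, one_mul, eq_comm] at e
  have hg0 : g.1 0 0 ≠ 0 := by
    intro e
    have hd : g.1.det ≠ 0 := ((Matrix.isUnit_iff_isUnit_det _).1 g.isUnit).ne_zero
    apply hd
    rw [Matrix.det_fin_two, h11, h10, e]; ring
  have hσ : σ = 1 := RingEquiv.ext fun t => by
    show σ t = t
    refine mul_left_cancel₀ hg0 ?_
    rw [hst t, h11, mul_comm]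
  refine ⟨g.1 0 1 / g.1 0 0, MulEquiv.ext fun s => ?_⟩
  rw [hα, MulAut.conj_apply, eq_mul_inv_iff_mul_eq]
  apply Subtype.ext
  have hg : g.1 = g.1 0 0 • (SL2Classes.upper (g.1 0 1 / g.1 0 0) : S).1 := by
    rw [SL2Classes.upper_val]
    ext i j
    fin_cases i <;> fin_cases j <;> simp [h10, h11, mul_div_cancel₀ _ hg0]
  rw [Matrix.SpecialLinearGroup.coe_mul, Matrix.SpecialLinearGroup.coe_mul, slSemi_coe, hσ]
  have hmap : (s : Matrix (Fin 2) (Fin 2) F).map (1 : F ≃+* F) = s.1 := Matrix.ext fun i j => rfl
  rw [hmap]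
  refine smul_right_injective (Matrix (Fin 2) (Fin 2) F) hg0 ?_
  show g.1 0 0 • (_ : Matrix (Fin 2) (Fin 2) F) = g.1 0 0 • _
  rw [← mul_smul_comm, ← smul_mul_assoc, ← hg, mul_assoc, Units.inv_mul, mul_one]

end Cfsg.Agent.MinNonCA
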