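import Cfsg.Agent.Lib.MinNonCA.Tools
import Cfsg.Agent.Lib.MinNonCA.Two
import Cfsg.Agent.Lib.MinNonCA.Outer
import Cfsg.Agent.Lib.AbelCent.Main
import Cfsg.Agent.S2202

/-!
If the residual is proper, its Sylow 2-subgroups are not commutative.
-/

set_option autoImplicit false

namespace Cfsg.Agent.MinNonCA

open Matrix

universe u

theorem negOne_eq_one {F : Type} [Field F] [CharP F 2] :
    (SL2Inv.negOne : Matrix.SpecialLinearGroup (Fin 2) F) = 1 := Subtype.ext (by
  rw [SL2Inv.coe_negOne, Matrix.SpecialLinearGroup.coe_one]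
  ext i j
  simp [CharTwo.neg_eq])

theorem sl2_center_bot {F : Type} [Field F] [CharP F 2]
    {g : Matrix.SpecialLinearGroup (Fin 2) F}
    (h : g ∈ Subgroup.center (Matrix.SpecialLinearGroup (Fin 2) F)) : g = 1 := by
  rcases SL2Inv.mem_center_iff.1 h with e | e
  · exact e
  · rw [e, negOne_eq_one]

variable {G : Type u} [Group G] [Finite G]

/-- A perfect non-solvable group with abelian involution centralisers is `SL₂(2ⁿ)`. -/
theorem model_of_inv {D : Type u} [Group D] [Finite D] (hs : ¬ Group.IsSolvable D)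
    (hperf : commutator D = ⊤)
    (hinv : ∀ t : D, orderOf t = 2 → IsMulCommutative (Subgroup.centralizer ({t} : Set D))) :
    ∃ (F : Type) (_ : Field F) (_ : Fintype F), CharP F 2 ∧ 4 ≤ Fintype.card F ∧
      Nonempty (D ≃* Matrix.SpecialLinearGroup (Fin 2) F) := by
  haveI : Fact (Nat.Prime 2) := ⟨Nat.prime_two⟩
  obtain ⟨S⟩ : Nonempty (Sylow 2 D) := inferInstance
  have heven : Even (Nat.card D) := Nat.not_odd_iff_even.1 fun h => hs (solvable_of_odd h)
  rcases Cfsg.Agent.S2202.result heven hinv with h | h | ⟨F, i1, i2, A, i3, i4, hF, -, ⟨e⟩⟩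
  · exact absurd (solvable_of_cyclic S (h S)) hs
  · exact absurd (@solvable_of_normal_sylow D _ _ S (h S)) hs
  have hA : ∀ a : A, a = 1 := fun a => by
    let π : D →* A := (MonoidHom.snd _ A).comp e.toMonoidHom
    have hk : e.symm (1, a) ∈ π.ker :=
      Abelianization.commutator_subset_ker π (hperf ▸ Subgroup.mem_top _)
    have h1 : (e (e.symm (1, a))).2 = 1 := hk
    simpa using h1
  haveI : Subsingleton A := ⟨fun a b => (hA a).trans (hA b).symm⟩
  let e' : D ≃* Matrix.SpecialLinearGroup (Fin 2) F := MulEquiv.ofBijective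
    ((MonoidHom.fst _ A).comp e.toMonoidHom)
    ⟨fun x y h => e.injective (Prod.ext h (Subsingleton.elim _ _)),
      fun y => ⟨e.symm (y, 1), by simp⟩⟩
  refine ⟨F, i1, i2, hF, ?_, ⟨e'⟩⟩
  by_contra hlt
  obtain ⟨n, -, hn⟩ := FiniteField.card F 2
  have h2 : Fintype.card F = 2 := by
    have hle : 2 ^ 1 ≤ 2 ^ (n : ℕ) := Nat.pow_le_pow_right (by norm_num) n.pos
    have hd : 2 ∣ Fintype.card F := hn ▸ dvd_pow_self 2 n.pos.ne'
    omega
  refine hs (solvable_of_dvd_six ?_)
  rw [Nat.card_congr e'.toEquiv, Dickson.card_sl2_eq, Nat.card_eq_fintype_card, h2]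
  norm_num

/-- A perfect CA-group with abelian Sylow 2-subgroups is `SL₂(2ⁿ)`. -/
theorem residual_model {D : Type u} [Group D] [Finite D] (hs : ¬ Group.IsSolvable D)
    (hca : CA D) (hperf : commutator D = ⊤) (S : Sylow 2 D)
    (hab : IsMulCommutative (S : Subgroup D)) :
    ∃ (F : Type) (_ : Field F) (_ : Fintype F), CharP F 2 ∧ 4 ≤ Fintype.card F ∧
      Nonempty (D ≃* Matrix.SpecialLinearGroup (Fin 2) F) := by
  haveI : Fact (Nat.Prime 2) := ⟨Nat.prime_two⟩
  haveI := hab
  have hcb : ⁅(S : Subgroup D), (S : Subgroup D)⁆ = ⊥ := by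
    rw [eq_bot_iff, Subgroup.commutator_le]
    intro a ha b hb
    rw [Subgroup.mem_bot, commutatorElement_eq_one_iff_mul_comm]
    exact congrArg Subtype.val (mul_comm' (⟨a, ha⟩ : (S : Subgroup D)) ⟨b, hb⟩)
  have hinv : ∀ t : D, orderOf t = 2 → IsMulCommutative (Subgroup.centralizer ({t} : Set D)) := by
    intro t ht
    refine hca t fun htc => ?_
    have htS : t ∈ (S : Subgroup D) := mem_sylow_of_comm S (k := 1)
      (by rw [pow_one, ← ht, pow_orderOf_eq_one])
      fun s _ => (Subgroup.mem_center_iff.1 htc s).symm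
    have h1 := center_mem_derived hperf S htS htc
    rw [hcb, Subgroup.mem_bot] at h1
    rw [h1, orderOf_one] at ht
    omega
  exact model_of_inv hs hperf hinv

theorem sl2_case (hs : ¬ Group.IsSolvable G) (hp : ProperCA G) (hnc : ¬ CA G) {D : Subgroup G}
    (hD : IsRes D) (hne : D ≠ ⊤) (T : Sylow 2 G) :
    ∃ a ∈ (T : Subgroup G) ⊓ D, ∃ b ∈ (T : Subgroup G) ⊓ D, a * b ≠ b * a := by
  classical
  haveI : Fact (Nat.Prime 2) := ⟨Nat.prime_two⟩
  haveI := hD.normal
  by_contra hno
  push Not at hno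
  obtain ⟨S, hS⟩ := sylow_inf_normal T D
  have hab : IsMulCommutative (S : Subgroup D) := ⟨⟨fun a b => Subtype.ext (Subtype.ext (by
    have ha : ((a : D) : G) ∈ (T : Subgroup G) := by
      have h1 : ∀ z : D, z ∈ (S : Subgroup D) → (z : G) ∈ (T : Subgroup G) := fun z hz => by
        rw [hS] at hz
        exact hz
      exact h1 _ a.2
    have hb : ((b : D) : G) ∈ (T : Subgroup G) := by
      have h1 : ∀ z : D, z ∈ (S : Subgroup D) → (z : G) ∈ (T : Subgroup G) := fun z hz => by
        rw [hS] at hz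
        exact hz
      exact h1 _ b.2
    exact hno _ ⟨ha, (a : D).2⟩ _ ⟨hb, (b : D).2⟩))⟩⟩
  have hca : CA D := hp D hne
  obtain ⟨F, _, _, hF, h4, ⟨e⟩⟩ := residual_model hD.nonsolv hca hD.comm_top S hab
  let v : F → D := fun x => e.symm (SL2Classes.upper x)
  have hv : ∀ x, e (v x) = SL2Classes.upper x := fun x => e.apply_symm_apply _
  have hvadd : ∀ x y, v (x + y) = v x * v y := fun x y => by
    simp only [v, upper_add, map_mul]
  have hvinj : Function.Injective v := fun x y h => by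
    have := congrFun (congrFun (congrArg Subtype.val (e.symm.injective h)) 0) 1
    simpa using this
  let φ : Multiplicative F →* D := MonoidHom.mk' (fun a => v a.toAdd) fun a b => hvadd a.toAdd b.toAdd
  obtain ⟨n, -, hn⟩ := FiniteField.card F 2
  have hcard : Nat.card φ.range = 2 ^ (n : ℕ) := by
    rw [← Nat.card_congr (MonoidHom.ofInjective (f := φ)
      (fun a b h => Multiplicative.toAdd.injective (hvinj h))).toEquiv,
      Nat.card_congr Multiplicative.toAdd, Nat.card_eq_fintype_card, hn]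
  have hidx : ¬ 2 ∣ φ.range.index := by
    have h1 := Subgroup.card_mul_index φ.range
    have hcq : Nat.card F = 2 ^ (n : ℕ) := by rw [Nat.card_eq_fintype_card, hn]
    rw [hcard, Nat.card_congr e.toEquiv, Dickson.card_sl2_eq, hcq] at h1
    rw [Nat.eq_of_mul_eq_mul_left (Nat.two_pow_pos _) h1, Nat.two_dvd_ne_zero]
    obtain ⟨j, hj⟩ : Even ((2 ^ (n : ℕ)) ^ 2) :=
      (Nat.even_pow.2 ⟨even_two, n.pos.ne'⟩).pow_of_ne_zero two_ne_zero
    have := Nat.one_le_pow 2 (2 ^ (n : ℕ)) (Nat.two_pow_pos _)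
    omega
  let U : Sylow 2 D := (IsPGroup.of_card hcard).toSylow hidx
  have hU : ∀ x : D, x ∈ (U : Subgroup D) ↔ ∃ y, v y = x :=
    fun x => ⟨fun ⟨a, ha⟩ => ⟨a.toAdd, ha⟩, fun ⟨y, hy⟩ => ⟨Multiplicative.ofAdd y, hy⟩⟩
  set R := (U : Subgroup D).map D.subtype with hR
  set H := Subgroup.normalizer (R : Set G) with hH
  have hHne : H ≠ ⊤ := fun e' => by
    haveI : R.Normal := Subgroup.normalizer_eq_top_iff.1 e'
    refine hD.nonsolv (@solvable_of_normal_sylow D _ _ U ?_)
    have h := (inferInstance : R.Normal).comap D.subtype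
    rwa [hR, Subgroup.comap_map_eq_self_of_injective D.subtype_injective] at h
  have hvR : ∀ x, (v x : G) ∈ R := fun x => ⟨v x, (hU _).2 ⟨x, rfl⟩, rfl⟩
  have hvH : ∀ x, (v x : G) ∈ H := fun x => Subgroup.le_normalizer (hvR x)
  set t : G := (v 1 : G) with ht
  have hvt : ∀ x, (v x : G) * t = t * (v x : G) := fun x => by
    rw [ht, ← Subgroup.coe_mul, ← Subgroup.coe_mul, ← hvadd, ← hvadd, add_comm]
  -- the torus of `D` is in `H` and is transitive on `R`
  have htor : ∀ s : F, s ≠ 0 → ∃ d : D, (d : G) ∈ H ∧ (d : G) * t * (d : G)⁻¹ = v s := by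
    intro s hs0
    obtain ⟨r, hr⟩ := FiniteField.isSquare_of_char_two (ringChar.eq F 2) s
    have hr0 : r ≠ 0 := fun e' => hs0 (by rw [hr, e', mul_zero])
    set d : D := e.symm (dia r hr0) with hd
    have hc : ∀ x, d * v x * d⁻¹ = v (r * r * x) := fun x => by
      rw [mul_inv_eq_iff_eq_mul, hd]
      simp only [v, ← map_mul, dia_upper]
    refine ⟨d, ?_, ?_⟩
    · rw [hH, Subgroup.mem_normalizer_iff]
      intro g
      constructor
      · rintro ⟨y, hy, rfl⟩
        obtain ⟨x, rfl⟩ := (hU y).1 hy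
        exact ⟨d * v x * d⁻¹, (hU _).2 ⟨_, (hc x).symm⟩, by simp⟩
      · rintro ⟨y, hy, hye⟩
        obtain ⟨x, rfl⟩ := (hU y).1 hy
        refine ⟨d⁻¹ * v x * d, (hU _).2 ⟨x / (r * r), ?_⟩, ?_⟩
        · have h1 := hc (x / (r * r))
          rw [mul_div_cancel₀ _ (mul_ne_zero hr0 hr0)] at h1
          rw [← h1]; group
        · have hye' : (v x : G) = (d : G) * g * (d : G)⁻¹ := hye
          show (((d⁻¹ * v x * d : D) : G)) = g
          push_cast
          rw [hye']; group
    · rw [ht, ← Subgroup.coe_inv, ← Subgroup.coe_mul, ← Subgroup.coe_mul, hc, mul_one, ← hr]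
  obtain ⟨s, hs0, hs1⟩ : ∃ s : F, s ≠ 0 ∧ s ≠ 1 := by
    by_contra hcon
    push Not at hcon
    have hle : (Finset.univ : Finset F) ⊆ {0, 1} := fun s _ => by
      by_cases h0 : s = 0
      · simp [h0]
      · simp [hcon s h0]
    have := (Finset.card_le_card hle).trans Finset.card_le_two
    rw [Finset.card_univ] at this
    omega
  obtain ⟨d₀, hd₀, hd₀t⟩ := htor s hs0
  have hmove : (d₀ : G) * t ≠ t * d₀ := fun e' => hs1 (by
    rw [e', mul_inv_cancel_right, ht] at hd₀t
    exact (hvinj (Subtype.ext hd₀t)).symm)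
  have hcomm : ∀ a ∈ H, ∀ b ∈ H, a * t = t * a → b * t = t * b → a * b = b * a :=
    fun a ha b hb hat hbt => hp.comm hHne (hvH 1) ha hb hd₀ hmove hat hbt
  set K := Subgroup.centralizer (D : Set G) with hK
  have hDK : ∀ x ∈ D, ∀ k ∈ K, x * k = k * x := fun x hx k hk =>
    Subgroup.mem_centralizer_iff.1 hk x hx
  have hHle : H ≤ D ⊔ K := by
    intro h hh
    obtain ⟨y, hy, hye⟩ := (Subgroup.mem_normalizer_iff.1 hh t).1 (hvR 1)
    obtain ⟨s', rfl⟩ := (hU y).1 hy
    have hye' : (v s' : G) = h * t * h⁻¹ := hye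
    have hs' : s' ≠ 0 := fun e' => by
      have h0 : v 0 = 1 := by
        have := hvadd 0 0
        rw [add_zero] at this
        exact mul_eq_left.1 this.symm
      rw [e', h0, Subgroup.coe_one, eq_comm, conj_eq_one_iff, ht, ← Subgroup.coe_one,
        Subtype.coe_inj, ← h0] at hye'
      exact one_ne_zero (hvinj hye')
    obtain ⟨d, hd, hdt⟩ := htor s' hs'
    set c : G := (d : G)⁻¹ * h with hc
    have hcH : c ∈ H := mul_mem (inv_mem hd) hh
    have hct : c * t = t * c := by
      calc c * t = (d : G)⁻¹ * (h * t * h⁻¹) * h := by rw [hc]; group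
        _ = (d : G)⁻¹ * ((d : G) * t * (d : G)⁻¹) * h := by rw [← hye', hdt]
        _ = t * c := by rw [hc]; group
    have hcv : ∀ x, c * (v x : G) = v x * c := fun x =>
      hcomm c hcH _ (hvH x) hct (hvt x)
    let α : MulAut (Matrix.SpecialLinearGroup (Fin 2) F) :=
      MulAut.congr e (MulAut.conjNormal c)
    have hα : ∀ x : D, α (e x) = e (MulAut.conjNormal c x) := fun x => by simp [α, MulAut.congr]
    obtain ⟨b, hb⟩ := conj_upper_of_fix α fun x => by
      rw [← hv, hα]
      congr 1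
      apply Subtype.ext
      rw [MulAut.conjNormal_apply, hcv, mul_inv_cancel_right]
    have hk : (v b : G)⁻¹ * c ∈ K := by
      rw [hK, Subgroup.mem_centralizer_iff]
      intro x hx
      have h1 := hα ⟨x, hx⟩
      rw [hb, MulAut.conj_apply, ← hv, ← map_inv, ← map_mul, ← map_mul] at h1
      have h2 := congrArg Subtype.val (e.injective h1)
      rw [MulAut.conjNormal_apply] at h2
      push_cast at h2
      calc x * ((v b : G)⁻¹ * c) = (v b : G)⁻¹ * ((v b : G) * x * (v b : G)⁻¹) * c := by group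
        _ = (v b : G)⁻¹ * (c * x * c⁻¹) * c := by rw [h2]
        _ = _ := by group
    have hd' : (d : G) * (v b : G) ∈ D := mul_mem d.2 (v b).2
    rw [show h = (d : G) * (v b : G) * ((v b : G)⁻¹ * c) by rw [hc]; group]
    exact Subgroup.mul_mem_sup hd' hk
  have htop : D ⊔ K = ⊤ := by
    rw [eq_top_iff, ← (show H ⊔ D = ⊤ from Sylow.normalizer_sup_eq_top U)]
    exact sup_le hHle le_sup_left
  have hKH : K ≤ H := fun k hk => mem_normalizer_of_comm fun r hr => by
    obtain ⟨y, -, rfl⟩ := hr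
    exact (hDK _ y.2 k hk).symm
  have hKab : ∀ k ∈ K, ∀ k' ∈ K, k * k' = k' * k := fun k hk k' hk' =>
    hcomm k (hKH hk) k' (hKH hk') (hDK _ (v 1).2 k hk).symm (hDK _ (v 1).2 k' hk').symm
  have hDK1 : ∀ x ∈ D, x ∈ K → x = 1 := by
    intro x hx hxK
    have h1 : e ⟨x, hx⟩ ∈ Subgroup.center (Matrix.SpecialLinearGroup (Fin 2) F) :=
      Subgroup.mem_center_iff.2 fun g => by
        obtain ⟨y, rfl⟩ := e.surjective g
        rw [← map_mul, ← map_mul]
        exact congrArg e (Subtype.ext (hDK _ y.2 x hxK))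
    have h2 := sl2_center_bot h1
    rw [MulEquiv.map_eq_one_iff] at h2
    exact congrArg Subtype.val h2
  have hdec : ∀ g : G, ∃ d ∈ D, ∃ k ∈ K, d * k = g := fun g =>
    Subgroup.mem_sup_of_normal_left.1 (htop ▸ Subgroup.mem_top g)
  apply hnc
  intro x hx
  obtain ⟨d, hd, k, hk, rfl⟩ := hdec x
  have hdc : (⟨d, hd⟩ : D) ∉ Subgroup.center D := by
    intro hc
    have hd1 : d = 1 := hDK1 d hd (Subgroup.mem_centralizer_iff.2 fun y hy =>
      congrArg Subtype.val (Subgroup.mem_center_iff.1 hc ⟨y, hy⟩))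
    refine hx (Subgroup.mem_center_iff.2 fun g => ?_)
    obtain ⟨d', hd', k', hk', rfl⟩ := hdec g
    rw [hd1, one_mul, mul_assoc, hKab k' hk' k hk, ← mul_assoc, hDK d' hd' k hk, mul_assoc]
  have key : ∀ a : G, a * (d * k) = d * k * a → ∃ d' : D, ∃ k' ∈ K, (d' : G) * k' = a ∧
      d' * ⟨d, hd⟩ = ⟨d, hd⟩ * d' := by
    intro a ha
    obtain ⟨d', hd', k', hk', rfl⟩ := hdec a
    refine ⟨⟨d', hd'⟩, k', hk', rfl, Subtype.ext ?_⟩
    show d' * d = d * d'
    have h1 : d' * d * (k' * k) = d * d' * (k' * k) := by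
      calc d' * d * (k' * k) = d' * (d * k') * k := by group
        _ = d' * (k' * d) * k := by rw [hDK d hd k' hk']
        _ = d' * k' * (d * k) := by group
        _ = d * k * (d' * k') := ha
        _ = d * (k * d') * k' := by group
        _ = d * (d' * k) * k' := by rw [hDK d' hd' k hk]
        _ = d * d' * (k * k') := by group
        _ = d * d' * (k' * k) := by rw [hKab k hk k' hk']
    exact mul_right_cancel h1
  refine ⟨⟨fun a b => Subtype.ext ?_⟩⟩
  obtain ⟨da, ka, hka, ea, hda⟩ := key _ (Subgroup.mem_centralizer_singleton_iff.1 a.2)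
  obtain ⟨db, kb, hkb, eb, hdb⟩ := key _ (Subgroup.mem_centralizer_singleton_iff.1 b.2)
  have hdd : (da : G) * db = db * da := congrArg Subtype.val (hca.comm hdc hda hdb)
  show (a : G) * b = b * a
  rw [← ea, ← eb]
  calc (da : G) * ka * (db * kb) = da * (ka * db) * kb := by group
    _ = da * (db * ka) * kb := by rw [hDK _ db.2 ka hka]
    _ = (da * db) * (ka * kb) := by group
    _ = (db * da) * (kb * ka) := by rw [hdd, hKab ka hka kb hkb]
    _ = db * (da * kb) * ka := by group
    _ = db * (kb * da) * ka := by rw [hDK _ da.2 kb hkb]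
    _ = _ := by group

end Cfsg.Agent.MinNonCA
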