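import Cfsg.Agent.Lib.MinNonCA.Quot
import Cfsg.Agent.Lib.MinNonCA.General
import Cfsg.Agent.Lib.MinNonCA.SL2Case
import Cfsg.Agent.Lib.MinNonCA.Four
import Cfsg.Agent.Lib.MinNonCA.Cover
import Cfsg.Agent.Lib.MinNonCA.Conds

/-!
The minimal non-solvable groups without abelian centralisers.
-/

set_option autoImplicit false

namespace Cfsg.Agent.MinNonCA

universe u

variable {G : Type u} [Group G] [Finite G]

theorem ProperCA.of_equiv {H : Type*} [Group H] (e : G ≃* H) (h : ProperCA G) : ProperCA H := by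
  intro K hK
  have hne : K.comap e.toMonoidHom ≠ ⊤ := fun he =>
    hK (Subgroup.comap_injective (f := e.toMonoidHom) e.surjective
      (he.trans (Subgroup.comap_top e.toMonoidHom).symm))
  let f : K →* K.comap e.toMonoidHom :=
    (e.symm.toMonoidHom.comp K.subtype).codRestrict _ fun x => by
      show e (e.symm x) ∈ K
      rw [MulEquiv.apply_symm_apply]
      exact x.2
  exact CA.of_injective f (fun x y hxy => Subtype.ext
    (e.symm.injective (congrArg Subtype.val hxy))) (h _ hne)

/-- The four-group case. -/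
theorem four_case (hs : ¬ Group.IsSolvable G) (hp : ProperCA G) (hnc : ¬ CA G)
    (hperf : commutator G = ⊤) (T : Sylow 2 G) (hK : IsKleinFour (T : Subgroup G)) :
    ∃ (F : Type) (_ : Field F) (_ : Fintype F),
      Nonempty (G ≃* Matrix.ProjectiveSpecialLinearGroup (Fin 2) F) ∧ Cond F := by
  obtain ⟨hO, hd, hodd, h8⟩ := four_oddCore hs hp hperf T hK
  obtain ⟨L, hLn, hLs, hLnc, hLC, hLt⟩ := exists_socle (quot_center_nonsolvable hs) hd hO
  haveI := hLn
  let π : G →* G ⧸ Subgroup.center G := QuotientGroup.mk' _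
  have hperfX : commutator (G ⧸ Subgroup.center G) = ⊤ := by
    rw [commutator_def, ← Subgroup.map_top_of_surjective π (QuotientGroup.mk'_surjective _),
      ← Subgroup.map_commutator, ← commutator_def, hperf]
  have hLtop : L = ⊤ := eq_top_of_perfect_quot hperfX L (GW.quotient_solvable hLC hLt)
  subst hLtop
  rcases hLt with ⟨F, i1, i2, hFo, h3, ⟨e⟩⟩ | ⟨⟨e⟩⟩
  · let f : G →* Matrix.ProjectiveSpecialLinearGroup (Fin 2) F :=
      (Subgroup.topEquiv.symm.trans e).toMonoidHom.comp π
    have hf : Function.Surjective f :=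
      (Subgroup.topEquiv.symm.trans e).surjective.comp (QuotientGroup.mk'_surjective _)
    have hker : f.ker = Subgroup.center G := by
      ext x
      show (Subgroup.topEquiv.symm.trans e) (π x) = 1 ↔ _
      rw [MulEquiv.map_eq_one_iff]
      exact QuotientGroup.eq_one_iff x
    have h8' : ¬ 8 ∣ Nat.card (Matrix.ProjectiveSpecialLinearGroup (Fin 2) F) := by
      rwa [← Nat.card_congr (Subgroup.topEquiv.symm.trans e).toEquiv]
    have hbot := odd_cover F hFo h3 h8' hperf f hf hker.le (by rw [hker]; exact hodd)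
    let g : G ≃* Matrix.ProjectiveSpecialLinearGroup (Fin 2) F :=
      MulEquiv.ofBijective f ⟨(MonoidHom.ker_eq_bot_iff f).1 hbot, hf⟩
    exact ⟨F, i1, i2, ⟨g⟩, cond_of hFo h3 h8'
      (fun hc => hnc (CA.of_injective g.toMonoidHom g.injective hc)) (hp.of_equiv g)⟩
  · refine absurd ?_ h8
    rw [Nat.card_congr (Subgroup.topEquiv.symm.trans e).toEquiv, nat_card_alternatingGroup,
      Nat.card_fin]
    decide +kernel

/-- The forward direction. -/
theorem forward (hs : ¬ Group.IsSolvable G) (hnc : ¬ CA G) (hp : ProperCA G) :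
    ∃ (F : Type) (_ : Field F) (_ : Fintype F),
      Nonempty (G ≃* Matrix.ProjectiveSpecialLinearGroup (Fin 2) F) ∧ Cond F := by
  haveI : Fact (Nat.Prime 2) := ⟨Nat.prime_two⟩
  obtain ⟨D, hD⟩ := exists_res hs
  obtain ⟨T⟩ : Nonempty (Sylow 2 G) := inferInstance
  by_cases hDt : D = ⊤
  · have hperf := hD.top_perfect hDt
    by_cases hab : IsMulCommutative (T : Subgroup G)
    · exact four_case hs hp hnc hperf T (abelian_case hs hp hnc hperf T hab)
    · obtain ⟨S, A, u, d⟩ := perfect_data hs hp hperf hab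
      have hnaS : ¬ IsMulCommutative (S : Subgroup G) := fun h =>
        hab ⟨⟨fun a b => (T.equiv S).injective (by
          rw [map_mul, map_mul]; exact h.is_comm.comm _ _)⟩⟩
      exact (dih_false hs hp hnaS d hnc hD (res_centralizer_le hs hp hD S (Or.inl hDt))
        (hDt ▸ Subgroup.mem_top u)).elim
  · have hab := sl2_case hs hp hnc hD hDt T
    obtain ⟨S, A, u, hnaS, d, huD⟩ := general_data hs hp hD hDt T hab
    exact (dih_false hs hp hnaS d hnc hD (res_centralizer_le hs hp hD T (Or.inr hab)) huD).elim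

end Cfsg.Agent.MinNonCA
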