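import Cfsg.Agent.Lib.MinNonCA.Basic
import Cfsg.Agent.S0215

/-!
The centre of a non-abelian Sylow 2-subgroup is central.
-/

set_option autoImplicit false

namespace Cfsg.Agent.MinNonCA

universe u

variable {G : Type u} [Group G] [Finite G]

theorem two_group_zpowers {y : G} {k : ℕ} (h : y ^ 2 ^ k = 1) :
    IsPGroup 2 (Subgroup.zpowers y) := by
  obtain ⟨j, -, hj⟩ := (Nat.dvd_prime_pow Nat.prime_two).1 (orderOf_dvd_of_pow_eq_one h)
  exact IsPGroup.of_card (n := j) (by rw [Nat.card_zpowers, hj])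

theorem exists_two_pow (T : Sylow 2 G) {y : G} (hy : y ∈ (T : Subgroup G)) :
    ∃ k : ℕ, y ^ 2 ^ k = 1 := by
  obtain ⟨k, hk⟩ := T.isPGroup' ⟨y, hy⟩
  exact ⟨k, congrArg Subtype.val hk⟩

theorem mem_sylow_of_normalizes (T : Sylow 2 G) {y : G} {k : ℕ} (h : y ^ 2 ^ k = 1)
    (hn : y ∈ Subgroup.normalizer ((T : Subgroup G) : Set G)) : y ∈ (T : Subgroup G) := by
  have hp := IsPGroup.to_sup_of_normal_left' T.isPGroup' (two_group_zpowers h)
    (Subgroup.zpowers_le.2 hn)
  exact (T.is_maximal' hp le_sup_left) ▸ Subgroup.mem_sup_right (Subgroup.mem_zpowers y)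

theorem mem_normalizer_of_comm {S : Subgroup G} {y : G} (h : ∀ s ∈ S, y * s = s * y) :
    y ∈ Subgroup.normalizer (S : Set G) :=
  Subgroup.centralizer_le_normalizer _ (Subgroup.mem_centralizer_iff.2 fun s hs => (h s hs).symm)

theorem mem_sylow_of_comm (T : Sylow 2 G) {y : G} {k : ℕ} (h : y ^ 2 ^ k = 1)
    (hc : ∀ s ∈ (T : Subgroup G), y * s = s * y) : y ∈ (T : Subgroup G) :=
  mem_sylow_of_normalizes T h (mem_normalizer_of_comm hc)

/-- A 2-subgroup of a subgroup containing a Sylow 2-subgroup lies in one contained in it. -/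
theorem sylow_between (T : Sylow 2 G) {H P : Subgroup G} (hT : (T : Subgroup G) ≤ H)
    (hP : IsPGroup 2 P) (hPH : P ≤ H) :
    ∃ S : Sylow 2 G, P ≤ (S : Subgroup G) ∧ (S : Subgroup G) ≤ H := by
  haveI : Fact (Nat.Prime 2) := ⟨Nat.prime_two⟩
  obtain ⟨S0, hS0⟩ := (show IsPGroup 2 (P.subgroupOf H) from
    hP.of_equiv (Subgroup.subgroupOfEquivOfLe hPH).symm).exists_le_sylow
  obtain ⟨S, hS⟩ := (S0.isPGroup'.map H.subtype).exists_le_sylow
  have hc : Nat.card ((S0 : Subgroup H).map H.subtype) = Nat.card (T : Subgroup G) := by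
    rw [Subgroup.card_map_of_injective (Subgroup.subtype_injective _),
      Nat.card_congr (S0.equiv (T.subtype hT)).toEquiv, Sylow.coe_subtype]
    exact Nat.card_congr (Subgroup.subgroupOfEquivOfLe hT).toEquiv
  have he : (S0 : Subgroup H).map H.subtype = (S : Subgroup G) :=
    Subgroup.eq_of_le_of_card_ge hS (by rw [hc, Nat.card_congr (S.equiv T).toEquiv])
  refine ⟨S, ?_, ?_⟩
  · rw [← he]
    exact fun x hx => ⟨⟨x, hPH hx⟩, hS0 hx, rfl⟩
  · rw [← he]
    exact Subgroup.map_subtype_le _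

/-- A maximal 2-subgroup of a subgroup above a given one. -/
theorem exists_max_two {H P : Subgroup G} (hP : IsPGroup 2 P) (hPH : P ≤ H) :
    ∃ V : Subgroup G, IsPGroup 2 V ∧ P ≤ V ∧ V ≤ H ∧
      ∀ R : Subgroup G, IsPGroup 2 R → V ≤ R → R ≤ H → R = V := by
  obtain ⟨S0, hS0⟩ := (show IsPGroup 2 (P.subgroupOf H) from
    hP.of_equiv (Subgroup.subgroupOfEquivOfLe hPH).symm).exists_le_sylow
  refine ⟨(S0 : Subgroup H).map H.subtype, S0.isPGroup'.map _, fun x hx => ⟨⟨x, hPH hx⟩, hS0 hx, rfl⟩,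
    Subgroup.map_subtype_le _, fun R hR hVR hRH => ?_⟩
  have := S0.is_maximal' (show IsPGroup 2 (R.subgroupOf H) from
    hR.of_equiv (Subgroup.subgroupOfEquivOfLe hRH).symm)
    (fun x hx => hVR (Subgroup.mem_map_of_mem _ hx))
  rw [← this, Subgroup.map_subgroupOf_eq_of_le hRH]

/-- The last power of a 2-element outside a subgroup. -/
theorem last_out {S : Subgroup G} {x : G} (h : ∃ k, x ^ 2 ^ k = 1) (hx : x ∉ S) :
    ∃ j : ℕ, x ^ 2 ^ j ∉ S ∧ x ^ 2 ^ j * x ^ 2 ^ j ∈ S := by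
  obtain ⟨k, hk⟩ := h
  induction k generalizing x with
  | zero => simp at hk; exact absurd (hk ▸ one_mem S) hx
  | succ k ih =>
    by_cases h2 : x * x ∈ S
    · exact ⟨0, by simpa using hx, by simpa using h2⟩
    · obtain ⟨j, hj, hj'⟩ := ih (x := x * x) h2 (by rw [← pow_two, ← pow_mul, ← pow_succ', hk])
      refine ⟨j + 1, ?_, ?_⟩ <;> rw [pow_succ', pow_mul, pow_two] <;> assumption

theorem exists_step {T V : Subgroup G} (hT : IsPGroup 2 T) (hVT : V ≤ T) (hne : V ≠ T) :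
    ∃ w ∈ T, w ∉ V ∧ w ∈ Subgroup.normalizer (V : Set G) ∧ w * w ∈ V := by
  haveI : Fact (Nat.Prime 2) := ⟨Nat.prime_two⟩
  haveI := hT.isNilpotent
  have hlt : V.subgroupOf T < ⊤ := lt_top_iff_ne_top.2 fun e =>
    hne (le_antisymm hVT (Subgroup.subgroupOf_eq_top.1 e))
  obtain ⟨x, hxN, hxV⟩ := SetLike.exists_of_lt
    (Group.normalizerCondition_of_isNilpotent _ hlt)
  obtain ⟨k, hk⟩ := hT x
  obtain ⟨j, hj, hj'⟩ := last_out (S := V) (x := (x : G)) ⟨k, congrArg Subtype.val hk⟩ hxV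
  refine ⟨(x : G) ^ 2 ^ j, pow_mem x.2 _, hj, pow_mem ?_ _, hj'⟩
  rw [Subgroup.mem_normalizer_iff]
  intro n
  constructor
  · intro hn
    exact (Subgroup.mem_normalizer_iff.1 hxN ⟨n, hVT hn⟩).1 hn
  · intro hn
    have hnT : n ∈ T := by
      have := mul_mem (mul_mem (inv_mem x.2) (hVT hn)) x.2
      simpa [mul_assoc] using this
    exact (Subgroup.mem_normalizer_iff.1 hxN ⟨n, hnT⟩).2 hn

theorem sylow_noncomm {T : Sylow 2 G} (hna : ¬ IsMulCommutative (T : Subgroup G)) (S : Sylow 2 G) :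
    ∃ a ∈ (S : Subgroup G), ∃ b ∈ (S : Subgroup G), a * b ≠ b * a := by
  haveI : Fact (Nat.Prime 2) := ⟨Nat.prime_two⟩
  by_contra hno
  push Not at hno
  refine hna ⟨⟨fun a b => (T.equiv S).injective (Subtype.ext ?_)⟩⟩
  rw [map_mul, map_mul]
  exact hno _ (T.equiv S a).2 _ (T.equiv S b).2

variable (hs : ¬ Group.IsSolvable G) (hp : ProperCA G)

include hs hp

theorem isolated_in_sylow (T : Sylow 2 G) (hna : ¬ IsMulCommutative (T : Subgroup G)) {z : G}
    (hzT : z ∈ (T : Subgroup G)) (hzc : ∀ t ∈ (T : Subgroup G), t * z = z * t) {g : G}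
    (hg : g * z * g⁻¹ ∈ (T : Subgroup G)) : g * z * g⁻¹ = z := by
  haveI : Fact (Nat.Prime 2) := ⟨Nat.prime_two⟩
  set u := g * z * g⁻¹ with hu
  by_contra huz
  have huzc : u * z = z * u := hzc u hg
  set K := Subgroup.centralizer ({z} : Set G) ⊓ Subgroup.centralizer ({u} : Set G) with hK
  have hz2 := exists_two_pow T hzT
  obtain ⟨kz, hkz⟩ := hz2
  obtain ⟨ku, hku⟩ := exists_two_pow T hg
  have hzu : Subgroup.zpowers z ≤ K := Subgroup.zpowers_le.2 ⟨mem_C.2 rfl, mem_C.2 huzc.symm⟩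
  obtain ⟨V, hV, -, hVK, hmax⟩ := exists_max_two (H := K) (P := (T : Subgroup G) ⊓ K)
    (T.isPGroup'.to_le inf_le_left) inf_le_right
  have hTz : (T : Subgroup G) ≤ Subgroup.centralizer ({z} : Set G) := fun t ht => mem_C.2 (hzc t ht)
  obtain ⟨T', hVT', hT'z⟩ := sylow_between T hTz hV (hVK.trans inf_le_left)
  have hTu : ((g • T : Sylow 2 G) : Subgroup G) ≤ Subgroup.centralizer ({u} : Set G) := by
    intro t ht
    rw [Sylow.coe_subgroup_smul] at ht
    obtain ⟨s, hs', rfl⟩ := ht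
    apply mem_C.2
    show g * s * g⁻¹ * (g * z * g⁻¹) = g * z * g⁻¹ * (g * s * g⁻¹)
    calc g * s * g⁻¹ * (g * z * g⁻¹) = g * (s * z) * g⁻¹ := by group
      _ = g * (z * s) * g⁻¹ := by rw [hzc s hs']
      _ = _ := by group
  obtain ⟨Q, hVQ, hQu⟩ := sylow_between (g • T) hTu hV (hVK.trans inf_le_right)
  have hzV : ∀ y : G, (∃ k, y ^ 2 ^ k = 1) → y ∈ K → (∀ v ∈ V, y * v = v * y) → y ∈ V := by
    rintro y ⟨k, hk⟩ hyK hyV
    have hp2 := IsPGroup.to_sup_of_normal_left' hV (two_group_zpowers hk)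
      (Subgroup.zpowers_le.2 (mem_normalizer_of_comm hyV))
    exact hmax _ hp2 le_sup_left (sup_le hVK (Subgroup.zpowers_le.2 hyK)) ▸
      Subgroup.mem_sup_right (Subgroup.mem_zpowers y)
  have hzin : z ∈ V := hzV z ⟨kz, hkz⟩ ⟨mem_C.2 rfl, mem_C.2 huzc.symm⟩
    fun v hv => (mem_C.1 (hVK hv).1).symm
  have huin : u ∈ V := hzV u ⟨ku, hku⟩ ⟨mem_C.2 huzc, mem_C.2 rfl⟩
    fun v hv => (mem_C.1 (hVK hv).2).symm
  by_cases hVe : V = (T' : Subgroup G)
  · -- fusion in the normaliser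
    obtain ⟨n, hn, hne⟩ := T'.conj_eq_normalizer_conj_of_mem_centralizer z g⁻¹
      (Subgroup.mem_centralizer_iff.2 fun t ht => mem_C.1 (hT'z ht))
      (Subgroup.mem_centralizer_iff.2 fun t ht => by
        rw [inv_inv]
        exact mem_C.1 (hVK (hVe ▸ ht)).2)
    obtain ⟨a, ha, b, hb, hab⟩ := sylow_noncomm hna T'
    have hle : (T' : Subgroup G) ≤ Subgroup.normalizer ((T' : Subgroup G) : Set G) :=
      Subgroup.le_normalizer
    have h1 := hp.central (sylow_normalizer_ne_top hs T') (x := z) (hle (hVe ▸ hzin)) (hle ha)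
      (hle hb) (mem_C.1 (hT'z ha)) (mem_C.1 (hT'z hb)) hab n hn
    rw [inv_inv] at hne
    refine huz ?_
    rw [hu, hne, mul_assoc, ← h1, inv_mul_cancel_left]
  · obtain ⟨w, hwT, hwV, hwn, hw2⟩ := exists_step T'.isPGroup' hVT' hVe
    have hQne : V ≠ (Q : Subgroup G) := fun e => hVe (Subgroup.eq_of_le_of_card_ge hVT'
      (by rw [e, Nat.card_congr (Q.equiv T').toEquiv]))
    obtain ⟨w', hwQ, hw'V, hw'n, hw'2⟩ := exists_step Q.isPGroup' hVQ hQne
    have hwu : u * w ≠ w * u := fun e => hwV ((hmax (V ⊔ Subgroup.zpowers w)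
      (T'.isPGroup'.to_le (sup_le hVT' (Subgroup.zpowers_le.2 hwT))) le_sup_left
      (sup_le hVK (Subgroup.zpowers_le.2 ⟨hT'z hwT, mem_C.2 e.symm⟩))) ▸
      Subgroup.mem_sup_right (Subgroup.mem_zpowers w))
    have hsol := solvable_closure_two (U := V) (solvable_of_twoGroup hV) hwn hw'n hw2 hw'2
    have hH := subgroup_ne_top hs hsol
    have h1 := hp.central hH (x := z) (Subgroup.mem_sup_left hzin) (Subgroup.mem_sup_left huin)
      (Subgroup.mem_sup_right (Subgroup.subset_closure (by simp : w ∈ ({w, w'} : Set G)))) huzc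
      (mem_C.1 (hT'z hwT)) hwu w'
      (Subgroup.mem_sup_right (Subgroup.subset_closure (by simp)))
    exact hw'V ((hmax (V ⊔ Subgroup.zpowers w')
      (Q.isPGroup'.to_le (sup_le hVQ (Subgroup.zpowers_le.2 hwQ))) le_sup_left
      (sup_le hVK (Subgroup.zpowers_le.2 ⟨mem_C.2 h1, hQu hwQ⟩))) ▸
      Subgroup.mem_sup_right (Subgroup.mem_zpowers w'))

/-- The centre of a non-abelian Sylow 2-subgroup is central. -/
theorem sylow_center (T : Sylow 2 G) (hna : ¬ IsMulCommutative (T : Subgroup G)) {z : G}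
    (hzT : z ∈ (T : Subgroup G)) (hzc : ∀ t ∈ (T : Subgroup G), t * z = z * t) :
    z ∈ Subgroup.center G := by
  haveI : Fact (Nat.Prime 2) := ⟨Nat.prime_two⟩
  by_contra hz
  obtain ⟨j, hj, hj2⟩ := last_out (exists_two_pow T hzT) hz
  set x := z ^ 2 ^ j with hx
  have hxT : x ∈ (T : Subgroup G) := pow_mem hzT _
  have hxc : ∀ t ∈ (T : Subgroup G), t * x = x * t := fun t ht =>
    (show Commute t z from hzc t ht).pow_right _
  set W := Subgroup.zpowers (x * x) with hW
  have hWZ : W ≤ Subgroup.center G := Subgroup.zpowers_le.2 hj2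
  have hWT : W ≤ (T : Subgroup G) := Subgroup.zpowers_le.2 (mul_mem hxT hxT)
  haveI hWn : W.Normal := ⟨fun n hn g => by
    rw [Subgroup.mem_center_iff.1 (hWZ hn) g, mul_inv_cancel_right]
    exact hn⟩
  let π : G →* G ⧸ W := QuotientGroup.mk' W
  have hπ : Function.Surjective π := QuotientGroup.mk'_surjective W
  have h1 : ∀ y, π y = 1 ↔ y ∈ W := fun y => QuotientGroup.eq_one_iff y
  have ho : orderOf (π x) = 2 := orderOf_eq_prime
    (by rw [pow_two, ← map_mul, h1]; exact Subgroup.mem_zpowers _)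
    fun e => hj (hWZ ((h1 x).1 e))
  obtain ⟨N', hN', hN'o, hN'c⟩ := S0215.result (T.mapSurjective hπ) (π x) ho
    (Subgroup.mem_map_of_mem π hxT) (by
      intro q hq
      obtain ⟨g, rfl⟩ := hπ q
      rw [← map_inv, ← map_mul, ← map_mul] at hq ⊢
      obtain ⟨t, ht, hte⟩ := hq
      have htW : t⁻¹ * (g * x * g⁻¹) ∈ W := by
        rw [← h1, map_mul, map_inv, hte, inv_mul_cancel]
      have hgT : g * x * g⁻¹ ∈ (T : Subgroup G) := by
        simpa using mul_mem ht (hWT htW)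
      rw [isolated_in_sylow hs hp T hna hxT hxc hgT])
  set N := N'.comap π with hN
  haveI : N.Normal := hN'.comap π
  have hNsol : Group.IsSolvable N := by
    haveI : (W.subgroupOf N).Normal := hWn.subgroupOf N
    refine solvable_ext (W.subgroupOf N) ?_ (solvable_of_odd ?_)
    · exact Group.isSolvable_of_comm fun a b => Subtype.ext (Subtype.ext
        ((Subgroup.mem_center_iff.1 (hWZ a.2) ((b : N) : G)).symm))
    · rw [← Subgroup.index_eq_card, ← Subgroup.relIndex]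
      rw [show W.relIndex N = Nat.card N' from ?_]
      · exact hN'o
      · calc W.relIndex N = ((⊥ : Subgroup (G ⧸ W)).comap π).relIndex N := by
              rw [MonoidHom.comap_bot, QuotientGroup.ker_mk' W]
          _ = Nat.card N' := by
              rw [Subgroup.relIndex_comap, hN, Subgroup.map_comap_eq_self_of_surjective hπ,
                Subgroup.relIndex_bot_left]
  have hMsol := solvable_sup (N := N) hNsol (solvable_of_twoGroup T.isPGroup')
  have hM := subgroup_ne_top hs hMsol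
  obtain ⟨a, ha, b, hb, hab⟩ := sylow_noncomm hna T
  have hcent := hp.central hM (Subgroup.mem_sup_right hxT) (Subgroup.mem_sup_right ha)
    (Subgroup.mem_sup_right hb) (hxc a ha) (hxc b hb) hab
  refine hj (Subgroup.mem_center_iff.2 fun g => ?_)
  set y := g * x * g⁻¹ with hy
  have hcN : x * y⁻¹ ∈ N := by
    rw [hN, Subgroup.mem_comap, hy, show x * (g * x * g⁻¹)⁻¹ = x * g * x⁻¹ * g⁻¹ by group]
    simpa only [map_mul, map_inv] using hN'c (π g)
  have hxy : Commute x y := by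
    have := hcent _ (Subgroup.mem_sup_left hcN)
    have h2 : y⁻¹ * x = x * y⁻¹ := mul_left_cancel (a := x) (by rw [← mul_assoc, this])
    exact (Commute.inv_left_iff.1 (show Commute y⁻¹ x from h2)).symm
  obtain ⟨k, hk⟩ := exists_two_pow T hxT
  have hc2 : (x * y⁻¹) ^ 2 ^ k = 1 := by
    rw [hxy.inv_right.mul_pow, hk, one_mul, inv_pow, hy, conj_pow, hk, mul_one, mul_inv_cancel,
      inv_one]
  have hcW : x * y⁻¹ ∈ W := by
    rw [← h1]
    exact orderOf_eq_one_iff.1 (Nat.eq_one_of_dvd_coprimes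
      (Nat.Coprime.pow_left k (Nat.coprime_two_left.2 hN'o))
      (orderOf_dvd_of_pow_eq_one (by rw [← map_pow, hc2, map_one]))
      (Subgroup.orderOf_dvd_natCard N' hcN))
  have hyT : y ∈ (T : Subgroup G) := by
    have := mul_mem (inv_mem (hWT hcW)) hxT
    simpa using this
  have e := isolated_in_sylow hs hp T hna hxT hxc hyT
  nth_rewrite 2 [← e]
  rw [inv_mul_cancel_right]

end Cfsg.Agent.MinNonCA
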