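import Cfsg.Agent.Lib.MinNonCA.IdxData
import Cfsg.Agent.Lib.MinNonCA.Two
import Cfsg.Agent.Lib.Classical.SL2Involutions
import Cfsg.Agent.S2202

/-!
A perfect group with non-abelian Sylow 2-subgroups has an abelian subgroup of index two in one.
-/

set_option autoImplicit false

namespace Cfsg.Agent.MinNonCA

universe u

variable {G : Type u} [Group G] [Finite G]

variable (hs : ¬ Group.IsSolvable G) (hp : ProperCA G) (hperf : commutator G = ⊤)
  {T : Sylow 2 G} (hna : ¬ IsMulCommutative (T : Subgroup G))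

include hs hp hna in
/-- An element central modulo the centre. -/
theorem exists_second : ∃ a ∈ (T : Subgroup G), a ∉ Subgroup.center G ∧
    a * a ∈ Subgroup.center G ∧ ∀ t ∈ (T : Subgroup G), t * a * t⁻¹ * a⁻¹ ∈ Subgroup.center G := by
  haveI : Fact (Nat.Prime 2) := ⟨Nat.prime_two⟩
  have hcen : ∀ q : (T : Subgroup G), q ∈ Subgroup.center (T : Subgroup G) →
      (q : G) ∈ Subgroup.center G := fun q hq => sylow_center hs hp T hna q.2 fun t ht =>
    congrArg Subtype.val (Subgroup.mem_center_iff.1 hq ⟨t, ht⟩)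
  haveI : Nontrivial ((T : Subgroup G) ⧸ Subgroup.center (T : Subgroup G)) := by
    rw [QuotientGroup.nontrivial_iff]
    intro e
    exact hna ⟨⟨fun a b => Subgroup.mem_center_iff.1 (e ▸ Subgroup.mem_top b) a⟩⟩
  haveI := IsPGroup.center_nontrivial (T.isPGroup'.to_quotient (Subgroup.center (T : Subgroup G)))
  obtain ⟨⟨q, hq⟩, hq1⟩ := exists_ne (1 : Subgroup.center
    ((T : Subgroup G) ⧸ Subgroup.center (T : Subgroup G)))
  obtain ⟨x, rfl⟩ := QuotientGroup.mk'_surjective _ q
  have hxc : ∀ t : (T : Subgroup G), t * x * t⁻¹ * x⁻¹ ∈ Subgroup.center (T : Subgroup G) := by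
    intro t
    rw [← QuotientGroup.eq_one_iff]
    have h := Subgroup.mem_center_iff.1 hq (QuotientGroup.mk' _ t)
    show QuotientGroup.mk' _ (t * x * t⁻¹ * x⁻¹) = 1
    rw [map_mul, map_mul, map_mul, map_inv, map_inv, h, mul_inv_cancel_right, mul_inv_cancel]
  have hxZ : (x : G) ∉ Subgroup.center G := fun h => hq1 (Subtype.ext (by
    show QuotientGroup.mk' _ x = 1
    exact (QuotientGroup.eq_one_iff _).2 (Subgroup.mem_center_iff.2 fun t =>
      Subtype.ext (Subgroup.mem_center_iff.1 h (t : G)))))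
  obtain ⟨j, hj, hj2⟩ := last_out (exists_two_pow T x.2) hxZ
  refine ⟨_, pow_mem x.2 _, hj, hj2, fun t ht => ?_⟩
  have h1 : (t * (x : G) * t⁻¹ * (x : G)⁻¹) ∈ Subgroup.center G := hcen _ (hxc ⟨t, ht⟩)
  rw [comm_pow_center h1, mul_inv_cancel_right]
  exact pow_mem h1 _

include hs hp hperf hna

/-- There is an abelian subgroup of index two in some Sylow 2-subgroup. -/
theorem exists_idx : ∃ (S : Sylow 2 G) (A : Subgroup G) (u : G), Idx S A u := by
  haveI : Fact (Nat.Prime 2) := ⟨Nat.prime_two⟩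
  by_contra hno
  push Not at hno
  have hnaS : ∀ S : Sylow 2 G, ¬ IsMulCommutative (S : Subgroup G) := fun S h =>
    hna ⟨⟨fun a b => (T.equiv S).injective (by rw [map_mul, map_mul]; exact h.is_comm.comm _ _)⟩⟩
  -- for every non-central involution modulo the centre the centraliser misses two cosets
  have hsplit : ∀ (S : Sylow 2 G) (a : G), a ∈ (S : Subgroup G) → a ∉ Subgroup.center G →
      ∀ t ∈ (S : Subgroup G), t * a ≠ a * t → ∃ t' ∈ (S : Subgroup G), t' * a ≠ a * t' ∧
        (t' * t⁻¹) * a ≠ a * (t' * t⁻¹) := by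
    intro S a haS haZ t htS hta
    by_contra h
    push Not at h
    refine hno S ((S : Subgroup G) ⊓ Subgroup.centralizer ({a} : Set G)) t
      ⟨inf_le_left, fun b hb c hc => two_comm hs hp haS hb.1 hc.1 haZ (mem_C.1 hb.2) (mem_C.1 hc.2),
        htS, fun h' => hta (mem_C.1 h'.2), fun t' ht' => ?_⟩
    by_cases h1 : t' * a = a * t'
    · exact Or.inl ⟨ht', mem_C.2 h1⟩
    · have hm : t' * t⁻¹ ∈ (S : Subgroup G) := mul_mem ht' (inv_mem htS)
      exact Or.inr ⟨hm, mem_C.2 (h t' ht' h1)⟩
  let π : G →* G ⧸ Subgroup.center G := QuotientGroup.mk' _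
  have hπ : Function.Surjective π := QuotientGroup.mk'_surjective _
  have h1 : ∀ g, π g = 1 ↔ g ∈ Subgroup.center G := fun g => QuotientGroup.eq_one_iff g
  -- squares and size
  have hstruct : ∀ S : Sylow 2 G, (∀ s ∈ (S : Subgroup G), s * s ∈ Subgroup.center G) ∧
      4 < Nat.card ((S : Subgroup G).map π) := by
    intro S
    obtain ⟨a, haS, haZ, ha2, hac⟩ := exists_second hs hp (hnaS S)
    have hsqA : ∀ t ∈ (S : Subgroup G), t * t * a = a * (t * t) := by
      intro t ht
      have hc := hac t ht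
      have e1 := comm_pow_center hc 2
      rw [pow_two a, Subgroup.mem_center_iff.1 ha2 t, mul_inv_cancel_right] at e1
      have hc2 : (t * a * t⁻¹ * a⁻¹) ^ 2 = 1 := by
        exact right_eq_mul.1 e1
      have e2 := comm_conj_pow hc 2
      rw [hc2, one_mul, pow_two] at e2
      exact mul_inv_eq_iff_eq_mul.1 e2
    have hout : ∀ t ∈ (S : Subgroup G), t * a ≠ a * t → t * t ∈ Subgroup.center G := by
      intro t ht hta
      by_contra h
      exact hta (two_comm hs hp (mul_mem ht ht) ht haS h (by group) (hsqA t ht).symm)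
    have hinv : ∀ x ∈ (S : Subgroup G), ∀ t ∈ (S : Subgroup G), x * a = a * x → t * a ≠ a * t →
        t⁻¹ * x * t * x ∈ Subgroup.center G := by
      intro x hx t ht hxa hta
      have h2 := hout (t * x) (mul_mem ht hx) (fun e => hta (by
        rw [mul_assoc, hxa, ← mul_assoc, ← mul_assoc] at e
        exact mul_right_cancel e))
      rw [← h1] at h2 ⊢
      have h3 := (h1 _).2 (hout t ht hta)
      calc π (t⁻¹ * x * t * x) = (π (t * t))⁻¹ * π (t * x * (t * x)) := by
            rw [← map_inv, ← map_mul]; congr 1; group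
        _ = 1 := by rw [h2, h3, inv_one, one_mul]
    have hne : ∃ t ∈ (S : Subgroup G), t * a ≠ a * t := by
      by_contra h
      push Not at h
      exact haZ (sylow_center hs hp S (hnaS S) haS h)
    obtain ⟨t, ht, hta⟩ := hne
    obtain ⟨t', ht', ht'a, htta⟩ := hsplit S a haS haZ t ht hta
    refine ⟨fun x hx => ?_, ?_⟩
    · by_cases hxa : x * a = a * x
      swap
      · exact hout x hx hxa
      have i1 : (π t)⁻¹ * π x * π t = (π x)⁻¹ := by
        rw [eq_inv_iff_mul_eq_one, ← map_inv, ← map_mul, ← map_mul, ← map_mul, h1]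
        exact hinv x hx t ht hxa hta
      have i2 : (π t')⁻¹ * π x * π t' = (π x)⁻¹ := by
        rw [eq_inv_iff_mul_eq_one, ← map_inv, ← map_mul, ← map_mul, ← map_mul, h1]
        exact hinv x hx t' ht' hxa ht'a
      have i3 : (π (t' * t⁻¹))⁻¹ * π x * π (t' * t⁻¹) = (π x)⁻¹ := by
        rw [eq_inv_iff_mul_eq_one, ← map_inv, ← map_mul, ← map_mul, ← map_mul, h1]
        exact hinv x hx _ (mul_mem ht' (inv_mem ht)) hxa htta
      rw [map_mul, map_inv] at i3
      have e : (π t' * (π t)⁻¹)⁻¹ * π x * (π t' * (π t)⁻¹) = π x := by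
        calc (π t' * (π t)⁻¹)⁻¹ * π x * (π t' * (π t)⁻¹)
            = π t * ((π t')⁻¹ * π x * π t') * (π t)⁻¹ := by group
          _ = π t * ((π t)⁻¹ * π x * π t) * (π t)⁻¹ := by rw [i2, i1]
          _ = π x := by group
      rw [← h1, map_mul]
      nth_rewrite 2 [← e]
      rw [i3, mul_inv_cancel]
    · set H := (S : Subgroup G).map π with hH
      set K := ((S : Subgroup G) ⊓ Subgroup.centralizer ({a} : Set G)).map π with hK
      have hKH : K ≤ H := Subgroup.map_mono inf_le_left
      have hmemK : ∀ y : G, π y ∈ K → y * a = a * y := by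
        rintro y ⟨b, hb, e⟩
        have hz : b⁻¹ * y ∈ Subgroup.center G := by
          rw [← h1, map_mul, map_inv, e, inv_mul_cancel]
        have hz' := Subgroup.mem_center_iff.1 hz a
        calc y * a = b * (b⁻¹ * y * a) := by group
          _ = b * (a * (b⁻¹ * y)) := by rw [hz']
          _ = a * y := by rw [← mul_assoc, mem_C.1 hb.2]; group
      have hK2 : 2 ≤ Nat.card K := by
        haveI : Nontrivial K := ⟨⟨π a, Subgroup.mem_map_of_mem π ⟨haS, mem_C.2 rfl⟩⟩, 1,
          fun e => haZ ((h1 a).1 (congrArg Subtype.val e))⟩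
        exact Finite.one_lt_card
      have hr1 : K.relIndex H ≠ 1 := fun e => hta (hmemK t
        (Subgroup.relIndex_eq_one.1 e (Subgroup.mem_map_of_mem π ht)))
      have hr2 : K.relIndex H ≠ 2 := fun e => by
        refine htta (hmemK _ ?_)
        have := Subgroup.mul_mem_iff_of_index_two (show (K.subgroupOf H).index = 2 from e)
          (a := ⟨π t', Subgroup.mem_map_of_mem π ht'⟩)
          (b := ⟨π t⁻¹, Subgroup.mem_map_of_mem π (inv_mem ht)⟩)
        simp only [Subgroup.mem_subgroupOf, Subgroup.coe_mul, ← map_mul] at this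
        refine this.2 (iff_of_false (fun h => ht'a (hmemK _ h)) fun h => hta (hmemK t ?_))
        rw [map_inv] at h
        simpa using inv_mem h
      have hr0 : K.relIndex H ≠ 0 := Subgroup.index_ne_zero_of_finite
      rw [← PBasic.card_mul_relIndex hKH]
      calc 4 < 2 * 3 := by norm_num
        _ ≤ _ := Nat.mul_le_mul hK2 (by omega)
  have hscomm : ∀ S : Sylow 2 G, ∀ s ∈ (S : Subgroup G), ∀ t ∈ (S : Subgroup G),
      s * t * s⁻¹ * t⁻¹ ∈ Subgroup.center G := by
    intro S s hs' t ht
    have e : ∀ r ∈ (S : Subgroup G), (π r)⁻¹ = π r := fun r hr => inv_eq_of_mul_eq_one_right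
      (by rw [← map_mul, h1]; exact (hstruct S).1 r hr)
    rw [← h1, map_mul, map_mul, map_mul, map_inv, map_inv, e s hs', e t ht]
    rw [mul_assoc (π s * π t), ← map_mul, ← map_mul, h1]
    exact (hstruct S).1 _ (mul_mem hs' ht)
  -- centralisers of involutions modulo the centre
  have hmain : ∀ (S : Sylow 2 G) (x : G), x ∈ (S : Subgroup G) → x ∉ Subgroup.center G →
      ∀ g ∈ modC x, ∀ g' ∈ modC x, g * g' * g⁻¹ * g'⁻¹ ∈ Subgroup.center G := by
    intro S x hxS hxZ
    have hx2 : x * x ∈ Subgroup.center G := (hstruct S).1 x hxS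
    set M := modC x with hM
    have hMne : M ≠ ⊤ := fun e => hxZ (mem_center_of_perfect hperf fun g =>
      (by rw [← hM, e]; exact Subgroup.mem_top g))
    have hxM : x ∈ M := mem_modC_of_comm rfl
    have hSM : (S : Subgroup G) ≤ M := fun s hs' => hscomm S s hs' x hxS
    have hCx : ∀ a b, a * x = x * a → b * x = x * b → a * b = b * a := by
      intro a b hax hbx
      by_contra hab
      exact hxZ (sylow_center hs hp S (hnaS S) hxS fun s hs' =>
        hp.modC_comm hMne hax hbx hab s (hSM hs'))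
    -- odd elements of the centraliser
    let W : Subgroup G :=
      { carrier := {v | v * x = x * v ∧ ∃ m, Odd m ∧ v ^ m = 1}
        one_mem' := ⟨by rw [one_mul, mul_one], 1, odd_one, one_pow 1⟩
        mul_mem' := by
          rintro a b ⟨ha, m, hm, ham⟩ ⟨hb, n, hn, hbn⟩
          refine ⟨((show Commute a x from ha).mul_left hb).eq, m * n, hm.mul hn, ?_⟩
          rw [(show Commute a b from hCx a b ha hb).mul_pow, pow_mul, ham, one_pow, mul_comm m,
            pow_mul, hbn, one_pow, one_mul]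
        inv_mem' := by
          rintro a ⟨ha, m, hm, ham⟩
          exact ⟨((show Commute a x from ha).inv_left).eq, m, hm, by rw [inv_pow, ham, inv_one]⟩ }
    have hWodd : Odd (Nat.card W) := by
      rw [Nat.odd_iff, ← Nat.two_dvd_ne_zero]
      intro h2
      obtain ⟨w, hw⟩ := exists_prime_orderOf_dvd_card' 2 h2
      obtain ⟨m, hm, hwm⟩ := w.2.2
      have : 2 ∣ m := hw ▸ orderOf_dvd_of_pow_eq_one (Subtype.ext hwm)
      exact (Nat.not_even_iff_odd.2 hm) (even_iff_two_dvd.2 this)
    have hWM : ∀ v ∈ W, v ∈ M := fun v hv => mem_modC_of_comm hv.1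
    -- every Sylow subgroup of `M` centralises `W`
    have hSW : ∀ S' : Sylow 2 G, x ∈ (S' : Subgroup G) → (S' : Subgroup G) ≤ M →
        ∀ s ∈ (S' : Subgroup G), ∀ v ∈ W, s * v = v * s := by
      intro S' hxS' hS'M
      have hkey : ∀ v ∈ W, ∀ s ∈ (S' : Subgroup G), s * x ≠ x * s → s * v = v * s →
          ∀ r ∈ (S' : Subgroup G), r * v = v * r := fun v hv s hs' hsx hsv r hr =>
        hp.central hMne (hWM v hv) (hS'M hs') hxM hsv hv.1.symm hsx r (hS'M hr)
      have hne : ∃ t ∈ (S' : Subgroup G), t * x ≠ x * t := by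
        by_contra h
        push Not at h
        exact hxZ (sylow_center hs hp S' (hnaS S') hxS' h)
      obtain ⟨t, ht, htx⟩ := hne
      obtain ⟨t', ht', ht'x, httx⟩ := hsplit S' x hxS' hxZ t ht htx
      set Z0 := (S' : Subgroup G) ⊓ Subgroup.center G with hZ0
      haveI : Z0.Normal := ⟨fun n hn g => by
        rw [Subgroup.mem_center_iff.1 hn.2 g, mul_inv_cancel_right]
        exact hn⟩
      have hnorm : ∀ s ∈ (S' : Subgroup G), ∀ y ∈ W, s * y * s⁻¹ ∈ W := by
        rintro s hs' y ⟨hyx, m, hm, hym⟩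
        refine ⟨?_, m, hm, by rw [conj_pow, hym, mul_one, mul_inv_cancel]⟩
        have hc := hscomm S' s hs' x hxS'
        set z := s * x * s⁻¹ * x⁻¹ with hz
        have h0 : (s * y * s⁻¹) * (z * x) = (z * x) * (s * y * s⁻¹) := by
          rw [show z * x = s * x * s⁻¹ by rw [hz]; group]
          calc s * y * s⁻¹ * (s * x * s⁻¹) = s * (y * x) * s⁻¹ := by group
            _ = s * (x * y) * s⁻¹ := by rw [hyx]
            _ = _ := by group
        rw [← mul_assoc, Subgroup.mem_center_iff.1 hc (s * y * s⁻¹), mul_assoc, mul_assoc z] at h0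
        exact mul_left_cancel h0
      have hdisj : W ⊓ Z0 = ⊥ := by
        rw [eq_bot_iff]
        rintro y ⟨⟨-, m, hm, hym⟩, hyS, -⟩
        obtain ⟨k, hk⟩ := exists_two_pow S' hyS
        exact Subgroup.mem_bot.2 (orderOf_eq_one_iff.1 (Nat.eq_one_of_dvd_coprimes
          ((Nat.coprime_two_left.2 hm).pow_left k) (orderOf_dvd_of_pow_eq_one hk)
          (orderOf_dvd_of_pow_eq_one hym)))
      have hts : t' * t⁻¹ ∈ (S' : Subgroup G) := mul_mem ht' (inv_mem ht)
      have hts2 : t' * t⁻¹ * t * (t' * t⁻¹)⁻¹ * t⁻¹ ∈ (S' : Subgroup G) :=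
        mul_mem (mul_mem (mul_mem hts ht) (inv_mem hts)) (inv_mem ht)
      have hts3 : t' * t⁻¹ * (t' * t⁻¹) ∈ (S' : Subgroup G) := mul_mem hts hts
      have htt : t * t ∈ (S' : Subgroup G) := mul_mem ht ht
      have htp : t' * t⁻¹ * t ∈ (S' : Subgroup G) := mul_mem hts ht
      have hfix := fixed_of_axes (Z := Z0) (A := W) hdisj hWodd (a := t' * t⁻¹) (b := t)
        ⟨hts3, (hstruct S').1 _ hts⟩ ⟨htt, (hstruct S').1 t ht⟩
        ⟨hts2, hscomm S' _ hts t ht⟩ (hnorm _ hts) (hnorm t ht)
        (fun y hy hyt => hkey y hy _ hts httx hyt _ htp)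
        (fun y hy hyt => hkey y hy t ht htx hyt _ htp)
      intro s hs' v hv
      refine hkey v hv t' ht' ht'x ?_ s hs'
      have := hfix v hv
      rwa [inv_mul_cancel_right] at this
    -- elements of `M` commute with `W`
    set K := (Subgroup.center M : Subgroup M) with hK
    have hpow : ∀ g : M, ∃ k : ℕ, g ^ 2 ^ k ∈ Subgroup.center M := by
      intro g
      obtain ⟨y, v, hyv, hy, hv, hyvc, ⟨k, hk⟩, m, hm, hvm⟩ := exists_p_part 2 (g : G)
      refine ⟨k, Subgroup.mem_center_iff.2 fun g' => Subtype.ext ?_⟩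
      have hmo : Odd m := Nat.coprime_two_right.1 hm
      have hvM : v ∈ M := Subgroup.zpowers_le.2 g.2 hv
      have hvW : v ∈ W :=
        ⟨comm_of_coprime hvM hvm (pow_two x ▸ hx2) hm, m, hmo, hvm⟩
      have hWc : ∀ w ∈ W, ∀ h ∈ M, h * w = w * h := by
        intro w hw h hh
        obtain ⟨y', v', hyv', hy', hv', -, ⟨k', hk'⟩, m', hm', hvm'⟩ := exists_p_part 2 h
        have hy'M : y' ∈ M := Subgroup.zpowers_le.2 hh hy'
        have hv'M : v' ∈ M := Subgroup.zpowers_le.2 hh hv'
        have hv'W : v' * x = x * v' := comm_of_coprime hv'M hvm' (pow_two x ▸ hx2) hm'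
        set W2 := ((S : Subgroup G) ⊓ Subgroup.center G) ⊔ Subgroup.zpowers x with hW2
        have hW2S : W2 ≤ (S : Subgroup G) := sup_le inf_le_left (Subgroup.zpowers_le.2 hxS)
        have hy'n : y' ∈ Subgroup.normalizer (W2 : Set G) := by
          refine Subgroup.mem_normalizer_fintype fun n hn => ?_
          have hle : W2 ≤ W2.comap (MulAut.conj y').toMonoidHom := by
            refine sup_le (fun z hz => ?_) (Subgroup.zpowers_le.2 ?_)
            · show y' * z * y'⁻¹ ∈ W2
              rw [Subgroup.mem_center_iff.1 hz.2 y', mul_inv_cancel_right]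
              exact Subgroup.mem_sup_left hz
            · show y' * x * y'⁻¹ ∈ W2
              have hc : y' * x * y'⁻¹ * x⁻¹ ∈ Subgroup.center G := hy'M
              rw [show y' * x * y'⁻¹ = y' * x * y'⁻¹ * x⁻¹ * x by group]
              refine mul_mem (Subgroup.mem_sup_left ⟨?_, hc⟩)
                (Subgroup.mem_sup_right (Subgroup.mem_zpowers x))
              have e1 := comm_pow_center hc 2
              rw [pow_two x, Subgroup.mem_center_iff.1 hx2 y', mul_inv_cancel_right] at e1
              exact mem_sylow_of_comm S (k := 1) (by rw [pow_one]; exact right_eq_mul.1 e1)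
                fun s _ => (Subgroup.mem_center_iff.1 hc s).symm
          exact hle hn
        have hP2 : IsPGroup 2 ↥(W2 ⊔ Subgroup.zpowers y') := IsPGroup.to_sup_of_normal_left'
          (S.isPGroup'.to_le hW2S) (two_group_zpowers hk') (Subgroup.zpowers_le.2 hy'n)
        obtain ⟨S', hPS', hS'M⟩ := sylow_between S hSM hP2
          (sup_le (hW2S.trans hSM) (Subgroup.zpowers_le.2 hy'M))
        have e1 : y' * w = w * y' := hSW S'
          (hPS' (Subgroup.mem_sup_left (Subgroup.mem_sup_right (Subgroup.mem_zpowers x)))) hS'M y'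
          (hPS' (Subgroup.mem_sup_right (Subgroup.mem_zpowers y'))) w hw
        rw [← hyv']
        exact ((show Commute y' w from e1).mul_left (show Commute v' w from hCx v' w hv'W hw.1)).eq
      show (g' : G) * ((g : G) ^ 2 ^ k) = (g : G) ^ 2 ^ k * g'
      rw [← hyv, (show Commute y v from hyvc).mul_pow, hk, one_mul]
      exact hWc _ (pow_mem hvW _) g' g'.2
    have hMK : IsPGroup 2 (M ⧸ Subgroup.center M) := fun q => by
      obtain ⟨g, rfl⟩ := QuotientGroup.mk'_surjective _ q
      obtain ⟨k, hk⟩ := hpow g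
      exact ⟨k, by rw [← map_pow]; exact (QuotientGroup.eq_one_iff _).2 hk⟩
    obtain ⟨e, he⟩ := IsPGroup.iff_card.1 hMK
    have hTK : (S : Subgroup G).subgroupOf M ⊔ Subgroup.center M = ⊤ := by
      rw [← Subgroup.index_eq_one]
      have d1 : ((S : Subgroup G).subgroupOf M ⊔ Subgroup.center M).index ∣
          ((S : Subgroup G).subgroupOf M).index := Subgroup.index_dvd_of_le le_sup_left
      have d2 : ((S : Subgroup G).subgroupOf M ⊔ Subgroup.center M).index ∣ 2 ^ e := by
        rw [← he, ← Subgroup.index_eq_card]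
        exact Subgroup.index_dvd_of_le le_sup_right
      have d3 : ¬ 2 ∣ ((S : Subgroup G).subgroupOf M).index := fun h => S.not_dvd_index
        (h.trans (Subgroup.relIndex_dvd_index_of_le hSM))
      exact Nat.eq_one_of_dvd_coprimes
        (((Nat.prime_two.coprime_iff_not_dvd).2 d3).pow_left e) d2 d1
    intro g hg g' hg'
    obtain ⟨s, hs', c, hc, e1⟩ := Subgroup.mem_sup_of_normal_right.1
      (hTK ▸ Subgroup.mem_top (⟨g, hg⟩ : M))
    obtain ⟨s', hs'', c', hc', e2⟩ := Subgroup.mem_sup_of_normal_right.1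
      (hTK ▸ Subgroup.mem_top (⟨g', hg'⟩ : M))
    have hcc := Subgroup.mem_center_iff.1 hc
    have hcc' := Subgroup.mem_center_iff.1 hc'
    have e3 : (⟨g, hg⟩ * ⟨g', hg'⟩ * (⟨g, hg⟩ : M)⁻¹ * (⟨g', hg'⟩ : M)⁻¹) = s * s' * s⁻¹ * s'⁻¹ := by
      rw [← e1, ← e2]
      calc s * c * (s' * c') * (s * c)⁻¹ * (s' * c')⁻¹
          = s * (c * (s' * c')) * c⁻¹ * s⁻¹ * c'⁻¹ * s'⁻¹ := by group
        _ = s * ((s' * c') * c) * c⁻¹ * s⁻¹ * c'⁻¹ * s'⁻¹ := by rw [hcc (s' * c')]
        _ = s * (s' * (c' * s⁻¹)) * c'⁻¹ * s'⁻¹ := by group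
        _ = s * (s' * (s⁻¹ * c')) * c'⁻¹ * s'⁻¹ := by rw [hcc' s⁻¹]
        _ = _ := by group
    have e4 := congrArg Subtype.val e3
    simp only [Subgroup.coe_mul, Subgroup.coe_inv] at e4
    rw [e4]
    exact hscomm S _ hs' _ hs''
  -- the quotient by the centre
  haveI : Group.IsPerfect G := Group.isPerfect_def.2 hperf
  have hqs : ¬ Group.IsSolvable (G ⧸ Subgroup.center G) := quot_center_nonsolvable hs
  have heven : Even (Nat.card (G ⧸ Subgroup.center G)) := by
    by_contra h
    exact hqs (solvable_of_odd (Nat.not_even_iff_odd.1 h))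
  have hcent : ∀ t : G ⧸ Subgroup.center G, orderOf t = 2 →
      IsMulCommutative ↥(Subgroup.centralizer ({t} : Set (G ⧸ Subgroup.center G))) := by
    intro q hq
    obtain ⟨P, hP⟩ := (IsPGroup.of_card (p := 2) (n := 1)
      (by rw [Nat.card_zpowers, hq, pow_one]) : IsPGroup 2 (Subgroup.zpowers q)).exists_le_sylow
    obtain ⟨S, rfl⟩ := Sylow.mapSurjective_surjective hπ 2 P
    obtain ⟨x, hxS, hxq⟩ := hP (Subgroup.mem_zpowers q)
    have hxZ : x ∉ Subgroup.center G := fun h => by
      rw [← hxq, (h1 x).2 h, orderOf_one] at hq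
      omega
    refine ⟨⟨fun a b => Subtype.ext ?_⟩⟩
    obtain ⟨a, ha⟩ := a
    obtain ⟨b, hb⟩ := b
    show a * b = b * a
    obtain ⟨g, rfl⟩ := hπ a
    obtain ⟨g', rfl⟩ := hπ b
    have hgM : ∀ g, π g ∈ Subgroup.centralizer ({q} : Set _) → g ∈ modC x := by
      intro g hg
      rw [mem_C, ← hxq] at hg
      rw [mem_modC, ← h1, map_mul, map_mul, map_mul, map_inv, map_inv, hg, mul_inv_cancel_right,
        mul_inv_cancel]
    have h2 := (h1 _).2 (hmain S x hxS hxZ g (hgM g ha) g' (hgM g' hb))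
    rw [map_mul, map_mul, map_mul, map_inv, map_inv, mul_inv_eq_one, mul_inv_eq_iff_eq_mul] at h2
    exact h2
  rcases S2202.result heven hcent with hc | hn | ⟨F, i1, i2, A, i3, i4, hF, hA, ⟨e⟩⟩
  · exact hqs (solvable_of_cyclic _ (hc (T.mapSurjective hπ)))
  · haveI := hn (T.mapSurjective hπ)
    exact hqs (solvable_of_normal_sylow (T.mapSurjective hπ))
  · let g : G →* Matrix.SpecialLinearGroup (Fin 2) F × A := e.toMonoidHom.comp π
    let f : G →* Matrix.SpecialLinearGroup (Fin 2) F := (MonoidHom.fst _ _).comp g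
    have hf : Function.Surjective f :=
      Prod.fst_surjective.comp (e.surjective.comp hπ)
    have hA1 : ∀ y, (g y).2 = 1 := fun y => by
      show ((MonoidHom.snd _ A).comp g) y = 1
      rw [← MonoidHom.mem_ker]
      exact Abelianization.commutator_subset_ker _ (hperf ▸ Subgroup.mem_top y)
    have hk : f.ker ≤ Subgroup.center G := fun y hy => (h1 y).1 (e.injective (by
      rw [map_one]
      exact Prod.ext hy (hA1 y)))
    by_cases h4 : 4 < Fintype.card F
    · exact hnaS T (sylow_comm F h4 f hf hk T)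
    · have hcard := (hstruct T).2
      set P := (T : Subgroup G).map π with hP
      have hdvd : Nat.card P ∣ Nat.card (Matrix.SpecialLinearGroup (Fin 2) F) := by
        have hbot : Nat.card A = 1 := by
          rw [Nat.card_eq_one_iff_unique]
          refine ⟨⟨fun a b => ?_⟩, ⟨1⟩⟩
          obtain ⟨y, hy⟩ := (e.surjective.comp hπ) (1, a)
          obtain ⟨y', hy'⟩ := (e.surjective.comp hπ) (1, b)
          have ha := hA1 y
          have hb := hA1 y'
          rw [show g y = (1, a) from hy] at ha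
          rw [show g y' = (1, b) from hy'] at hb
          exact ha.trans hb.symm
        have := Subgroup.card_subgroup_dvd_card P
        rwa [Nat.card_congr e.toEquiv, Nat.card_prod, hbot, mul_one] at this
      obtain ⟨j, hj⟩ := IsPGroup.iff_card.1 (T.isPGroup'.map π : IsPGroup 2 P)
      have hq : Fintype.card F = 2 ∨ Fintype.card F = 4 := by
        haveI := hF
        obtain ⟨n, -, hn⟩ := FiniteField.card F 2
        have h2 := Fintype.one_lt_card (α := F)
        have h3 : (n : ℕ) ≤ 2 := by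
          by_contra h
          have : 2 ^ 3 ≤ 2 ^ (n : ℕ) := Nat.pow_le_pow_right two_pos (by omega)
          omega
        rw [hn]
        have := n.pos
        interval_cases hnn : (n : ℕ) <;> simp
      rw [SL2Inv.card_sl2, hj, Nat.card_eq_fintype_card] at hdvd
      rw [hj] at hcard
      have h8 : 3 ≤ j := by
        by_contra h
        have : 2 ^ j ≤ 2 ^ 2 := Nat.pow_le_pow_right two_pos (by omega)
        omega
      have h8' : 2 ^ 3 ∣ Fintype.card F * (Fintype.card F - 1) * (Fintype.card F + 1) :=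
        (Nat.pow_dvd_pow 2 h8).trans hdvd
      rcases hq with h | h <;> rw [h] at h8' <;> norm_num at h8'

/-- A perfect group with non-abelian Sylow 2-subgroups has the dihedral data. -/
theorem perfect_data : ∃ (S : Sylow 2 G) (A : Subgroup G) (u : G), Data S A u := by
  haveI : Fact (Nat.Prime 2) := ⟨Nat.prime_two⟩
  obtain ⟨S, A, u, d⟩ := exists_idx hs hp hperf hna
  have hnaS : ¬ IsMulCommutative (S : Subgroup G) := fun h =>
    hna ⟨⟨fun a b => (T.equiv S).injective (by rw [map_mul, map_mul]; exact h.is_comm.comm _ _)⟩⟩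
  exact ⟨S, A, u, d.toData hs hp hperf hnaS⟩

end Cfsg.Agent.MinNonCA
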