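import Mathlib.GroupTheory.Subgroup.Center
import Mathlib.GroupTheory.Commutator.Basic
import Mathlib.Tactic.Group
import Mathlib.Algebra.Field.Basic
import Mathlib.Tactic.FieldSimp
import Mathlib.Tactic.LinearCombination
import Mathlib.Tactic.Ring

/-!
A central extension of the additive group of a field, invariant under two suitable homotheties, has
commutative preimage.
-/

set_option autoImplicit false

namespace Cfsg.Agent.MinNonCA

variable {X : Type*} [Group X]

/-- The commutator. -/
def cm (a b : X) : X := a * b * a⁻¹ * b⁻¹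

theorem cm_central_left {a b z : X} (hz : z ∈ Subgroup.center X) : cm (a * z) b = cm a b := by
  have h := Subgroup.mem_center_iff.1 hz
  simp only [cm, mul_inv_rev]
  rw [show a * z * b = a * b * z by rw [mul_assoc, ← h b, ← mul_assoc]]
  group

theorem cm_central_right {a b z : X} (hz : z ∈ Subgroup.center X) : cm a (b * z) = cm a b := by
  have h := Subgroup.mem_center_iff.1 hz
  simp only [cm, mul_inv_rev]
  rw [show a * (b * z) * a⁻¹ = a * b * a⁻¹ * z by
    rw [← mul_assoc a b z, mul_assoc (a * b) z, ← h a⁻¹, ← mul_assoc]]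
  group

theorem cm_mul_left {a b c : X} (hc : cm b c ∈ Subgroup.center X) :
    cm (a * b) c = cm a c * cm b c := by
  have h1 : cm (a * b) c = a * cm b c * a⁻¹ * cm a c := by simp only [cm]; group
  have h2 := Subgroup.mem_center_iff.1 hc
  rw [h1, h2 a, mul_inv_cancel_right, ← h2]

theorem cm_mul_right {a b c : X} (hc : cm a c ∈ Subgroup.center X) :
    cm a (b * c) = cm a b * cm a c := by
  have h1 : cm a (b * c) = cm a b * (b * cm a c * b⁻¹) := by simp only [cm]; group
  rw [h1, Subgroup.mem_center_iff.1 hc b, mul_inv_cancel_right]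

theorem cm_conj {a b h : X} (hc : cm a b ∈ Subgroup.center X) :
    cm (h * a * h⁻¹) (h * b * h⁻¹) = cm a b := by
  have h1 : cm (h * a * h⁻¹) (h * b * h⁻¹) = h * cm a b * h⁻¹ := by simp only [cm]; group
  rw [h1, Subgroup.mem_center_iff.1 hc h, mul_inv_cancel_right]

theorem commute_of_pairing {Y F : Type*} [Group Y] [Field F] (f : X →* Y)
    (hf : Function.Surjective f) (hk : f.ker ≤ Subgroup.center X) (u : F → Y)
    (hu : ∀ x y, u (x + y) = u x * u y) {s : F} (hs : s ≠ 0) (hne : s * s + s + 1 ≠ 0) {d e : Y}
    (hd : ∀ x, d * u x = u (s * x) * d) (he : ∀ x, e * u x = u ((1 + s) * x) * e)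
    {p q : X} {x y : F} (hp : f p = u x) (hq : f q = u y) : p * q = q * p := by
  set l := Function.surjInv hf with hldef
  have hl : ∀ v, f (l v) = v := Function.surjInv_eq hf
  let C : F → F → X := fun a b => cm (l (u a)) (l (u b))
  have wd : ∀ (p q : X) (a b : F), f p = u a → f q = u b → cm p q = C a b := by
    intro p q a b hp hq
    have hz : (l (u a))⁻¹ * p ∈ Subgroup.center X :=
      hk (by rw [MonoidHom.mem_ker, map_mul, map_inv, hl, hp, inv_mul_cancel])
    have hz' : (l (u b))⁻¹ * q ∈ Subgroup.center X :=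
      hk (by rw [MonoidHom.mem_ker, map_mul, map_inv, hl, hq, inv_mul_cancel])
    have := cm_central_left (a := l (u a)) (b := q) hz
    rw [mul_inv_cancel_left] at this
    rw [this]
    have := cm_central_right (a := l (u a)) (b := l (u b)) hz'
    rwa [mul_inv_cancel_left] at this
  have hC : ∀ a b, C a b ∈ Subgroup.center X := fun a b => hk (by
    rw [MonoidHom.mem_ker]
    simp only [C, cm, map_mul, map_inv, hl]
    rw [← hu a b, add_comm, hu b a]
    group)
  have addl : ∀ a a' b, C (a + a') b = C a b * C a' b := fun a a' b => by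
    rw [← wd (l (u a) * l (u a')) (l (u b)) (a + a') b (by rw [map_mul, hl, hl, hu]) (hl _)]
    exact cm_mul_left (hC a' b)
  have addr : ∀ a b b', C a (b + b') = C a b * C a b' := fun a b b' => by
    rw [← wd (l (u a)) (l (u b) * l (u b')) a (b + b') (hl _) (by rw [map_mul, hl, hl, hu])]
    exact cm_mul_right (hC a b')
  have inv : ∀ (k : Y) (r : F), (∀ a, k * u a = u (r * a) * k) → ∀ a b,
      C (r * a) (r * b) = C a b := fun k r hr a b => by
    rw [← wd (l k * l (u a) * (l k)⁻¹) (l k * l (u b) * (l k)⁻¹) (r * a) (r * b)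
      (by rw [map_mul, map_mul, map_inv, hl, hl, hr, mul_inv_cancel_right])
      (by rw [map_mul, map_mul, map_inv, hl, hl, hr, mul_inv_cancel_right])]
    exact cm_conj (hC a b)
  have key : ∀ a b, C ((s⁻¹ + s + 1) * a) b = 1 := by
    intro a b
    have h1 := inv e (1 + s) he a b
    rw [add_mul, one_mul, add_mul, one_mul, addl, addr, addr, inv d s hd a b, mul_assoc (C a b),
      mul_eq_left] at h1
    have h2 : C a (s * b) = C (s⁻¹ * a) b := by
      conv_lhs => rw [← mul_inv_cancel_left₀ hs a]
      exact inv d s hd _ _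
    rw [add_mul, add_mul, one_mul, addl, addl, ← h2, mul_assoc]
    exact h1
  have hpos : s⁻¹ + s + 1 ≠ 0 := by
    intro h
    apply hne
    field_simp at h
    linear_combination h
  have h := key ((s⁻¹ + s + 1)⁻¹ * x) y
  rw [mul_inv_cancel_left₀ hpos, ← wd p q x y hp hq] at h
  calc p * q = cm p q * (q * p) := by simp only [cm]; group
    _ = q * p := by rw [h, one_mul]

end Cfsg.Agent.MinNonCA
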