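import Cfsg.Agent.Lib.MinNonCA.Tools
import Cfsg.Agent.Lib.GW.Main
import Cfsg.Agent.Lib.GW.AlmostTarget
import Cfsg.Agent.Lib.GW.SectionFacts

/-!
The socle of the quotient by the centre, and lifts of prime power order.
-/

set_option autoImplicit false

namespace Cfsg.Agent.MinNonCA

universe u

/-- The socle. -/
theorem exists_socle {X : Type u} [Group X] [Finite X] (hs : ¬ Group.IsSolvable X)
    (hd : GW.DihSylow X) (hO : Cfsg.oddCore X = ⊥) :
    ∃ L : Subgroup X, L.Normal ∧ IsSimpleGroup L ∧ ¬ IsMulCommutative L ∧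
      Subgroup.centralizer (L : Set X) = ⊥ ∧ GW.IsTarget L := by
  haveI : Fact (Nat.Prime 2) := ⟨Nat.prime_two⟩
  rcases GW.shape hd hO (fun L _ hL hdl => by
    haveI := hL
    obtain ⟨P, n, hn, e⟩ := hdl
    exact GW.simpleDihedral L P n hn e) with h | ⟨V, hVn, hV, -, hc⟩ | ⟨L, h1, h2, h3, h4, h5⟩
  · exact absurd (solvable_of_twoGroup h) hs
  · refine absurd ?_ hs
    haveI := hVn
    refine solvable_ext V (solvable_of_twoGroup (IsPGroup.of_card (n := 2) hV.card_four))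
      (solvable_of_dvd_six ?_)
    have h1 := Subgroup.card_mul_index V
    rw [hV.card_four, Subgroup.index_eq_card] at h1
    rcases hc with h | h
    · exact ⟨2, by omega⟩
    · exact ⟨1, by omega⟩
  · exact ⟨L, h1, h2, h3, h5, h4⟩

variable {G : Type u} [Group G] [Finite G]

/-- Lifts of elements of prime power order. -/
theorem lift_part {p : ℕ} [Fact p.Prime] (M : Subgroup G) [M.Normal] {q : G ⧸ M} {k : ℕ}
    (hq : q ^ p ^ k = 1) : ∃ y : G, QuotientGroup.mk' M y = q ∧ ∃ j : ℕ, y ^ p ^ j = 1 := by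
  obtain ⟨g, rfl⟩ := QuotientGroup.mk'_surjective M q
  obtain ⟨y, v, hyv, -, hv, -, hy, m, hm, hvm⟩ := exists_p_part p g
  refine ⟨y, ?_, hy⟩
  obtain ⟨i, rfl⟩ := hv
  have h0 : (QuotientGroup.mk' M (g ^ i)) ^ p ^ k = 1 := by
    rw [map_zpow, ← zpow_natCast, ← zpow_mul, mul_comm, zpow_mul, zpow_natCast, hq, one_zpow]
  have h1 : QuotientGroup.mk' M (g ^ i) = 1 := orderOf_eq_one_iff.1 (Nat.eq_one_of_dvd_coprimes
    (hm.pow_right k) (orderOf_dvd_of_pow_eq_one (by rw [← map_pow]; simp only at hvm; rw [hvm, map_one]))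
    (orderOf_dvd_of_pow_eq_one h0))
  refine Eq.trans ?_ (congrArg (QuotientGroup.mk' M) hyv)
  rw [map_mul]
  simp only at h1 ⊢
  rw [h1, mul_one]

/-- Lifts of elements of odd order. -/
theorem lift_odd (M : Subgroup G) [M.Normal] {q : G ⧸ M} (hq : Odd (orderOf q)) :
    ∃ y : G, QuotientGroup.mk' M y = q ∧ ∃ m : ℕ, Odd m ∧ y ^ m = 1 := by
  haveI : Fact (Nat.Prime 2) := ⟨Nat.prime_two⟩
  obtain ⟨g, rfl⟩ := QuotientGroup.mk'_surjective M q
  obtain ⟨y, v, hyv, hy, -, -, ⟨k, hk⟩, m, hm, hvm⟩ := exists_p_part 2 g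
  refine ⟨v, ?_, m, Nat.coprime_two_right.1 hm, hvm⟩
  obtain ⟨i, rfl⟩ := hy
  have h1 : QuotientGroup.mk' M (g ^ i) = 1 := orderOf_eq_one_iff.1 (Nat.eq_one_of_dvd_coprimes
    ((Nat.coprime_two_left.2 hq).pow_left k)
    (orderOf_dvd_of_pow_eq_one (by rw [← map_pow]; simp only at hk; rw [hk, map_one]))
    (by rw [map_zpow]; exact orderOf_dvd_of_pow_eq_one (by
      rw [← zpow_natCast, ← zpow_mul, mul_comm, zpow_mul, zpow_natCast, pow_orderOf_eq_one, one_zpow])))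
  refine Eq.trans ?_ (congrArg (QuotientGroup.mk' M) hyv)
  rw [map_mul]
  simp only at h1 ⊢
  rw [h1, one_mul]

omit [Finite G] in
theorem modC_iff {x g : G} : g ∈ modC x ↔
    QuotientGroup.mk' (Subgroup.center G) g * QuotientGroup.mk' (Subgroup.center G) x =
      QuotientGroup.mk' (Subgroup.center G) x * QuotientGroup.mk' (Subgroup.center G) g := by
  rw [mem_modC, ← QuotientGroup.eq_one_iff]
  show QuotientGroup.mk' _ (g * x * g⁻¹ * x⁻¹) = 1 ↔ _
  rw [map_mul, map_mul, map_mul, map_inv, map_inv, mul_inv_eq_one, mul_inv_eq_iff_eq_mul]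

end Cfsg.Agent.MinNonCA
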