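import Cfsg.Agent.Lib.MinNonCA.Covers
import Cfsg.Agent.Lib.MinNonCA.Socle
import Cfsg.Agent.Lib.MinNonCA.Outer
import Cfsg.Agent.Lib.MinNonCA.Converse

/-!
The dihedral case does not occur.
-/

set_option autoImplicit false

namespace Cfsg.Agent.MinNonCA

open Cfsg.Agent.PSL2Inv Cfsg.Agent.SL2Inv

universe u

theorem alt_seven_facts :
    ∃ c p q w : alternatingGroup (Fin 7), c * c * c = 1 ∧ c ≠ 1 ∧ p * p = 1 ∧ q * q = 1 ∧
      p * q = q * p ∧ p ≠ 1 ∧ q ≠ 1 ∧ p ≠ q ∧ c * p = p * c ∧ c * q = q * c ∧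
      w * c * w⁻¹ = c⁻¹ ∧ w * c ≠ c * w := by
  refine ⟨⟨Equiv.swap 0 1 * Equiv.swap 1 2, ?_⟩, ⟨Equiv.swap 3 4 * Equiv.swap 5 6, ?_⟩,
    ⟨Equiv.swap 3 5 * Equiv.swap 4 6, ?_⟩, ⟨Equiv.swap 1 2 * Equiv.swap 3 4, ?_⟩, ?_⟩ <;>
    first
      | exact Equiv.Perm.mem_alternatingGroup.2 (by decide +kernel)
      | decide +kernel

variable {G : Type u} [Group G] [Finite G] (hs : ¬ Group.IsSolvable G) (hp : ProperCA G)
  {T : Sylow 2 G} {A : Subgroup G} {u : G} (hna : ¬ IsMulCommutative (T : Subgroup G))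
  (d : Data T A u)

theorem conj_into (T : Sylow 2 G) {P : Subgroup G} (hP : IsPGroup 2 P) :
    ∃ g : G, ∀ x ∈ P, g * x * g⁻¹ ∈ (T : Subgroup G) := by
  haveI : Fact (Nat.Prime 2) := ⟨Nat.prime_two⟩
  obtain ⟨S, hS⟩ := hP.exists_le_sylow
  obtain ⟨g, hg⟩ := MulAction.exists_smul_eq G S T
  refine ⟨g, fun x hx => ?_⟩
  rw [← hg, Sylow.coe_subgroup_smul]
  exact ⟨x, hS hx, rfl⟩

theorem sq_center_conj {x g : G} (h : x * x ∈ Subgroup.center G) :
    g * x * g⁻¹ * (g * x * g⁻¹) ∈ Subgroup.center G := by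
  rw [show g * x * g⁻¹ * (g * x * g⁻¹) = g * (x * x) * g⁻¹ by group]
  exact (inferInstance : (Subgroup.center G).Normal).conj_mem _ h g

theorem not_center_conj {x g : G} (h : x ∉ Subgroup.center G) :
    g * x * g⁻¹ ∉ Subgroup.center G := fun hc => h (by
  simpa [mul_assoc] using (inferInstance : (Subgroup.center G).Normal).conj_mem _ hc g⁻¹)

include hs hp hna d

/-- Commuting involutions modulo the centre are congruent. -/
theorem comm_congr {y z : G} {i j : ℕ} (hy : y ^ 2 ^ i = 1) (hz : z ^ 2 ^ j = 1)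
    (hy2 : y * y ∈ Subgroup.center G) (hz2 : z * z ∈ Subgroup.center G)
    (hyZ : y ∉ Subgroup.center G) (hzZ : z ∉ Subgroup.center G) (hyz : y * z = z * y) :
    y * z ∈ Subgroup.center G := by
  haveI : Fact (Nat.Prime 2) := ⟨Nat.prime_two⟩
  have hn : z ∈ Subgroup.normalizer ((Subgroup.zpowers y : Subgroup G) : Set G) :=
    mem_normalizer_of_comm fun s hs' => by
      obtain ⟨k, rfl⟩ := hs'
      exact ((show Commute z y from hyz.symm).zpow_right k).eq
  obtain ⟨g, hg⟩ := conj_into T (IsPGroup.to_sup_of_normal_left' (two_group_zpowers hy)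
    (two_group_zpowers hz) (Subgroup.zpowers_le.2 hn))
  set y' := g * y * g⁻¹ with hy'
  set z' := g * z * g⁻¹ with hz'
  have hy'T : y' ∈ (T : Subgroup G) := hg y (Subgroup.mem_sup_left (Subgroup.mem_zpowers y))
  have hz'T : z' ∈ (T : Subgroup G) := hg z (Subgroup.mem_sup_right (Subgroup.mem_zpowers z))
  have hy'Z := not_center_conj (g := g) hyZ
  have hz'Z := not_center_conj (g := g) hzZ
  have hy'2 := sq_center_conj (g := g) hy2
  have hz'2 := sq_center_conj (g := g) hz2
  have hc : y' * z' = z' * y' := by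
    calc y' * z' = g * (y * z) * g⁻¹ := by rw [hy', hz']; group
      _ = g * (z * y) * g⁻¹ := by rw [hyz]
      _ = z' * y' := by rw [hy', hz']; group
  have key : y' * z' ∈ Subgroup.center G := by
    by_cases hyA : y' ∈ A
    · have hzA : z' ∈ A := d.cent_mem hs hp hna hyA hy'Z hz'T hc.symm
      have h1 := d.congr_of_invol hs hp hna hyA hzA hy'Z hz'Z hy'2 hz'2
      have h2 := mul_mem hy'2 h1
      rwa [show y' * y' * (y'⁻¹ * z') = y' * z' by group] at h2
    · by_cases hzA : z' ∈ A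
      · exact absurd (d.cent_mem hs hp hna hzA hz'Z hy'T hc) hyA
      · have h1 := (d.split y' hy'T).resolve_left hyA
        have h2 := (d.split z' hz'T).resolve_left hzA
        have h3 : y' * z'⁻¹ ∈ A := by
          have := A.mul_mem h1 (A.inv_mem h2)
          rwa [show y' * u⁻¹ * (z' * u⁻¹)⁻¹ = y' * z'⁻¹ by group] at this
        have h4 : y' * z'⁻¹ ∈ Subgroup.center G := by
          by_contra h
          refine hyA (d.cent_mem hs hp hna h3 h hy'T ?_)
          exact ((Commute.refl y').mul_right (show Commute y' z' from hc).inv_right).eq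
        have h5 := mul_mem h4 hz'2
        rwa [show y' * z'⁻¹ * (z' * z') = y' * z' by group] at h5
  have := (inferInstance : (Subgroup.center G).Normal).conj_mem _ key g⁻¹
  rwa [show g⁻¹ * (y' * z') * g⁻¹⁻¹ = y * z by rw [hy', hz']; group] at this

/-- Centralisers of elements which are involutions modulo the centre are abelian. -/
theorem invol_cent (hZ : ∀ x : G, (∀ g, g ∈ modC x) → x ∈ Subgroup.center G) {x : G} {i : ℕ}
    (hx : x ^ 2 ^ i = 1) (hx2 : x * x ∈ Subgroup.center G) (hxZ : x ∉ Subgroup.center G) {b c : G}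
    (hb : b * x = x * b) (hc : c * x = x * c) : b * c = c * b := by
  haveI : Fact (Nat.Prime 2) := ⟨Nat.prime_two⟩
  by_contra hne
  obtain ⟨g, hg⟩ := conj_into T (two_group_zpowers hx)
  set x' := g * x * g⁻¹ with hx'
  have hxT : x' ∈ (T : Subgroup G) := hg x (Subgroup.mem_zpowers x)
  have hxZ' := not_center_conj (g := g) hxZ
  have hxx' := sq_center_conj (g := g) hx2
  have hb' : g * b * g⁻¹ * x' = x' * (g * b * g⁻¹) := by
    calc g * b * g⁻¹ * x' = g * (b * x) * g⁻¹ := by rw [hx']; group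
      _ = g * (x * b) * g⁻¹ := by rw [hb]
      _ = _ := by rw [hx']; group
  have hc' : g * c * g⁻¹ * x' = x' * (g * c * g⁻¹) := by
    calc g * c * g⁻¹ * x' = g * (c * x) * g⁻¹ := by rw [hx']; group
      _ = g * (x * c) * g⁻¹ := by rw [hc]
      _ = _ := by rw [hx']; group
  have hne' : g * b * g⁻¹ * (g * c * g⁻¹) ≠ g * c * g⁻¹ * (g * b * g⁻¹) := fun e => hne (by
    have := congrArg (fun t => g⁻¹ * t * g) e
    simpa [mul_assoc] using this)
  have hMne : modC x' ≠ ⊤ := fun e => hxZ' (hZ x' fun y => e ▸ Subgroup.mem_top y)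
  have hcent := hp.modC_comm hMne hb' hc' hne'
  obtain ⟨a, haA, haZ, haa, hac⟩ := d.exists_central hs hp hna
  have hax : a ∈ modC x' := by
    have := inv_mem (hac x' hxT)
    rw [mem_modC]
    rwa [show (x' * a * x'⁻¹ * a⁻¹)⁻¹ = a * x' * a⁻¹ * x'⁻¹ by group] at this
  have hxA : x' ∈ A := d.cent_mem hs hp hna haA haZ hxT (hcent a hax).symm
  have hz := d.congr_of_invol hs hp hna haA hxA haZ hxZ' haa hxx'
  refine hxZ' (sylow_center hs hp T hna hxT fun t ht => hcent t ?_)
  rw [mem_modC]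
  have hzc := Subgroup.mem_center_iff.1 hz
  have e : t * x' * t⁻¹ * x'⁻¹ = t * a * t⁻¹ * a⁻¹ := by
    calc t * x' * t⁻¹ * x'⁻¹ = t * a * ((a⁻¹ * x') * t⁻¹) * (a⁻¹ * x')⁻¹ * a⁻¹ := by group
      _ = t * a * (t⁻¹ * (a⁻¹ * x')) * (a⁻¹ * x')⁻¹ * a⁻¹ := by rw [hzc t⁻¹]
      _ = _ := by group
  rw [e]
  exact hac t ht

/-- The dihedral case does not occur. -/
theorem dih_false (hnc : ¬ CA G) {D : Subgroup G} (hD : IsRes D)
    (hCD : Subgroup.centralizer (D : Set G) ≤ Subgroup.center G) (huD : u ∈ D) : False := by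
  classical
  haveI : Fact (Nat.Prime 2) := ⟨Nat.prime_two⟩
  have hd := d.dihSylow hs hp hna
  have hO := dih_oddCore hs hp hD hCD hna d huD
  obtain ⟨L, hLn, hLs, hLnc, hLC, hLt⟩ := exists_socle (quot_center_nonsolvable hs) hd hO
  haveI := hLn
  haveI := hLs
  let π : G →* G ⧸ Subgroup.center G := QuotientGroup.mk' _
  have hπ : Function.Surjective π := QuotientGroup.mk'_surjective _
  have h1 : ∀ g, π g = 1 ↔ g ∈ Subgroup.center G := fun g => QuotientGroup.eq_one_iff g
  have hZ : ∀ x : G, (∀ g, g ∈ modC x) → x ∈ Subgroup.center G := fun x hx => by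
    rw [← h1, ← Subgroup.mem_bot, ← hLC, Subgroup.mem_centralizer_iff]
    intro l _
    obtain ⟨g, rfl⟩ := hπ l
    exact modC_iff.1 (hx g)
  rcases GW.almost_target hd L hLnc hLC hLt with
    ⟨-, ⟨e⟩⟩ | ⟨F, i1, i2, hodd, h3, ι, hι, hιL, hfld⟩
  · -- the alternating group of degree seven
    obtain ⟨c, p, q, w, hc3, hc1, hp2, hq2, hpq, hp1, hq1, hpq', hcp, hcq, hwc, hwc'⟩ :=
      alt_seven_facts
    haveI : Fact (Nat.Prime 3) := ⟨Nat.prime_three⟩
    have hcm : ∀ {s t : alternatingGroup (Fin 7)}, s * t = t * s →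
        e.symm s * e.symm t = e.symm t * e.symm s := fun h => by rw [← map_mul, ← map_mul, h]
    obtain ⟨x, hx, i, hxi⟩ := lift_part (p := 3) (Subgroup.center G) (q := e.symm c) (k := 1)
      (by rw [pow_one, pow_succ, pow_two, ← map_mul, ← map_mul, hc3, map_one])
    obtain ⟨y, hy, j, hyj⟩ := lift_part (p := 2) (Subgroup.center G) (q := e.symm p) (k := 1)
      (by rw [pow_one, pow_two, ← map_mul, hp2, map_one])
    obtain ⟨z, hz, k, hzk⟩ := lift_part (p := 2) (Subgroup.center G) (q := e.symm q) (k := 1)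
      (by rw [pow_one, pow_two, ← map_mul, hq2, map_one])
    obtain ⟨v, hv⟩ := hπ (e.symm w)
    have hy2 : y * y ∈ Subgroup.center G := by rw [← h1, map_mul, hy, ← map_mul, hp2, map_one]
    have hz2 : z * z ∈ Subgroup.center G := by rw [← h1, map_mul, hz, ← map_mul, hq2, map_one]
    have hne1 : ∀ s : alternatingGroup (Fin 7), s ≠ 1 → ∀ g : G, π g = e.symm s →
        g ∉ Subgroup.center G := fun s hs' g hg hgZ =>
      hs' ((MulEquiv.map_eq_one_iff _).1 (hg.symm.trans ((h1 g).2 hgZ)))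
    have hxy : x * y = y * x := comm_of_coprime (g := x) (x := y)
      (modC_iff.2 (by rw [hx, hy]; exact hcm hcp)) hxi (pow_two y ▸ hy2)
      (Nat.Coprime.pow_left i (by norm_num))
    have hxz : x * z = z * x := comm_of_coprime (g := x) (x := z)
      (modC_iff.2 (by rw [hx, hz]; exact hcm hcq)) hxi (pow_two z ▸ hz2)
      (Nat.Coprime.pow_left i (by norm_num))
    have hyz : y * z ≠ z * y := fun h => by
      have := (h1 _).2 (comm_congr hs hp hna d hyj hzk hy2 hz2 (hne1 p hp1 y hy) (hne1 q hq1 z hz) h)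
      rw [map_mul, hy, hz, ← map_mul, MulEquiv.map_eq_one_iff] at this
      exact hpq' (by rw [← inv_eq_of_mul_eq_one_left this, inv_eq_of_mul_eq_one_right hq2])
    set H := (Subgroup.normalizer
      ((Subgroup.zpowers (e.symm c) : Subgroup (G ⧸ Subgroup.center G)) :
        Set (G ⧸ Subgroup.center G))).comap π with hH
    have hnorm : ∀ g : G, π g * e.symm c * (π g)⁻¹ ∈ Subgroup.zpowers (e.symm c) → g ∈ H := by
      intro g hg
      refine Subgroup.mem_normalizer_fintype fun n hn => ?_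
      obtain ⟨l, rfl⟩ := hn
      show π g * e.symm c ^ l * (π g)⁻¹ ∈ _
      rw [← conj_zpow]
      exact Subgroup.zpow_mem _ hg l
    have hHne : H ≠ ⊤ := fun hH' => by
      have hn : (Subgroup.zpowers (e.symm c)).Normal := by
        rw [← Subgroup.normalizer_eq_top_iff]
        exact Subgroup.comap_injective hπ (hH'.trans (Subgroup.comap_top π).symm)
      have hsimp : IsSimpleGroup (G ⧸ Subgroup.center G) :=
        e.isSimpleGroup_congr.2 (alternatingGroup.isSimpleGroup (α := Fin 7) (by simp))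
      rcases hn.eq_bot_or_eq_top with h | h
      · exact hc1 ((MulEquiv.map_eq_one_iff _).1 (Subgroup.mem_bot.1 (h ▸ Subgroup.mem_zpowers _)))
      · obtain ⟨l, hl⟩ : e.symm w ∈ Subgroup.zpowers (e.symm c) := h ▸ Subgroup.mem_top _
        refine hwc' (e.symm.injective ?_)
        rw [map_mul, map_mul, ← hl]
        exact ((Commute.refl _).zpow_left l).eq
    have hcom : ∀ g : G, π g * e.symm c = e.symm c * π g → g ∈ H := fun g hg => hnorm g (by
      rw [hg, mul_inv_cancel_right]; exact Subgroup.mem_zpowers _)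
    have hxH : x ∈ H := hcom x (by rw [hx])
    have hyH : y ∈ H := hcom y (by rw [hy]; exact (hcm hcp).symm)
    have hzH : z ∈ H := hcom z (by rw [hz]; exact (hcm hcq).symm)
    have hvH : v ∈ H := hnorm v (by
      rw [hv, ← map_inv, ← map_mul, ← map_mul, hwc, map_inv]
      exact inv_mem (Subgroup.mem_zpowers _))
    have := congrArg π (hp.central hHne hxH hyH hzH hxy.symm hxz.symm hyz v hvH)
    rw [map_mul, map_mul, hv, hx, ← map_mul, ← map_mul] at this
    exact hwc' (e.symm.injective this)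
  -- the projective special linear groups
  haveI : IsSimpleGroup (Matrix.ProjectiveSpecialLinearGroup (Fin 2) F) :=
    Matrix.ProjectiveSpecialLinearGroup.rank_two_simple (by rw [Nat.card_eq_fintype_card]; omega)
  have hncP : ¬ IsMulCommutative (Matrix.ProjectiveSpecialLinearGroup (Fin 2) F) := fun hc => by
    refine hLnc ⟨⟨fun a b => Subtype.ext (hι ?_)⟩⟩
    have ha : ι (a : G ⧸ Subgroup.center G) ∈ L.map ι := Subgroup.mem_map_of_mem ι a.2
    have hb : ι (b : G ⧸ Subgroup.center G) ∈ L.map ι := Subgroup.mem_map_of_mem ι b.2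
    rw [hιL] at ha hb
    obtain ⟨a', ha'⟩ := ha
    obtain ⟨b', hb'⟩ := hb
    rw [Subgroup.coe_mul, Subgroup.coe_mul, map_mul, map_mul, ← ha', ← hb', ← map_mul, ← map_mul,
      hc.is_comm.comm a' b']
  have hfacts := GW.socleFacts hd hncP hodd h3 L hLn hLs hLnc ι hι hιL hfld
  have hmemL : ∀ q, q ∈ L ↔ ι q ∈ Cfsg.Inn (Matrix.ProjectiveSpecialLinearGroup (Fin 2) F) :=
    fun q => by rw [← hιL, Subgroup.mem_map_iff_mem hι]
  have hinn : ∀ q ∈ L, ι q ∈ Cfsg.inndiagPSL 2 F := fun q hq => by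
    rw [GW.mem_inndiag_iff_fld]; exact GW.fldHom_inn ((hmemL q).1 hq)
  -- elements of odd order lie in the socle
  obtain ⟨v, hvL, hv2⟩ : ∃ v : G ⧸ Subgroup.center G, v ∈ L ∧ orderOf v = 2 := by
    have h2 : 2 ∣ Nat.card L := by
      by_contra h
      haveI := solvable_of_odd (Nat.odd_iff.2 (Nat.two_dvd_ne_zero.1 h) : Odd (Nat.card L))
      exact hLnc ⟨⟨IsSimpleGroup.comm_iff_isSolvable.2 inferInstance⟩⟩
    obtain ⟨v, hv⟩ := exists_prime_orderOf_dvd_card' 2 h2
    exact ⟨v, v.2, by rw [Subgroup.orderOf_coe, hv]⟩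
  have hvv : v * v = 1 := by rw [← pow_two, ← hv2, pow_orderOf_eq_one]
  have hcore : ∀ h : G ⧸ Subgroup.center G, Odd (orderOf h) → h * v = v * h → h ∈ L := by
    intro h ho hhv
    obtain ⟨h', hh', m, hm, hh'm⟩ := lift_odd (Subgroup.center G) ho
    obtain ⟨v', hv', j, hv'j⟩ := lift_part (p := 2) (Subgroup.center G) (q := v) (k := 1)
      (by rw [pow_one, pow_two, hvv])
    have hv'2 : v' * v' ∈ Subgroup.center G := by rw [← h1, map_mul, hv', hvv]
    have hv'Z : v' ∉ Subgroup.center G := fun hc => by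
      rw [← hv', (h1 v').2 hc, orderOf_one] at hv2
      omega
    have hh'v : h' * v' = v' * h' := comm_of_coprime (modC_iff.2 (by rw [hh', hv', hhv])) hh'm
      (pow_two v' ▸ hv'2) (Nat.coprime_two_right.2 hm)
    have hsq : ∀ r, r * v = v * r → h * (r * r) = r * r * h := by
      intro r hr
      obtain ⟨r', hr'⟩ := hπ r
      have hc : r' * v' * r'⁻¹ * v'⁻¹ ∈ Subgroup.center G := modC_iff.2 (by rw [hr', hv', hr])
      have e1 := comm_pow_center hc 2
      rw [pow_two v', Subgroup.mem_center_iff.1 hv'2 r', mul_inv_cancel_right] at e1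
      have e2 := comm_conj_pow hc 2
      rw [right_eq_mul.1 e1, one_mul, pow_two] at e2
      have := congrArg π (invol_cent hs hp hna d hZ hv'j hv'2 hv'Z hh'v (mul_inv_eq_iff_eq_mul.1 e2))
      simpa only [map_mul, show π h' = h from hh', show π r' = r from hr'] using this
    obtain ⟨pv, hpv⟩ := (hmemL v).1 hvL
    have hinjc : Function.Injective
        (MulAut.conj : Matrix.ProjectiveSpecialLinearGroup (Fin 2) F → MulAut _) := by
      refine (injective_iff_map_eq_one (MulAut.conj : Matrix.ProjectiveSpecialLinearGroup (Fin 2) F →*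
        MulAut _)).2 fun s hs' => ?_
      have hcen : s ∈ Subgroup.center (Matrix.ProjectiveSpecialLinearGroup (Fin 2) F) :=
        Subgroup.mem_center_iff.2 fun t => by
          have := congrArg (fun α : MulAut _ => α t) hs'
          simp only [MulAut.conj_apply, MulAut.one_apply] at this
          exact (mul_inv_eq_iff_eq_mul.1 this).symm
      rcases IsSimpleGroup.eq_bot_or_eq_top_of_normal
        (Subgroup.center (Matrix.ProjectiveSpecialLinearGroup (Fin 2) F)) inferInstance with hb | ht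
      · rwa [hb, Subgroup.mem_bot] at hcen
      · exact absurd ⟨⟨fun a b => Subgroup.mem_center_iff.1 (ht ▸ Subgroup.mem_top b) a⟩⟩ hncP
    have hpv2 : pv * pv = 1 := hinjc (by rw [map_mul, hpv, ← map_mul, hvv, map_one, map_one])
    have hpv1 : pv ≠ 1 := fun e => by
      rw [e, map_one] at hpv
      rw [(map_eq_one_iff ι hι).1 hpv.symm, orderOf_one] at hv2
      omega
    have h2F : (2 : F) ≠ 0 := two_ne_zero_of_odd hodd
    obtain ⟨c, hc⟩ := isConj_iff.1 (isConj_pr_w h2F hpv2 hpv1)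
    set β := (MulAut.conj c)⁻¹ * ι h * MulAut.conj c with hβ
    have hβo : Odd (orderOf β) := by
      have : β = MulAut.conj (MulAut.conj c)⁻¹ (ι h) := by rw [hβ]; simp
      rw [this, MulEquiv.orderOf_eq, orderOf_injective ι hι]
      exact ho
    have hfix : ∀ r, r * pr w = pr w * r → β (r * r) = r * r := by
      intro r hr
      set r0 := c * r * c⁻¹ with hr0
      have hr0v : r0 * pv = pv * r0 := by
        rw [← hc, hr0]
        calc c * r * c⁻¹ * (c * pr w * c⁻¹) = c * (r * pr w) * c⁻¹ := by group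
          _ = c * (pr w * r) * c⁻¹ := by rw [hr]
          _ = _ := by group
      obtain ⟨l, hl, hle⟩ : (MulAut.conj r0 : MulAut _) ∈ L.map ι := by
        rw [hιL]; exact ⟨r0, rfl⟩
      have hlv : l * v = v * l := hι (by rw [map_mul, map_mul, hle, ← hpv, ← map_mul, ← map_mul, hr0v])
      have h3 := congrArg ι (hsq l hlv)
      rw [map_mul, map_mul ι (l * l), map_mul, hle, ← map_mul] at h3
      have h4 : (ι h) (r0 * r0) = r0 * r0 := by
        refine hinjc (MulEquiv.ext fun t => ?_)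
        have h5 := congrArg (fun α : MulAut _ => α ((ι h).symm t)) h3
        simp only [MulAut.mul_apply, MulAut.conj_apply, map_mul, map_inv,
          MulEquiv.apply_symm_apply] at h5
        simpa using h5
      show (MulAut.conj c)⁻¹ (ι h (c * (r * r) * c⁻¹)) = r * r
      rw [show c * (r * r) * c⁻¹ = r0 * r0 by rw [hr0]; group, h4, hr0]
      show c⁻¹ * (c * r * c⁻¹ * (c * r * c⁻¹)) * c = r * r
      group
    have hσ := fld_one_of_fix hodd hβo hfix
    rw [hβ, map_mul, map_mul, map_inv,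
      GW.fldHom_inn (β := MulAut.conj c) ⟨c, rfl⟩, inv_one, one_mul, mul_one] at hσ
    rw [hmemL]
    exact GW.mem_inn_of_odd hodd ((GW.mem_inndiag_iff_fld _).2 hσ)
      (by rw [orderOf_injective ι hι]; exact ho)
  have hoddL : ∀ q : G ⧸ Subgroup.center G, Odd (orderOf q) → q ∈ L := by
    intro q ho
    obtain ⟨g, hg, hgv⟩ := hfacts.one_class (q * v * q⁻¹) v
      (hLn.conj_mem v hvL q) hvL ((orderOf_eq_prime (p := 2) (by
        rw [pow_two, show q * v * q⁻¹ * (q * v * q⁻¹) = q * (v * v) * q⁻¹ by group, hvv, mul_one,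
          mul_inv_cancel])
        fun e => by rw [conj_eq_one_iff.1 e, orderOf_one] at hv2; omega)) hv2
    set cq := g * q with hcq
    have hcv : cq * v = v * cq := by
      refine mul_inv_eq_iff_eq_mul.1 ?_
      rw [hcq, show g * q * v * (g * q)⁻¹ = g * (q * v * q⁻¹) * g⁻¹ by group, hgv]
    obtain ⟨c2, hh, hch, hc2, hhz, -, ⟨k, hk⟩, m, hm, hhm⟩ := exists_p_part 2 cq
    obtain ⟨l2, rfl⟩ := hhz
    have hhL := hcore _ ((Nat.coprime_two_right.1 hm).of_dvd_nat (orderOf_dvd_of_pow_eq_one hhm))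
      ((show Commute cq v from hcv).zpow_left l2).eq
    let ρ := QuotientGroup.mk' L
    have hρ : ρ cq = ρ q := by
      rw [hcq, map_mul, show ρ g = 1 from (QuotientGroup.eq_one_iff g).2 hg, one_mul]
    have hc2L : ρ c2 = 1 := by
      obtain ⟨l, rfl⟩ := hc2
      refine orderOf_eq_one_iff.1 (Nat.eq_one_of_dvd_coprimes
        ((Nat.coprime_two_left.2 (ho.of_dvd_nat (orderOf_map_dvd ρ q))).pow_left k)
        (orderOf_dvd_of_pow_eq_one (by rw [← map_pow]; simp only at hk; rw [hk, map_one]))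
        ((by rw [map_zpow, hρ]; exact orderOf_dvd_of_pow_eq_one (by
          rw [← zpow_natCast, ← zpow_mul, mul_comm, zpow_mul, zpow_natCast, pow_orderOf_eq_one, one_zpow]))))
    have : ρ q = 1 := by
      rw [← hρ, ← congrArg ρ hch, map_mul, hc2L, one_mul]
      exact (QuotientGroup.eq_one_iff _).2 hhL
    exact (QuotientGroup.eq_one_iff q).1 this
  -- every centraliser of a non-central element is abelian
  refine hnc fun x hxZ => ⟨⟨fun a b => Subtype.ext ?_⟩⟩
  obtain ⟨a, ha⟩ := a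
  obtain ⟨b, hb⟩ := b
  show a * b = b * a
  rw [mem_C] at ha hb
  by_contra hab
  have hox : orderOf (π x) ≠ 1 := fun e => hxZ ((h1 x).1 (orderOf_eq_one_iff.1 e))
  obtain ⟨p, hpp, n, hn⟩ := Nat.exists_prime_and_dvd hox
  haveI : Fact p.Prime := ⟨hpp⟩
  have hox1 : orderOf (π (x ^ n)) = p := by
    have hn0 : n ≠ 0 := fun e => by
      rw [e, mul_zero] at hn; exact (orderOf_pos (π x)).ne' hn
    rw [map_pow, orderOf_pow' _ hn0, hn, Nat.gcd_eq_right (Dvd.intro_left p rfl),
      Nat.mul_div_cancel _ (Nat.pos_of_ne_zero hn0)]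
  obtain ⟨y, v', hyv, hy, hv', -, ⟨k, hk⟩, m, hm, hvm⟩ := exists_p_part p (x ^ n)
  have hπy : π y = π (x ^ n) := by
    obtain ⟨l, rfl⟩ := hv'
    have h0 : π ((x ^ n) ^ l) = 1 := orderOf_eq_one_iff.1 (Nat.eq_one_of_dvd_coprimes hm
      (orderOf_dvd_of_pow_eq_one (by rw [← map_pow]; simp only at hvm; rw [hvm, map_one]))
      (orderOf_dvd_of_pow_eq_one (by
        rw [map_zpow, ← zpow_natCast, ← zpow_mul, mul_comm, zpow_mul, zpow_natCast, ← hox1,
          pow_orderOf_eq_one, one_zpow])))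
    refine Eq.trans ?_ (congrArg π hyv)
    rw [map_mul]
    simp only at h0 ⊢
    rw [h0, mul_one]
  have hyp : orderOf (π y) = p := by rw [hπy, hox1]
  have hyZ : y ∉ Subgroup.center G := fun h => hpp.one_lt.ne (by
    rw [← hyp, (h1 y).2 h, orderOf_one])
  obtain ⟨l, rfl⟩ := hy
  have hay : a * (x ^ n) ^ l = (x ^ n) ^ l * a := (((show Commute a x from ha).pow_right n).zpow_right l).eq
  have hby : b * (x ^ n) ^ l = (x ^ n) ^ l * b := (((show Commute b x from hb).pow_right n).zpow_right l).eq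
  set y := (x ^ n) ^ l
  by_cases hp2 : p = 2
  · subst hp2
    refine hab (invol_cent hs hp hna d hZ hk ?_ hyZ hay hby)
    rw [← h1, map_mul, ← pow_two, ← hyp, pow_orderOf_eq_one]
  have hpo : Odd p := hpp.odd_of_ne_two hp2
  have hyL : π y ∈ L := hoddL _ (hyp.symm ▸ hpo)
  have hy2 : π y * π y ≠ 1 := fun e => by
    have : orderOf (π y) ∣ 2 := orderOf_dvd_of_pow_eq_one (by rw [pow_two, e])
    rw [hyp] at this
    exact hp2 ((Nat.prime_dvd_prime_iff_eq hpp Nat.prime_two).1 this)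
  set E := L ⊓ Subgroup.centralizer ({π y} : Set (G ⧸ Subgroup.center G)) with hE
  have hcentL : ∀ z ∈ L, z * z ≠ 1 → ∀ r ∈ L, ∀ r' ∈ L, r * z = z * r → r' * z = z * r' →
      r * r' = r' * r := by
    intro z hz hz2 r hr r' hr' hrz hr'z
    refine hι ?_
    rw [map_mul, map_mul]
    refine GW.inndiag_centraliser_comm (hinn z hz) (fun e => hz2 (hι ?_)) (hinn r hr) (hinn r' hr')
      (by rw [← map_mul, ← map_mul, hrz]) (by rw [← map_mul, ← map_mul, hr'z])
    rw [map_mul, e, map_one]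
  have hEc : ∀ r ∈ E, ∀ r' ∈ E, r * r' = r' * r := fun r hr r' hr' =>
    hcentL _ hyL hy2 r hr.1 r' hr'.1 (mem_C.1 hr.2) (mem_C.1 hr'.2)
  set M := Subgroup.normalizer (E : Set (G ⧸ Subgroup.center G)) with hM
  have hMne : M ≠ ⊤ := fun e => by
    haveI : E.Normal := Subgroup.normalizer_eq_top_iff.1 e
    rcases (inferInstance : (E.subgroupOf L).Normal).eq_bot_or_eq_top with h | h
    · have : (⟨π y, hyL⟩ : L) ∈ (⊥ : Subgroup L) := h ▸ (show (⟨π y, hyL⟩ : L) ∈ E.subgroupOf L from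
        ⟨hyL, mem_C.2 rfl⟩)
      refine hy2 ?_
      rw [show π y = 1 from congrArg Subtype.val (Subgroup.mem_bot.1 this), one_mul]
    · exact hLnc ⟨⟨fun r r' => Subtype.ext (hEc _ (Subgroup.subgroupOf_eq_top.1 h r.2) _
        (Subgroup.subgroupOf_eq_top.1 h r'.2))⟩⟩
  have hcM : ∀ q, q * π y = π y * q → q ∈ M := by
    intro q hq
    refine Subgroup.mem_normalizer_fintype fun r hr => ⟨hLn.conj_mem r hr.1 q, mem_C.2 ?_⟩
    exact (((show Commute q (π y) from hq).mul_left (mem_C.1 hr.2)).mul_left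
      (show Commute q (π y) from hq).inv_left).eq
  have hHne : M.comap π ≠ ⊤ := fun e =>
    hMne (Subgroup.comap_injective hπ (e.trans (Subgroup.comap_top π).symm))
  have hMC : ∀ q ∈ M, q * π y = π y * q := by
    intro q hq
    obtain ⟨g, rfl⟩ := hπ q
    rw [← map_mul, ← map_mul, hp.central hHne
      (show y ∈ M.comap π from hcM _ rfl)
      (show a ∈ M.comap π from hcM _ (by rw [← map_mul, ← map_mul, hay]))
      (show b ∈ M.comap π from hcM _ (by rw [← map_mul, ← map_mul, hby])) hay hby hab g hq]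
  -- a Sylow subgroup of the socle with normaliser equal to its centraliser
  obtain ⟨Q, hQ⟩ := (IsPGroup.of_card (p := p) (n := 1) (by
    rw [Nat.card_zpowers, ← Subgroup.orderOf_coe, hyp, pow_one]) :
      IsPGroup p (Subgroup.zpowers (⟨π y, hyL⟩ : L))).exists_le_sylow
  have hyQ : (⟨π y, hyL⟩ : L) ∈ (Q : Subgroup L) := hQ (Subgroup.mem_zpowers _)
  haveI : Nontrivial (Q : Subgroup L) := ⟨⟨_, hyQ⟩, 1, fun e => hy2 (by
    rw [show π y = 1 from congrArg Subtype.val (congrArg Subtype.val e), one_mul])⟩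
  haveI := IsPGroup.center_nontrivial Q.isPGroup'
  obtain ⟨⟨⟨z, hzQ⟩, hzc⟩, hz1⟩ := exists_ne (1 : Subgroup.center (Q : Subgroup L))
  have hzcomm : ∀ r ∈ (Q : Subgroup L), r * z = z * r := fun r hr =>
    congrArg Subtype.val (Subgroup.mem_center_iff.1 hzc ⟨r, hr⟩)
  have hz2 : (z : G ⧸ Subgroup.center G) * z ≠ 1 := fun e => by
    obtain ⟨j, hj⟩ := Q.isPGroup' ⟨z, hzQ⟩
    have hj' : z ^ p ^ j = 1 := congrArg Subtype.val hj
    refine hz1 (Subtype.ext (Subtype.ext (orderOf_eq_one_iff.1 (Nat.eq_one_of_dvd_coprimes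
      ((Nat.coprime_two_right.2 hpo).pow_left j)
      (orderOf_dvd_of_pow_eq_one hj') (orderOf_dvd_of_pow_eq_one (n := 2) ?_)))))
    exact Subtype.ext (by simpa [pow_two] using e)
  have hQE : ∀ r ∈ (Q : Subgroup L), (r : G ⧸ Subgroup.center G) ∈ E := fun r hr =>
    ⟨r.2, mem_C.2 (hcentL _ z.2 hz2 r r.2 (π y) hyL (congrArg Subtype.val (hzcomm r hr))
      (congrArg Subtype.val (hzcomm _ hyQ)))⟩
  have hQN : Subgroup.normalizer ((Q : Subgroup L) : Set L) ≤
      Subgroup.centralizer ((Q : Subgroup L) : Set L) := by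
    intro g hg
    have hgM : (g : G ⧸ Subgroup.center G) ∈ M := by
      refine Subgroup.mem_normalizer_fintype fun r hr => ⟨hLn.conj_mem r hr.1 g, mem_C.2 ?_⟩
      have hm : g⁻¹ * ⟨π y, hyL⟩ * g⁻¹⁻¹ ∈ (Q : Subgroup L) :=
        (Subgroup.mem_normalizer_iff.1 (inv_mem hg) _).1 hyQ
      have h := hEc r hr _ (hQE _ hm)
      simp only [Subgroup.coe_mul, Subgroup.coe_inv, inv_inv] at h
      calc (g : G ⧸ Subgroup.center G) * r * (g : G ⧸ Subgroup.center G)⁻¹ * π y
          = g * (r * ((g : G ⧸ Subgroup.center G)⁻¹ * π y * g)) * (g : G ⧸ Subgroup.center G)⁻¹ := by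
            group
        _ = g * ((g : G ⧸ Subgroup.center G)⁻¹ * π y * g * r) * (g : G ⧸ Subgroup.center G)⁻¹ := by
            rw [h]
        _ = _ := by group
    rw [Subgroup.mem_centralizer_iff]
    intro r hr
    exact Subtype.ext (hEc _ (hQE r hr) _ ⟨g.2, mem_C.2 (hMC _ hgM)⟩)
  let f : L →* (Q : Subgroup L) := MonoidHom.transferSylow Q hQN
  rcases (inferInstance : f.ker.Normal).eq_bot_or_eq_top with h | h
  · exact hLnc ⟨⟨fun r r' => (MonoidHom.ker_eq_bot_iff f).1 h (by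
      rw [map_mul, map_mul]
      exact Subtype.ext (Subtype.ext (hEc _ (hQE _ (f r).2) _ (hQE _ (f r').2))))⟩⟩
  · have hdis := MonoidHom.ker_transferSylow_disjoint Q hQN (Q : Subgroup L) Q.isPGroup'
    rw [h, top_disjoint] at hdis
    have := Subgroup.mem_bot.1 (hdis ▸ hyQ)
    exact hy2 (by rw [show π y = 1 from congrArg Subtype.val this, one_mul])

end Cfsg.Agent.MinNonCA
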